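import Cfsg.Agent.Lib.CosetEnum.SuzOut.Defs

/-!
# A stabiliser chain check for the Suzuki sporadic group
-/

set_option autoImplicit false
set_option maxRecDepth 100000
set_option maxHeartbeats 2000000

namespace Cfsg.Lib.CosetEnum.SuzOut

theorem chainH_ok : chainOK tabH chainH [] = true := by decide +kernel

end Cfsg.Lib.CosetEnum.SuzOut
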