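import Cfsg.Agent.Lib.CosetEnum.SuzOut.CheckU
import Cfsg.Agent.Lib.CosetEnum.SuzOut.CheckH

/-!
# The checks for the outer automorphisms of the Suzuki sporadic group
-/

set_option autoImplicit false
set_option maxRecDepth 100000
set_option maxHeartbeats 2000000

namespace Cfsg.Lib.CosetEnum.SuzOut

theorem reps_ok : repsOK 1782 0 = true := by decide +kernel
theorem rows0_ok : rowsOK (rowPts.take 24) = true := by decide +kernel
theorem rows1_ok : rowsOK ((rowPts.drop 24).take 24) = true := by decide +kernel
theorem rows2_ok : rowsOK (rowPts.drop 48) = true := by decide +kernel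
theorem tabU_ok : tabOK tabU wordU 1782 0 = true := by decide +kernel
theorem tabH_ok : tabOK tabH wordH 1782 0 = true := by decide +kernel
theorem sigma_ok : sigmaOK 1782 0 = true := by decide +kernel
theorem sigmaO_ok : ((List.range 416).all fun j => inO (sigTab.get (SuzG24.orb0.getP j / B / B))) = true := by
  decide +kernel
theorem sigmaFix_ok : (Nat.beq sigFix.length 100 && nodupB sigFix && sigFix.all (fun v => Nat.blt v 1782) &&
    Nat.beq (sigTab.get 0) 0) = true := by decide +kernel
theorem sigConj0 : sigConjOK 0 1782 0 = true := by decide +kernel
theorem sigConj1 : sigConjOK 1 1782 0 = true := by decide +kernel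
theorem sigConj2 : sigConjOK 2 1782 0 = true := by decide +kernel
theorem sigConj3 : sigConjOK 3 1782 0 = true := by decide +kernel
theorem sigConj4 : sigConjOK 4 1782 0 = true := by decide +kernel
theorem sigConj5 : sigConjOK 5 1782 0 = true := by decide +kernel
theorem sigConj6 : sigConjOK 6 1782 0 = true := by decide +kernel
theorem moved_ok : movedOK 1782 0 = true := by decide +kernel
theorem elems_ok : elemsOK = true := by decide +kernel
theorem cand_ok : candOK = true := by decide +kernel
theorem excl0_ok : exclOK wordU candCode0 = true := by decide +kernel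
theorem excl1_ok : exclOK (wordU ++ wordU) candCode1 = true := by decide +kernel

end Cfsg.Lib.CosetEnum.SuzOut
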