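import Cfsg.Agent.Lib.CosetEnum.Defs

/-!
# Data for the outer automorphisms of the Suzuki sporadic group
-/

set_option autoImplicit false
set_option maxRecDepth 40000

namespace Cfsg.Lib.CosetEnum.SuzOut

/-- An element of order thirteen. -/
def wordU : List Nat :=
  [0, 1, 2, 1, 3, 4, 5]

/-- An element of order six normalising it. -/
def wordH : List Nat :=
  [5, 1, 2, 3, 2, 1, 0, 1, 4, 5, 1, 2, 3, 2, 4, 1, 5, 0, 3, 4, 2, 1, 2, 0, 1, 3, 2, 4, 3, 1, 5, 4, 5, 1, 3]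

/-- An element commuting with the second one. -/
def wordX : List Nat :=
  [3, 2, 6, 1, 2, 5, 6, 1, 2, 3, 5, 1, 0, 1, 0, 6, 4, 2, 3, 6, 2, 1, 0, 1, 0, 6, 1, 0, 6, 5, 4, 2]

/-- The generators in the three elements and two inverses. -/
def genWords : List (List Nat) :=
  [[3, 2, 0, 2, 2, 0, 2, 2, 3, 3, 2, 3, 3, 1, 2, 2, 2, 2, 2, 1, 3, 2, 2, 2, 2, 2, 2, 2, 2, 2, 2, 3, 2, 2, 2, 2, 2, 3, 4, 3, 2, 2, 2, 2, 2, 0], [3, 2, 2, 0, 0, 2, 0, 2, 2, 2, 2, 3, 1, 2, 2, 2, 2, 2, 4, 0, 1, 2, 2, 2, 2, 2, 4, 0, 3, 4, 0, 4, 4, 2, 2, 2, 2, 2, 3, 3, 0, 2, 2, 2, 2, 2, 2, 2, 2, 2, 2, 2, 2, 2, 2, 2, 3, 3], [1, 3, 2, 2, 2, 2, 0, 2, 0, 4, 0, 1, 2, 3, 1, 2, 2, 2, 2, 2, 2, 2, 2, 2, 2, 3, 2, 2, 2, 2, 2, 1, 2, 2, 2, 2, 2, 1, 2, 2, 2, 2, 2, 3, 4, 2, 2, 2, 2, 2, 2, 2, 2, 2, 2, 2, 2, 2, 2, 2, 0, 4, 1, 4, 2, 2, 2, 2, 2], [2, 3, 2, 3, 2, 3, 3, 4, 3, 2, 2, 2, 0, 2, 2, 2, 2, 2, 1, 0, 0, 1, 2, 2, 2, 2, 2, 2, 2, 2, 2, 2, 0, 0, 2, 2,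 2, 2, 2, 3, 3, 1, 1, 1, 2, 2, 2, 2, 2], [3, 2, 3, 2, 0, 0, 2, 3, 3, 2, 3, 3, 2, 0, 2, 2, 2, 2, 2, 1, 0, 2, 2, 2, 2, 2, 0, 4, 1, 4, 1, 0, 4, 2, 2, 2, 2, 2, 4, 3, 1, 3, 1, 4, 0, 3], [1, 1, 2, 0, 2, 3, 2, 2, 2, 0, 2, 2, 0, 2, 2, 2, 2, 2, 3, 2, 2, 2, 2, 2, 1, 1, 3, 0, 0, 2, 2, 2, 2, 2, 3, 4, 2, 2, 2, 2, 2, 2, 2, 2, 2, 2, 2, 2, 2, 2, 2], [0, 4, 0, 2, 3, 2, 3, 2, 2, 2, 3, 1, 2, 3, 2, 2, 2, 2, 2, 3, 1, 1, 0, 2, 2, 2, 2, 2, 2, 2, 2, 2, 2, 1, 3, 1, 3, 2, 2, 2, 2, 2, 2, 2, 2, 2, 2, 0, 3, 0, 3, 2, 2, 2, 2, 2, 1, 2, 2, 2, 2, 2, 1, 1, 4]]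

/-- The centraliser of the element of order six. -/
def candWords : List (List Nat) :=
  [[], [5, 1, 2, 3, 2, 1, 0, 1, 4, 5, 1, 2, 3, 2, 4, 1, 5, 0, 3, 4, 2, 1, 2, 0, 1, 3, 2, 4, 3, 1, 5, 4, 5, 1, 3], [2, 3, 4, 5, 1, 0, 2, 1, 0, 1, 3, 2, 4, 3, 2, 5, 4, 3, 6, 4, 6, 0, 1, 0, 1, 2, 0, 3, 1, 2, 0], [3, 2, 6, 1, 2, 5, 6, 1, 2, 3, 5, 1, 0, 1, 0, 6, 4, 2, 3, 6, 2, 1, 0, 1, 0, 6, 1, 0, 6, 5, 4, 2], [5, 1, 2, 3, 2, 1, 0, 1, 4, 5, 1, 2, 3, 2, 4, 1, 5, 0, 3, 4, 2, 1, 2, 0, 1, 3, 2, 4, 3, 1, 5, 4, 5, 1, 3, 5, 1, 2, 3, 2, 1, 0, 1, 4, 5, 1, 2, 3, 2, 4, 1, 5, 0, 3, 4, 2, 1, 2, 0, 1, 3, 2, 4, 3, 1, 5, 4, 5, 1, 3], [5, 1, 2, 3, 2, 1, 0, 1, 4, 5, 1, 2, 3, 2, 4, 1, 5, 0, 3, 4, 2, 1, 2, 0, 1, 3, 2, 4, 3, 1, 5, 4, 5, 1, 3, 2, 3, 4, 5, 1, 0, 2, 1, 0, 1, 3, 2, 4, 3, 2, 5, 4, 3, 6, 4, 6, 0, 1, 0, 1, 2, 0, 3, 1, 2, 0], [5, 1, 2, 3, 2, 1, 0, 1, 4, 5, 1, 2, 3, 2, 4, 1, 5, 0, 3, 4, 2, 1, 2, 0, 1, 3, 2, 4, 3, 1, 5, 4, 5,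 1, 3, 3, 2, 6, 1, 2, 5, 6, 1, 2, 3, 5, 1, 0, 1, 0, 6, 4, 2, 3, 6, 2, 1, 0, 1, 0, 6, 1, 0, 6, 5, 4, 2], [2, 3, 4, 5, 1, 0, 2, 1, 0, 1, 3, 2, 4, 3, 2, 5, 4, 3, 6, 4, 6, 0, 1, 0, 1, 2, 0, 3, 1, 2, 0, 3, 2, 6, 1, 2, 5, 6, 1, 2, 3, 5, 1, 0, 1, 0, 6, 4, 2, 3, 6, 2, 1, 0, 1, 0, 6, 1, 0, 6, 5, 4, 2], [3, 2, 6, 1, 2, 5, 6, 1, 2, 3, 5, 1, 0, 1, 0, 6, 4, 2, 3, 6, 2, 1, 0, 1, 0, 6, 1, 0, 6, 5, 4, 2, 2, 3, 4, 5, 1, 0, 2, 1, 0, 1, 3, 2, 4, 3, 2, 5, 4, 3, 6, 4, 6, 0, 1, 0, 1, 2, 0, 3, 1, 2, 0], [3, 2, 6, 1, 2, 5, 6, 1, 2, 3, 5, 1, 0, 1, 0, 6, 4, 2, 3, 6, 2, 1, 0, 1, 0, 6, 1, 0, 6, 5, 4, 2, 3, 2, 6, 1, 2, 5, 6, 1, 2, 3, 5, 1, 0, 1, 0, 6, 4, 2, 3, 6, 2, 1, 0, 1, 0, 6, 1, 0, 6, 5, 4, 2], [5, 1, 2, 3, 2, 1, 0, 1, 4, 5, 1, 2, 3, 2, 4, 1, 5, 0, 3, 4, 2, 1, 2, 0, 1, 3, 2, 4, 3, 1, 5, 4, 5, 1, 3, 5, 1, 2, 3, 2, 1, 0, 1, 4, 5, 1, 2, 3, 2, 4, 1, 5, 0, 3, 4, 2, 1, 2, 0, 1, 3, 2, 4, 3, 1, 5, 4, 5, 1, 3, 5, 1, 2, 3, 2,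 1, 0, 1, 4, 5, 1, 2, 3, 2, 4, 1, 5, 0, 3, 4, 2, 1, 2, 0, 1, 3, 2, 4, 3, 1, 5, 4, 5, 1, 3], [5, 1, 2, 3, 2, 1, 0, 1, 4, 5, 1, 2, 3, 2, 4, 1, 5, 0, 3, 4, 2, 1, 2, 0, 1, 3, 2, 4, 3, 1, 5, 4, 5, 1, 3, 5, 1, 2, 3, 2, 1, 0, 1, 4, 5, 1, 2, 3, 2, 4, 1, 5, 0, 3, 4, 2, 1, 2, 0, 1, 3, 2, 4, 3, 1, 5, 4, 5, 1, 3, 2, 3, 4, 5, 1, 0, 2, 1, 0, 1, 3, 2, 4, 3, 2, 5, 4, 3, 6, 4, 6, 0, 1, 0, 1, 2, 0, 3, 1, 2, 0], [5, 1, 2, 3, 2, 1, 0, 1, 4, 5, 1, 2, 3, 2, 4, 1, 5, 0, 3, 4, 2, 1, 2, 0, 1, 3, 2, 4, 3, 1, 5, 4, 5, 1, 3, 5, 1, 2, 3, 2, 1, 0, 1, 4, 5, 1, 2, 3, 2, 4, 1, 5, 0, 3, 4, 2, 1, 2, 0, 1, 3, 2, 4, 3, 1, 5, 4, 5, 1, 3, 3, 2, 6, 1, 2, 5, 6, 1, 2, 3, 5, 1, 0, 1, 0, 6, 4, 2, 3, 6, 2, 1, 0, 1, 0, 6, 1, 0, 6, 5, 4, 2], [5, 1, 2, 3, 2, 1, 0, 1, 4, 5, 1, 2, 3, 2, 4, 1, 5, 0, 3, 4, 2, 1, 2, 0, 1, 3, 2, 4, 3, 1, 5, 4, 5, 1, 3, 2, 3, 4, 5, 1, 0, 2, 1, 0, 1, 3, 2, 4, 3, 2, 5, 4, 3, 6, 4, 6, 0, 1, 0, 1, 2, 0, 3, 1, 2, 0, 3,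 2, 6, 1, 2, 5, 6, 1, 2, 3, 5, 1, 0, 1, 0, 6, 4, 2, 3, 6, 2, 1, 0, 1, 0, 6, 1, 0, 6, 5, 4, 2], [5, 1, 2, 3, 2, 1, 0, 1, 4, 5, 1, 2, 3, 2, 4, 1, 5, 0, 3, 4, 2, 1, 2, 0, 1, 3, 2, 4, 3, 1, 5, 4, 5, 1, 3, 3, 2, 6, 1, 2, 5, 6, 1, 2, 3, 5, 1, 0, 1, 0, 6, 4, 2, 3, 6, 2, 1, 0, 1, 0, 6, 1, 0, 6, 5, 4, 2, 2, 3, 4, 5, 1, 0, 2, 1, 0, 1, 3, 2, 4, 3, 2, 5, 4, 3, 6, 4, 6, 0, 1, 0, 1, 2, 0, 3, 1, 2, 0], [5, 1, 2, 3, 2, 1, 0, 1, 4, 5, 1, 2, 3, 2, 4, 1, 5, 0, 3, 4, 2, 1, 2, 0, 1, 3, 2, 4, 3, 1, 5, 4, 5, 1, 3, 3, 2, 6, 1, 2, 5, 6, 1, 2, 3, 5, 1, 0, 1, 0, 6, 4, 2, 3, 6, 2, 1, 0, 1, 0, 6, 1, 0, 6, 5, 4, 2, 3, 2, 6, 1, 2, 5, 6, 1, 2, 3, 5, 1, 0, 1, 0, 6, 4, 2, 3, 6, 2, 1, 0, 1, 0, 6, 1, 0, 6, 5, 4, 2], [2, 3, 4, 5, 1, 0, 2, 1, 0, 1, 3, 2, 4, 3, 2, 5, 4, 3, 6, 4, 6, 0, 1, 0, 1, 2, 0, 3, 1, 2, 0, 3, 2, 6, 1, 2, 5, 6, 1, 2, 3, 5, 1, 0, 1, 0, 6, 4, 2, 3, 6, 2, 1, 0, 1, 0, 6, 1, 0, 6, 5, 4, 2, 2, 3, 4, 5, 1, 0, 2, 1, 0,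 1, 3, 2, 4, 3, 2, 5, 4, 3, 6, 4, 6, 0, 1, 0, 1, 2, 0, 3, 1, 2, 0], [2, 3, 4, 5, 1, 0, 2, 1, 0, 1, 3, 2, 4, 3, 2, 5, 4, 3, 6, 4, 6, 0, 1, 0, 1, 2, 0, 3, 1, 2, 0, 3, 2, 6, 1, 2, 5, 6, 1, 2, 3, 5, 1, 0, 1, 0, 6, 4, 2, 3, 6, 2, 1, 0, 1, 0, 6, 1, 0, 6, 5, 4, 2, 3, 2, 6, 1, 2, 5, 6, 1, 2, 3, 5, 1, 0, 1, 0, 6, 4, 2, 3, 6, 2, 1, 0, 1, 0, 6, 1, 0, 6, 5, 4, 2], [3, 2, 6, 1, 2, 5, 6, 1, 2, 3, 5, 1, 0, 1, 0, 6, 4, 2, 3, 6, 2, 1, 0, 1, 0, 6, 1, 0, 6, 5, 4, 2, 2, 3, 4, 5, 1, 0, 2, 1, 0, 1, 3, 2, 4, 3, 2, 5, 4, 3, 6, 4, 6, 0, 1, 0, 1, 2, 0, 3, 1, 2, 0, 3, 2, 6, 1, 2, 5, 6, 1, 2, 3, 5, 1, 0, 1, 0, 6, 4, 2, 3, 6, 2, 1, 0, 1, 0, 6, 1, 0, 6, 5, 4, 2], [3, 2, 6, 1, 2, 5, 6, 1, 2, 3, 5, 1, 0, 1, 0, 6, 4, 2, 3, 6, 2, 1, 0, 1, 0, 6, 1, 0, 6, 5, 4, 2, 3, 2, 6, 1, 2, 5, 6, 1, 2, 3, 5, 1, 0, 1, 0, 6, 4, 2, 3, 6, 2, 1, 0, 1, 0, 6, 1, 0, 6, 5, 4, 2, 3, 2, 6, 1, 2, 5, 6, 1, 2, 3, 5, 1, 0, 1, 0, 6, 4, 2, 3, 6, 2, 1, 0, 1,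 0, 6, 1, 0, 6, 5, 4, 2], [5, 1, 2, 3, 2, 1, 0, 1, 4, 5, 1, 2, 3, 2, 4, 1, 5, 0, 3, 4, 2, 1, 2, 0, 1, 3, 2, 4, 3, 1, 5, 4, 5, 1, 3, 5, 1, 2, 3, 2, 1, 0, 1, 4, 5, 1, 2, 3, 2, 4, 1, 5, 0, 3, 4, 2, 1, 2, 0, 1, 3, 2, 4, 3, 1, 5, 4, 5, 1, 3, 5, 1, 2, 3, 2, 1, 0, 1, 4, 5, 1, 2, 3, 2, 4, 1, 5, 0, 3, 4, 2, 1, 2, 0, 1, 3, 2, 4, 3, 1, 5, 4, 5, 1, 3, 5, 1, 2, 3, 2, 1, 0, 1, 4, 5, 1, 2, 3, 2, 4, 1, 5, 0, 3, 4, 2, 1, 2, 0, 1, 3, 2, 4, 3, 1, 5, 4, 5, 1, 3], [5, 1, 2, 3, 2, 1, 0, 1, 4, 5, 1, 2, 3, 2, 4, 1, 5, 0, 3, 4, 2, 1, 2, 0, 1, 3, 2, 4, 3, 1, 5, 4, 5, 1, 3, 5, 1, 2, 3, 2, 1, 0, 1, 4, 5, 1, 2, 3, 2, 4, 1, 5, 0, 3, 4, 2, 1, 2, 0, 1, 3, 2, 4, 3, 1, 5, 4, 5, 1, 3, 5, 1, 2, 3, 2, 1, 0, 1, 4, 5, 1, 2, 3, 2, 4, 1, 5, 0, 3, 4, 2, 1, 2, 0, 1, 3, 2, 4, 3, 1, 5, 4, 5, 1, 3, 2, 3, 4, 5, 1, 0, 2, 1, 0, 1, 3, 2, 4, 3, 2, 5, 4, 3, 6, 4, 6, 0, 1, 0, 1, 2, 0, 3, 1, 2, 0], [5, 1, 2, 3, 2, 1, 0, 1, 4, 5, 1, 2, 3, 2, 4, 1,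 5, 0, 3, 4, 2, 1, 2, 0, 1, 3, 2, 4, 3, 1, 5, 4, 5, 1, 3, 5, 1, 2, 3, 2, 1, 0, 1, 4, 5, 1, 2, 3, 2, 4, 1, 5, 0, 3, 4, 2, 1, 2, 0, 1, 3, 2, 4, 3, 1, 5, 4, 5, 1, 3, 2, 3, 4, 5, 1, 0, 2, 1, 0, 1, 3, 2, 4, 3, 2, 5, 4, 3, 6, 4, 6, 0, 1, 0, 1, 2, 0, 3, 1, 2, 0, 3, 2, 6, 1, 2, 5, 6, 1, 2, 3, 5, 1, 0, 1, 0, 6, 4, 2, 3, 6, 2, 1, 0, 1, 0, 6, 1, 0, 6, 5, 4, 2], [5, 1, 2, 3, 2, 1, 0, 1, 4, 5, 1, 2, 3, 2, 4, 1, 5, 0, 3, 4, 2, 1, 2, 0, 1, 3, 2, 4, 3, 1, 5, 4, 5, 1, 3, 5, 1, 2, 3, 2, 1, 0, 1, 4, 5, 1, 2, 3, 2, 4, 1, 5, 0, 3, 4, 2, 1, 2, 0, 1, 3, 2, 4, 3, 1, 5, 4, 5, 1, 3, 3, 2, 6, 1, 2, 5, 6, 1, 2, 3, 5, 1, 0, 1, 0, 6, 4, 2, 3, 6, 2, 1, 0, 1, 0, 6, 1, 0, 6, 5, 4, 2, 2, 3, 4, 5, 1, 0, 2, 1, 0, 1, 3, 2, 4, 3, 2, 5, 4, 3, 6, 4, 6, 0, 1, 0, 1, 2, 0, 3, 1, 2, 0], [5, 1, 2, 3, 2, 1, 0, 1, 4, 5, 1, 2, 3, 2, 4, 1, 5, 0, 3, 4, 2, 1, 2, 0, 1, 3, 2, 4, 3, 1, 5, 4, 5, 1, 3, 5, 1, 2, 3, 2, 1, 0, 1, 4, 5, 1, 2, 3, 2, 4, 1,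 5, 0, 3, 4, 2, 1, 2, 0, 1, 3, 2, 4, 3, 1, 5, 4, 5, 1, 3, 3, 2, 6, 1, 2, 5, 6, 1, 2, 3, 5, 1, 0, 1, 0, 6, 4, 2, 3, 6, 2, 1, 0, 1, 0, 6, 1, 0, 6, 5, 4, 2, 3, 2, 6, 1, 2, 5, 6, 1, 2, 3, 5, 1, 0, 1, 0, 6, 4, 2, 3, 6, 2, 1, 0, 1, 0, 6, 1, 0, 6, 5, 4, 2], [5, 1, 2, 3, 2, 1, 0, 1, 4, 5, 1, 2, 3, 2, 4, 1, 5, 0, 3, 4, 2, 1, 2, 0, 1, 3, 2, 4, 3, 1, 5, 4, 5, 1, 3, 2, 3, 4, 5, 1, 0, 2, 1, 0, 1, 3, 2, 4, 3, 2, 5, 4, 3, 6, 4, 6, 0, 1, 0, 1, 2, 0, 3, 1, 2, 0, 3, 2, 6, 1, 2, 5, 6, 1, 2, 3, 5, 1, 0, 1, 0, 6, 4, 2, 3, 6, 2, 1, 0, 1, 0, 6, 1, 0, 6, 5, 4, 2, 2, 3, 4, 5, 1, 0, 2, 1, 0, 1, 3, 2, 4, 3, 2, 5, 4, 3, 6, 4, 6, 0, 1, 0, 1, 2, 0, 3, 1, 2, 0], [5, 1, 2, 3, 2, 1, 0, 1, 4, 5, 1, 2, 3, 2, 4, 1, 5, 0, 3, 4, 2, 1, 2, 0, 1, 3, 2, 4, 3, 1, 5, 4, 5, 1, 3, 2, 3, 4, 5, 1, 0, 2, 1, 0, 1, 3, 2, 4, 3, 2, 5, 4, 3, 6, 4, 6, 0, 1, 0, 1, 2, 0, 3, 1, 2, 0, 3, 2, 6, 1, 2, 5, 6, 1, 2, 3, 5, 1, 0, 1, 0, 6, 4, 2, 3, 6, 2, 1, 0,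 1, 0, 6, 1, 0, 6, 5, 4, 2, 3, 2, 6, 1, 2, 5, 6, 1, 2, 3, 5, 1, 0, 1, 0, 6, 4, 2, 3, 6, 2, 1, 0, 1, 0, 6, 1, 0, 6, 5, 4, 2], [5, 1, 2, 3, 2, 1, 0, 1, 4, 5, 1, 2, 3, 2, 4, 1, 5, 0, 3, 4, 2, 1, 2, 0, 1, 3, 2, 4, 3, 1, 5, 4, 5, 1, 3, 3, 2, 6, 1, 2, 5, 6, 1, 2, 3, 5, 1, 0, 1, 0, 6, 4, 2, 3, 6, 2, 1, 0, 1, 0, 6, 1, 0, 6, 5, 4, 2, 2, 3, 4, 5, 1, 0, 2, 1, 0, 1, 3, 2, 4, 3, 2, 5, 4, 3, 6, 4, 6, 0, 1, 0, 1, 2, 0, 3, 1, 2, 0, 3, 2, 6, 1, 2, 5, 6, 1, 2, 3, 5, 1, 0, 1, 0, 6, 4, 2, 3, 6, 2, 1, 0, 1, 0, 6, 1, 0, 6, 5, 4, 2], [5, 1, 2, 3, 2, 1, 0, 1, 4, 5, 1, 2, 3, 2, 4, 1, 5, 0, 3, 4, 2, 1, 2, 0, 1, 3, 2, 4, 3, 1, 5, 4, 5, 1, 3, 3, 2, 6, 1, 2, 5, 6, 1, 2, 3, 5, 1, 0, 1, 0, 6, 4, 2, 3, 6, 2, 1, 0, 1, 0, 6, 1, 0, 6, 5, 4, 2, 3, 2, 6, 1, 2, 5, 6, 1, 2, 3, 5, 1, 0, 1, 0, 6, 4, 2, 3, 6, 2, 1, 0, 1, 0, 6, 1, 0, 6, 5, 4, 2, 3, 2, 6, 1, 2, 5, 6, 1, 2, 3, 5, 1, 0, 1, 0, 6, 4, 2, 3, 6, 2, 1, 0, 1, 0, 6, 1, 0, 6, 5, 4,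 2], [2, 3, 4, 5, 1, 0, 2, 1, 0, 1, 3, 2, 4, 3, 2, 5, 4, 3, 6, 4, 6, 0, 1, 0, 1, 2, 0, 3, 1, 2, 0, 3, 2, 6, 1, 2, 5, 6, 1, 2, 3, 5, 1, 0, 1, 0, 6, 4, 2, 3, 6, 2, 1, 0, 1, 0, 6, 1, 0, 6, 5, 4, 2, 2, 3, 4, 5, 1, 0, 2, 1, 0, 1, 3, 2, 4, 3, 2, 5, 4, 3, 6, 4, 6, 0, 1, 0, 1, 2, 0, 3, 1, 2, 0, 3, 2, 6, 1, 2, 5, 6, 1, 2, 3, 5, 1, 0, 1, 0, 6, 4, 2, 3, 6, 2, 1, 0, 1, 0, 6, 1, 0, 6, 5, 4, 2], [2, 3, 4, 5, 1, 0, 2, 1, 0, 1, 3, 2, 4, 3, 2, 5, 4, 3, 6, 4, 6, 0, 1, 0, 1, 2, 0, 3, 1, 2, 0, 3, 2, 6, 1, 2, 5, 6, 1, 2, 3, 5, 1, 0, 1, 0, 6, 4, 2, 3, 6, 2, 1, 0, 1, 0, 6, 1, 0, 6, 5, 4, 2, 3, 2, 6, 1, 2, 5, 6, 1, 2, 3, 5, 1, 0, 1, 0, 6, 4, 2, 3, 6, 2, 1, 0, 1, 0, 6, 1, 0, 6, 5, 4, 2, 3, 2, 6, 1, 2, 5, 6, 1, 2, 3, 5, 1, 0, 1, 0, 6, 4, 2, 3, 6, 2, 1, 0, 1, 0, 6, 1, 0, 6, 5, 4, 2], [3, 2, 6, 1, 2, 5, 6, 1, 2, 3, 5, 1, 0, 1, 0, 6, 4, 2, 3, 6, 2, 1, 0, 1, 0, 6, 1, 0, 6, 5, 4, 2, 2, 3, 4, 5, 1, 0, 2, 1, 0, 1, 3, 2, 4, 3,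 2, 5, 4, 3, 6, 4, 6, 0, 1, 0, 1, 2, 0, 3, 1, 2, 0, 3, 2, 6, 1, 2, 5, 6, 1, 2, 3, 5, 1, 0, 1, 0, 6, 4, 2, 3, 6, 2, 1, 0, 1, 0, 6, 1, 0, 6, 5, 4, 2, 3, 2, 6, 1, 2, 5, 6, 1, 2, 3, 5, 1, 0, 1, 0, 6, 4, 2, 3, 6, 2, 1, 0, 1, 0, 6, 1, 0, 6, 5, 4, 2], [3, 2, 6, 1, 2, 5, 6, 1, 2, 3, 5, 1, 0, 1, 0, 6, 4, 2, 3, 6, 2, 1, 0, 1, 0, 6, 1, 0, 6, 5, 4, 2, 3, 2, 6, 1, 2, 5, 6, 1, 2, 3, 5, 1, 0, 1, 0, 6, 4, 2, 3, 6, 2, 1, 0, 1, 0, 6, 1, 0, 6, 5, 4, 2, 3, 2, 6, 1, 2, 5, 6, 1, 2, 3, 5, 1, 0, 1, 0, 6, 4, 2, 3, 6, 2, 1, 0, 1, 0, 6, 1, 0, 6, 5, 4, 2, 3, 2, 6, 1, 2, 5, 6, 1, 2, 3, 5, 1, 0, 1, 0, 6, 4, 2, 3, 6, 2, 1, 0, 1, 0, 6, 1, 0, 6, 5, 4, 2], [5, 1, 2, 3, 2, 1, 0, 1, 4, 5, 1, 2, 3, 2, 4, 1, 5, 0, 3, 4, 2, 1, 2, 0, 1, 3, 2, 4, 3, 1, 5, 4, 5, 1, 3, 5, 1, 2, 3, 2, 1, 0, 1, 4, 5, 1, 2, 3, 2, 4, 1, 5, 0, 3, 4, 2, 1, 2, 0, 1, 3, 2, 4, 3, 1, 5, 4, 5, 1, 3, 5, 1, 2, 3, 2, 1, 0, 1, 4, 5, 1, 2, 3, 2, 4, 1, 5, 0, 3, 4, 2, 1,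 2, 0, 1, 3, 2, 4, 3, 1, 5, 4, 5, 1, 3, 5, 1, 2, 3, 2, 1, 0, 1, 4, 5, 1, 2, 3, 2, 4, 1, 5, 0, 3, 4, 2, 1, 2, 0, 1, 3, 2, 4, 3, 1, 5, 4, 5, 1, 3, 5, 1, 2, 3, 2, 1, 0, 1, 4, 5, 1, 2, 3, 2, 4, 1, 5, 0, 3, 4, 2, 1, 2, 0, 1, 3, 2, 4, 3, 1, 5, 4, 5, 1, 3], [5, 1, 2, 3, 2, 1, 0, 1, 4, 5, 1, 2, 3, 2, 4, 1, 5, 0, 3, 4, 2, 1, 2, 0, 1, 3, 2, 4, 3, 1, 5, 4, 5, 1, 3, 5, 1, 2, 3, 2, 1, 0, 1, 4, 5, 1, 2, 3, 2, 4, 1, 5, 0, 3, 4, 2, 1, 2, 0, 1, 3, 2, 4, 3, 1, 5, 4, 5, 1, 3, 5, 1, 2, 3, 2, 1, 0, 1, 4, 5, 1, 2, 3, 2, 4, 1, 5, 0, 3, 4, 2, 1, 2, 0, 1, 3, 2, 4, 3, 1, 5, 4, 5, 1, 3, 5, 1, 2, 3, 2, 1, 0, 1, 4, 5, 1, 2, 3, 2, 4, 1, 5, 0, 3, 4, 2, 1, 2, 0, 1, 3, 2, 4, 3, 1, 5, 4, 5, 1, 3, 2, 3, 4, 5, 1, 0, 2, 1, 0, 1, 3, 2, 4, 3, 2, 5, 4, 3, 6, 4, 6, 0, 1, 0, 1, 2, 0, 3, 1, 2, 0], [5, 1, 2, 3, 2, 1, 0, 1, 4, 5, 1, 2, 3, 2, 4, 1, 5, 0, 3, 4, 2, 1, 2, 0, 1, 3, 2, 4, 3, 1, 5, 4, 5, 1, 3, 5, 1, 2, 3, 2, 1, 0, 1, 4, 5, 1, 2,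 3, 2, 4, 1, 5, 0, 3, 4, 2, 1, 2, 0, 1, 3, 2, 4, 3, 1, 5, 4, 5, 1, 3, 2, 3, 4, 5, 1, 0, 2, 1, 0, 1, 3, 2, 4, 3, 2, 5, 4, 3, 6, 4, 6, 0, 1, 0, 1, 2, 0, 3, 1, 2, 0, 3, 2, 6, 1, 2, 5, 6, 1, 2, 3, 5, 1, 0, 1, 0, 6, 4, 2, 3, 6, 2, 1, 0, 1, 0, 6, 1, 0, 6, 5, 4, 2, 2, 3, 4, 5, 1, 0, 2, 1, 0, 1, 3, 2, 4, 3, 2, 5, 4, 3, 6, 4, 6, 0, 1, 0, 1, 2, 0, 3, 1, 2, 0], [5, 1, 2, 3, 2, 1, 0, 1, 4, 5, 1, 2, 3, 2, 4, 1, 5, 0, 3, 4, 2, 1, 2, 0, 1, 3, 2, 4, 3, 1, 5, 4, 5, 1, 3, 5, 1, 2, 3, 2, 1, 0, 1, 4, 5, 1, 2, 3, 2, 4, 1, 5, 0, 3, 4, 2, 1, 2, 0, 1, 3, 2, 4, 3, 1, 5, 4, 5, 1, 3, 2, 3, 4, 5, 1, 0, 2, 1, 0, 1, 3, 2, 4, 3, 2, 5, 4, 3, 6, 4, 6, 0, 1, 0, 1, 2, 0, 3, 1, 2, 0, 3, 2, 6, 1, 2, 5, 6, 1, 2, 3, 5, 1, 0, 1, 0, 6, 4, 2, 3, 6, 2, 1, 0, 1, 0, 6, 1, 0, 6, 5, 4, 2, 3, 2, 6, 1, 2, 5, 6, 1, 2, 3, 5, 1, 0, 1, 0, 6, 4, 2, 3, 6, 2, 1, 0, 1, 0, 6, 1, 0, 6, 5, 4, 2], [5, 1, 2, 3, 2, 1, 0, 1, 4, 5, 1, 2, 3, 2, 4, 1, 5, 0, 3,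 4, 2, 1, 2, 0, 1, 3, 2, 4, 3, 1, 5, 4, 5, 1, 3, 5, 1, 2, 3, 2, 1, 0, 1, 4, 5, 1, 2, 3, 2, 4, 1, 5, 0, 3, 4, 2, 1, 2, 0, 1, 3, 2, 4, 3, 1, 5, 4, 5, 1, 3, 3, 2, 6, 1, 2, 5, 6, 1, 2, 3, 5, 1, 0, 1, 0, 6, 4, 2, 3, 6, 2, 1, 0, 1, 0, 6, 1, 0, 6, 5, 4, 2, 2, 3, 4, 5, 1, 0, 2, 1, 0, 1, 3, 2, 4, 3, 2, 5, 4, 3, 6, 4, 6, 0, 1, 0, 1, 2, 0, 3, 1, 2, 0, 3, 2, 6, 1, 2, 5, 6, 1, 2, 3, 5, 1, 0, 1, 0, 6, 4, 2, 3, 6, 2, 1, 0, 1, 0, 6, 1, 0, 6, 5, 4, 2], [5, 1, 2, 3, 2, 1, 0, 1, 4, 5, 1, 2, 3, 2, 4, 1, 5, 0, 3, 4, 2, 1, 2, 0, 1, 3, 2, 4, 3, 1, 5, 4, 5, 1, 3, 5, 1, 2, 3, 2, 1, 0, 1, 4, 5, 1, 2, 3, 2, 4, 1, 5, 0, 3, 4, 2, 1, 2, 0, 1, 3, 2, 4, 3, 1, 5, 4, 5, 1, 3, 3, 2, 6, 1, 2, 5, 6, 1, 2, 3, 5, 1, 0, 1, 0, 6, 4, 2, 3, 6, 2, 1, 0, 1, 0, 6, 1, 0, 6, 5, 4, 2, 3, 2, 6, 1, 2, 5, 6, 1, 2, 3, 5, 1, 0, 1, 0, 6, 4, 2, 3, 6, 2, 1, 0, 1, 0, 6, 1, 0, 6, 5, 4, 2, 3, 2, 6, 1, 2, 5, 6, 1, 2, 3, 5, 1, 0, 1, 0, 6, 4, 2, 3, 6, 2,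 1, 0, 1, 0, 6, 1, 0, 6, 5, 4, 2], [5, 1, 2, 3, 2, 1, 0, 1, 4, 5, 1, 2, 3, 2, 4, 1, 5, 0, 3, 4, 2, 1, 2, 0, 1, 3, 2, 4, 3, 1, 5, 4, 5, 1, 3, 2, 3, 4, 5, 1, 0, 2, 1, 0, 1, 3, 2, 4, 3, 2, 5, 4, 3, 6, 4, 6, 0, 1, 0, 1, 2, 0, 3, 1, 2, 0, 3, 2, 6, 1, 2, 5, 6, 1, 2, 3, 5, 1, 0, 1, 0, 6, 4, 2, 3, 6, 2, 1, 0, 1, 0, 6, 1, 0, 6, 5, 4, 2, 2, 3, 4, 5, 1, 0, 2, 1, 0, 1, 3, 2, 4, 3, 2, 5, 4, 3, 6, 4, 6, 0, 1, 0, 1, 2, 0, 3, 1, 2, 0, 3, 2, 6, 1, 2, 5, 6, 1, 2, 3, 5, 1, 0, 1, 0, 6, 4, 2, 3, 6, 2, 1, 0, 1, 0, 6, 1, 0, 6, 5, 4, 2], [5, 1, 2, 3, 2, 1, 0, 1, 4, 5, 1, 2, 3, 2, 4, 1, 5, 0, 3, 4, 2, 1, 2, 0, 1, 3, 2, 4, 3, 1, 5, 4, 5, 1, 3, 2, 3, 4, 5, 1, 0, 2, 1, 0, 1, 3, 2, 4, 3, 2, 5, 4, 3, 6, 4, 6, 0, 1, 0, 1, 2, 0, 3, 1, 2, 0, 3, 2, 6, 1, 2, 5, 6, 1, 2, 3, 5, 1, 0, 1, 0, 6, 4, 2, 3, 6, 2, 1, 0, 1, 0, 6, 1, 0, 6, 5, 4, 2, 3, 2, 6, 1, 2, 5, 6, 1, 2, 3, 5, 1, 0, 1, 0, 6, 4, 2, 3, 6, 2, 1, 0, 1, 0, 6, 1, 0, 6, 5, 4,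 2, 3, 2, 6, 1, 2, 5, 6, 1, 2, 3, 5, 1, 0, 1, 0, 6, 4, 2, 3, 6, 2, 1, 0, 1, 0, 6, 1, 0, 6, 5, 4, 2], [5, 1, 2, 3, 2, 1, 0, 1, 4, 5, 1, 2, 3, 2, 4, 1, 5, 0, 3, 4, 2, 1, 2, 0, 1, 3, 2, 4, 3, 1, 5, 4, 5, 1, 3, 3, 2, 6, 1, 2, 5, 6, 1, 2, 3, 5, 1, 0, 1, 0, 6, 4, 2, 3, 6, 2, 1, 0, 1, 0, 6, 1, 0, 6, 5, 4, 2, 2, 3, 4, 5, 1, 0, 2, 1, 0, 1, 3, 2, 4, 3, 2, 5, 4, 3, 6, 4, 6, 0, 1, 0, 1, 2, 0, 3, 1, 2, 0, 3, 2, 6, 1, 2, 5, 6, 1, 2, 3, 5, 1, 0, 1, 0, 6, 4, 2, 3, 6, 2, 1, 0, 1, 0, 6, 1, 0, 6, 5, 4, 2, 3, 2, 6, 1, 2, 5, 6, 1, 2, 3, 5, 1, 0, 1, 0, 6, 4, 2, 3, 6, 2, 1, 0, 1, 0, 6, 1, 0, 6, 5, 4, 2], [5, 1, 2, 3, 2, 1, 0, 1, 4, 5, 1, 2, 3, 2, 4, 1, 5, 0, 3, 4, 2, 1, 2, 0, 1, 3, 2, 4, 3, 1, 5, 4, 5, 1, 3, 3, 2, 6, 1, 2, 5, 6, 1, 2, 3, 5, 1, 0, 1, 0, 6, 4, 2, 3, 6, 2, 1, 0, 1, 0, 6, 1, 0, 6, 5, 4, 2, 3, 2, 6, 1, 2, 5, 6, 1, 2, 3, 5, 1, 0, 1, 0, 6, 4, 2, 3, 6, 2, 1, 0, 1, 0, 6, 1, 0, 6, 5, 4, 2, 3, 2, 6, 1, 2, 5, 6,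 1, 2, 3, 5, 1, 0, 1, 0, 6, 4, 2, 3, 6, 2, 1, 0, 1, 0, 6, 1, 0, 6, 5, 4, 2, 3, 2, 6, 1, 2, 5, 6, 1, 2, 3, 5, 1, 0, 1, 0, 6, 4, 2, 3, 6, 2, 1, 0, 1, 0, 6, 1, 0, 6, 5, 4, 2], [2, 3, 4, 5, 1, 0, 2, 1, 0, 1, 3, 2, 4, 3, 2, 5, 4, 3, 6, 4, 6, 0, 1, 0, 1, 2, 0, 3, 1, 2, 0, 3, 2, 6, 1, 2, 5, 6, 1, 2, 3, 5, 1, 0, 1, 0, 6, 4, 2, 3, 6, 2, 1, 0, 1, 0, 6, 1, 0, 6, 5, 4, 2, 2, 3, 4, 5, 1, 0, 2, 1, 0, 1, 3, 2, 4, 3, 2, 5, 4, 3, 6, 4, 6, 0, 1, 0, 1, 2, 0, 3, 1, 2, 0, 3, 2, 6, 1, 2, 5, 6, 1, 2, 3, 5, 1, 0, 1, 0, 6, 4, 2, 3, 6, 2, 1, 0, 1, 0, 6, 1, 0, 6, 5, 4, 2, 3, 2, 6, 1, 2, 5, 6, 1, 2, 3, 5, 1, 0, 1, 0, 6, 4, 2, 3, 6, 2, 1, 0, 1, 0, 6, 1, 0, 6, 5, 4, 2], [2, 3, 4, 5, 1, 0, 2, 1, 0, 1, 3, 2, 4, 3, 2, 5, 4, 3, 6, 4, 6, 0, 1, 0, 1, 2, 0, 3, 1, 2, 0, 3, 2, 6, 1, 2, 5, 6, 1, 2, 3, 5, 1, 0, 1, 0, 6, 4, 2, 3, 6, 2, 1, 0, 1, 0, 6, 1, 0, 6, 5, 4, 2, 3, 2, 6, 1, 2, 5, 6, 1, 2, 3, 5, 1, 0, 1, 0, 6, 4, 2, 3, 6, 2, 1, 0,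 1, 0, 6, 1, 0, 6, 5, 4, 2, 3, 2, 6, 1, 2, 5, 6, 1, 2, 3, 5, 1, 0, 1, 0, 6, 4, 2, 3, 6, 2, 1, 0, 1, 0, 6, 1, 0, 6, 5, 4, 2, 3, 2, 6, 1, 2, 5, 6, 1, 2, 3, 5, 1, 0, 1, 0, 6, 4, 2, 3, 6, 2, 1, 0, 1, 0, 6, 1, 0, 6, 5, 4, 2], [3, 2, 6, 1, 2, 5, 6, 1, 2, 3, 5, 1, 0, 1, 0, 6, 4, 2, 3, 6, 2, 1, 0, 1, 0, 6, 1, 0, 6, 5, 4, 2, 2, 3, 4, 5, 1, 0, 2, 1, 0, 1, 3, 2, 4, 3, 2, 5, 4, 3, 6, 4, 6, 0, 1, 0, 1, 2, 0, 3, 1, 2, 0, 3, 2, 6, 1, 2, 5, 6, 1, 2, 3, 5, 1, 0, 1, 0, 6, 4, 2, 3, 6, 2, 1, 0, 1, 0, 6, 1, 0, 6, 5, 4, 2, 3, 2, 6, 1, 2, 5, 6, 1, 2, 3, 5, 1, 0, 1, 0, 6, 4, 2, 3, 6, 2, 1, 0, 1, 0, 6, 1, 0, 6, 5, 4, 2, 3, 2, 6, 1, 2, 5, 6, 1, 2, 3, 5, 1, 0, 1, 0, 6, 4, 2, 3, 6, 2, 1, 0, 1, 0, 6, 1, 0, 6, 5, 4, 2], [3, 2, 6, 1, 2, 5, 6, 1, 2, 3, 5, 1, 0, 1, 0, 6, 4, 2, 3, 6, 2, 1, 0, 1, 0, 6, 1, 0, 6, 5, 4, 2, 3, 2, 6, 1, 2, 5, 6, 1, 2, 3, 5, 1, 0, 1, 0, 6, 4, 2, 3, 6, 2, 1, 0, 1, 0, 6, 1, 0, 6, 5, 4, 2, 3, 2, 6, 1, 2,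 5, 6, 1, 2, 3, 5, 1, 0, 1, 0, 6, 4, 2, 3, 6, 2, 1, 0, 1, 0, 6, 1, 0, 6, 5, 4, 2, 3, 2, 6, 1, 2, 5, 6, 1, 2, 3, 5, 1, 0, 1, 0, 6, 4, 2, 3, 6, 2, 1, 0, 1, 0, 6, 1, 0, 6, 5, 4, 2, 3, 2, 6, 1, 2, 5, 6, 1, 2, 3, 5, 1, 0, 1, 0, 6, 4, 2, 3, 6, 2, 1, 0, 1, 0, 6, 1, 0, 6, 5, 4, 2], [5, 1, 2, 3, 2, 1, 0, 1, 4, 5, 1, 2, 3, 2, 4, 1, 5, 0, 3, 4, 2, 1, 2, 0, 1, 3, 2, 4, 3, 1, 5, 4, 5, 1, 3, 5, 1, 2, 3, 2, 1, 0, 1, 4, 5, 1, 2, 3, 2, 4, 1, 5, 0, 3, 4, 2, 1, 2, 0, 1, 3, 2, 4, 3, 1, 5, 4, 5, 1, 3, 5, 1, 2, 3, 2, 1, 0, 1, 4, 5, 1, 2, 3, 2, 4, 1, 5, 0, 3, 4, 2, 1, 2, 0, 1, 3, 2, 4, 3, 1, 5, 4, 5, 1, 3, 5, 1, 2, 3, 2, 1, 0, 1, 4, 5, 1, 2, 3, 2, 4, 1, 5, 0, 3, 4, 2, 1, 2, 0, 1, 3, 2, 4, 3, 1, 5, 4, 5, 1, 3, 5, 1, 2, 3, 2, 1, 0, 1, 4, 5, 1, 2, 3, 2, 4, 1, 5, 0, 3, 4, 2, 1, 2, 0, 1, 3, 2, 4, 3, 1, 5, 4, 5, 1, 3, 2, 3, 4, 5, 1, 0, 2, 1, 0, 1, 3, 2, 4, 3, 2, 5, 4, 3, 6, 4, 6, 0, 1, 0, 1, 2, 0, 3, 1, 2, 0], [5, 1, 2, 3,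 2, 1, 0, 1, 4, 5, 1, 2, 3, 2, 4, 1, 5, 0, 3, 4, 2, 1, 2, 0, 1, 3, 2, 4, 3, 1, 5, 4, 5, 1, 3, 5, 1, 2, 3, 2, 1, 0, 1, 4, 5, 1, 2, 3, 2, 4, 1, 5, 0, 3, 4, 2, 1, 2, 0, 1, 3, 2, 4, 3, 1, 5, 4, 5, 1, 3, 2, 3, 4, 5, 1, 0, 2, 1, 0, 1, 3, 2, 4, 3, 2, 5, 4, 3, 6, 4, 6, 0, 1, 0, 1, 2, 0, 3, 1, 2, 0, 3, 2, 6, 1, 2, 5, 6, 1, 2, 3, 5, 1, 0, 1, 0, 6, 4, 2, 3, 6, 2, 1, 0, 1, 0, 6, 1, 0, 6, 5, 4, 2, 2, 3, 4, 5, 1, 0, 2, 1, 0, 1, 3, 2, 4, 3, 2, 5, 4, 3, 6, 4, 6, 0, 1, 0, 1, 2, 0, 3, 1, 2, 0, 3, 2, 6, 1, 2, 5, 6, 1, 2, 3, 5, 1, 0, 1, 0, 6, 4, 2, 3, 6, 2, 1, 0, 1, 0, 6, 1, 0, 6, 5, 4, 2], [5, 1, 2, 3, 2, 1, 0, 1, 4, 5, 1, 2, 3, 2, 4, 1, 5, 0, 3, 4, 2, 1, 2, 0, 1, 3, 2, 4, 3, 1, 5, 4, 5, 1, 3, 5, 1, 2, 3, 2, 1, 0, 1, 4, 5, 1, 2, 3, 2, 4, 1, 5, 0, 3, 4, 2, 1, 2, 0, 1, 3, 2, 4, 3, 1, 5, 4, 5, 1, 3, 2, 3, 4, 5, 1, 0, 2, 1, 0, 1, 3, 2, 4, 3, 2, 5, 4, 3, 6, 4, 6, 0, 1, 0, 1, 2, 0, 3, 1, 2, 0, 3, 2, 6, 1, 2, 5, 6, 1,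 2, 3, 5, 1, 0, 1, 0, 6, 4, 2, 3, 6, 2, 1, 0, 1, 0, 6, 1, 0, 6, 5, 4, 2, 3, 2, 6, 1, 2, 5, 6, 1, 2, 3, 5, 1, 0, 1, 0, 6, 4, 2, 3, 6, 2, 1, 0, 1, 0, 6, 1, 0, 6, 5, 4, 2, 3, 2, 6, 1, 2, 5, 6, 1, 2, 3, 5, 1, 0, 1, 0, 6, 4, 2, 3, 6, 2, 1, 0, 1, 0, 6, 1, 0, 6, 5, 4, 2], [5, 1, 2, 3, 2, 1, 0, 1, 4, 5, 1, 2, 3, 2, 4, 1, 5, 0, 3, 4, 2, 1, 2, 0, 1, 3, 2, 4, 3, 1, 5, 4, 5, 1, 3, 5, 1, 2, 3, 2, 1, 0, 1, 4, 5, 1, 2, 3, 2, 4, 1, 5, 0, 3, 4, 2, 1, 2, 0, 1, 3, 2, 4, 3, 1, 5, 4, 5, 1, 3, 3, 2, 6, 1, 2, 5, 6, 1, 2, 3, 5, 1, 0, 1, 0, 6, 4, 2, 3, 6, 2, 1, 0, 1, 0, 6, 1, 0, 6, 5, 4, 2, 2, 3, 4, 5, 1, 0, 2, 1, 0, 1, 3, 2, 4, 3, 2, 5, 4, 3, 6, 4, 6, 0, 1, 0, 1, 2, 0, 3, 1, 2, 0, 3, 2, 6, 1, 2, 5, 6, 1, 2, 3, 5, 1, 0, 1, 0, 6, 4, 2, 3, 6, 2, 1, 0, 1, 0, 6, 1, 0, 6, 5, 4, 2, 3, 2, 6, 1, 2, 5, 6, 1, 2, 3, 5, 1, 0, 1, 0, 6, 4, 2, 3, 6, 2, 1, 0, 1, 0, 6, 1, 0, 6, 5, 4, 2], [5, 1, 2, 3, 2, 1, 0, 1, 4, 5, 1, 2, 3, 2, 4, 1,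 5, 0, 3, 4, 2, 1, 2, 0, 1, 3, 2, 4, 3, 1, 5, 4, 5, 1, 3, 5, 1, 2, 3, 2, 1, 0, 1, 4, 5, 1, 2, 3, 2, 4, 1, 5, 0, 3, 4, 2, 1, 2, 0, 1, 3, 2, 4, 3, 1, 5, 4, 5, 1, 3, 3, 2, 6, 1, 2, 5, 6, 1, 2, 3, 5, 1, 0, 1, 0, 6, 4, 2, 3, 6, 2, 1, 0, 1, 0, 6, 1, 0, 6, 5, 4, 2, 3, 2, 6, 1, 2, 5, 6, 1, 2, 3, 5, 1, 0, 1, 0, 6, 4, 2, 3, 6, 2, 1, 0, 1, 0, 6, 1, 0, 6, 5, 4, 2, 3, 2, 6, 1, 2, 5, 6, 1, 2, 3, 5, 1, 0, 1, 0, 6, 4, 2, 3, 6, 2, 1, 0, 1, 0, 6, 1, 0, 6, 5, 4, 2, 3, 2, 6, 1, 2, 5, 6, 1, 2, 3, 5, 1, 0, 1, 0, 6, 4, 2, 3, 6, 2, 1, 0, 1, 0, 6, 1, 0, 6, 5, 4, 2], [5, 1, 2, 3, 2, 1, 0, 1, 4, 5, 1, 2, 3, 2, 4, 1, 5, 0, 3, 4, 2, 1, 2, 0, 1, 3, 2, 4, 3, 1, 5, 4, 5, 1, 3, 2, 3, 4, 5, 1, 0, 2, 1, 0, 1, 3, 2, 4, 3, 2, 5, 4, 3, 6, 4, 6, 0, 1, 0, 1, 2, 0, 3, 1, 2, 0, 3, 2, 6, 1, 2, 5, 6, 1, 2, 3, 5, 1, 0, 1, 0, 6, 4, 2, 3, 6, 2, 1, 0, 1, 0, 6, 1, 0, 6, 5, 4, 2, 2, 3, 4, 5, 1, 0, 2, 1, 0, 1, 3, 2, 4, 3, 2, 5, 4, 3, 6, 4, 6,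 0, 1, 0, 1, 2, 0, 3, 1, 2, 0, 3, 2, 6, 1, 2, 5, 6, 1, 2, 3, 5, 1, 0, 1, 0, 6, 4, 2, 3, 6, 2, 1, 0, 1, 0, 6, 1, 0, 6, 5, 4, 2, 3, 2, 6, 1, 2, 5, 6, 1, 2, 3, 5, 1, 0, 1, 0, 6, 4, 2, 3, 6, 2, 1, 0, 1, 0, 6, 1, 0, 6, 5, 4, 2], [5, 1, 2, 3, 2, 1, 0, 1, 4, 5, 1, 2, 3, 2, 4, 1, 5, 0, 3, 4, 2, 1, 2, 0, 1, 3, 2, 4, 3, 1, 5, 4, 5, 1, 3, 2, 3, 4, 5, 1, 0, 2, 1, 0, 1, 3, 2, 4, 3, 2, 5, 4, 3, 6, 4, 6, 0, 1, 0, 1, 2, 0, 3, 1, 2, 0, 3, 2, 6, 1, 2, 5, 6, 1, 2, 3, 5, 1, 0, 1, 0, 6, 4, 2, 3, 6, 2, 1, 0, 1, 0, 6, 1, 0, 6, 5, 4, 2, 3, 2, 6, 1, 2, 5, 6, 1, 2, 3, 5, 1, 0, 1, 0, 6, 4, 2, 3, 6, 2, 1, 0, 1, 0, 6, 1, 0, 6, 5, 4, 2, 3, 2, 6, 1, 2, 5, 6, 1, 2, 3, 5, 1, 0, 1, 0, 6, 4, 2, 3, 6, 2, 1, 0, 1, 0, 6, 1, 0, 6, 5, 4, 2, 3, 2, 6, 1, 2, 5, 6, 1, 2, 3, 5, 1, 0, 1, 0, 6, 4, 2, 3, 6, 2, 1, 0, 1, 0, 6, 1, 0, 6, 5, 4, 2], [5, 1, 2, 3, 2, 1, 0, 1, 4, 5, 1, 2, 3, 2, 4, 1, 5, 0, 3, 4, 2, 1, 2, 0, 1, 3, 2, 4, 3, 1, 5, 4, 5,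 1, 3, 3, 2, 6, 1, 2, 5, 6, 1, 2, 3, 5, 1, 0, 1, 0, 6, 4, 2, 3, 6, 2, 1, 0, 1, 0, 6, 1, 0, 6, 5, 4, 2, 2, 3, 4, 5, 1, 0, 2, 1, 0, 1, 3, 2, 4, 3, 2, 5, 4, 3, 6, 4, 6, 0, 1, 0, 1, 2, 0, 3, 1, 2, 0, 3, 2, 6, 1, 2, 5, 6, 1, 2, 3, 5, 1, 0, 1, 0, 6, 4, 2, 3, 6, 2, 1, 0, 1, 0, 6, 1, 0, 6, 5, 4, 2, 3, 2, 6, 1, 2, 5, 6, 1, 2, 3, 5, 1, 0, 1, 0, 6, 4, 2, 3, 6, 2, 1, 0, 1, 0, 6, 1, 0, 6, 5, 4, 2, 3, 2, 6, 1, 2, 5, 6, 1, 2, 3, 5, 1, 0, 1, 0, 6, 4, 2, 3, 6, 2, 1, 0, 1, 0, 6, 1, 0, 6, 5, 4, 2], [5, 1, 2, 3, 2, 1, 0, 1, 4, 5, 1, 2, 3, 2, 4, 1, 5, 0, 3, 4, 2, 1, 2, 0, 1, 3, 2, 4, 3, 1, 5, 4, 5, 1, 3, 3, 2, 6, 1, 2, 5, 6, 1, 2, 3, 5, 1, 0, 1, 0, 6, 4, 2, 3, 6, 2, 1, 0, 1, 0, 6, 1, 0, 6, 5, 4, 2, 3, 2, 6, 1, 2, 5, 6, 1, 2, 3, 5, 1, 0, 1, 0, 6, 4, 2, 3, 6, 2, 1, 0, 1, 0, 6, 1, 0, 6, 5, 4, 2, 3, 2, 6, 1, 2, 5, 6, 1, 2, 3, 5, 1, 0, 1, 0, 6, 4, 2, 3, 6, 2, 1, 0, 1, 0, 6, 1, 0, 6, 5, 4, 2, 3, 2, 6, 1, 2, 5, 6, 1, 2,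 3, 5, 1, 0, 1, 0, 6, 4, 2, 3, 6, 2, 1, 0, 1, 0, 6, 1, 0, 6, 5, 4, 2, 3, 2, 6, 1, 2, 5, 6, 1, 2, 3, 5, 1, 0, 1, 0, 6, 4, 2, 3, 6, 2, 1, 0, 1, 0, 6, 1, 0, 6, 5, 4, 2], [2, 3, 4, 5, 1, 0, 2, 1, 0, 1, 3, 2, 4, 3, 2, 5, 4, 3, 6, 4, 6, 0, 1, 0, 1, 2, 0, 3, 1, 2, 0, 3, 2, 6, 1, 2, 5, 6, 1, 2, 3, 5, 1, 0, 1, 0, 6, 4, 2, 3, 6, 2, 1, 0, 1, 0, 6, 1, 0, 6, 5, 4, 2, 2, 3, 4, 5, 1, 0, 2, 1, 0, 1, 3, 2, 4, 3, 2, 5, 4, 3, 6, 4, 6, 0, 1, 0, 1, 2, 0, 3, 1, 2, 0, 3, 2, 6, 1, 2, 5, 6, 1, 2, 3, 5, 1, 0, 1, 0, 6, 4, 2, 3, 6, 2, 1, 0, 1, 0, 6, 1, 0, 6, 5, 4, 2, 3, 2, 6, 1, 2, 5, 6, 1, 2, 3, 5, 1, 0, 1, 0, 6, 4, 2, 3, 6, 2, 1, 0, 1, 0, 6, 1, 0, 6, 5, 4, 2, 3, 2, 6, 1, 2, 5, 6, 1, 2, 3, 5, 1, 0, 1, 0, 6, 4, 2, 3, 6, 2, 1, 0, 1, 0, 6, 1, 0, 6, 5, 4, 2], [2, 3, 4, 5, 1, 0, 2, 1, 0, 1, 3, 2, 4, 3, 2, 5, 4, 3, 6, 4, 6, 0, 1, 0, 1, 2, 0, 3, 1, 2, 0, 3, 2, 6, 1, 2, 5, 6, 1, 2, 3, 5, 1, 0, 1, 0, 6, 4, 2, 3, 6, 2, 1, 0, 1, 0,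 6, 1, 0, 6, 5, 4, 2, 3, 2, 6, 1, 2, 5, 6, 1, 2, 3, 5, 1, 0, 1, 0, 6, 4, 2, 3, 6, 2, 1, 0, 1, 0, 6, 1, 0, 6, 5, 4, 2, 3, 2, 6, 1, 2, 5, 6, 1, 2, 3, 5, 1, 0, 1, 0, 6, 4, 2, 3, 6, 2, 1, 0, 1, 0, 6, 1, 0, 6, 5, 4, 2, 3, 2, 6, 1, 2, 5, 6, 1, 2, 3, 5, 1, 0, 1, 0, 6, 4, 2, 3, 6, 2, 1, 0, 1, 0, 6, 1, 0, 6, 5, 4, 2, 3, 2, 6, 1, 2, 5, 6, 1, 2, 3, 5, 1, 0, 1, 0, 6, 4, 2, 3, 6, 2, 1, 0, 1, 0, 6, 1, 0, 6, 5, 4, 2], [3, 2, 6, 1, 2, 5, 6, 1, 2, 3, 5, 1, 0, 1, 0, 6, 4, 2, 3, 6, 2, 1, 0, 1, 0, 6, 1, 0, 6, 5, 4, 2, 2, 3, 4, 5, 1, 0, 2, 1, 0, 1, 3, 2, 4, 3, 2, 5, 4, 3, 6, 4, 6, 0, 1, 0, 1, 2, 0, 3, 1, 2, 0, 3, 2, 6, 1, 2, 5, 6, 1, 2, 3, 5, 1, 0, 1, 0, 6, 4, 2, 3, 6, 2, 1, 0, 1, 0, 6, 1, 0, 6, 5, 4, 2, 3, 2, 6, 1, 2, 5, 6, 1, 2, 3, 5, 1, 0, 1, 0, 6, 4, 2, 3, 6, 2, 1, 0, 1, 0, 6, 1, 0, 6, 5, 4, 2, 3, 2, 6, 1, 2, 5, 6, 1, 2, 3, 5, 1, 0, 1, 0, 6, 4, 2, 3, 6, 2, 1, 0, 1, 0, 6, 1, 0, 6, 5, 4, 2, 3, 2, 6, 1, 2, 5, 6,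 1, 2, 3, 5, 1, 0, 1, 0, 6, 4, 2, 3, 6, 2, 1, 0, 1, 0, 6, 1, 0, 6, 5, 4, 2], [5, 1, 2, 3, 2, 1, 0, 1, 4, 5, 1, 2, 3, 2, 4, 1, 5, 0, 3, 4, 2, 1, 2, 0, 1, 3, 2, 4, 3, 1, 5, 4, 5, 1, 3, 5, 1, 2, 3, 2, 1, 0, 1, 4, 5, 1, 2, 3, 2, 4, 1, 5, 0, 3, 4, 2, 1, 2, 0, 1, 3, 2, 4, 3, 1, 5, 4, 5, 1, 3, 2, 3, 4, 5, 1, 0, 2, 1, 0, 1, 3, 2, 4, 3, 2, 5, 4, 3, 6, 4, 6, 0, 1, 0, 1, 2, 0, 3, 1, 2, 0, 3, 2, 6, 1, 2, 5, 6, 1, 2, 3, 5, 1, 0, 1, 0, 6, 4, 2, 3, 6, 2, 1, 0, 1, 0, 6, 1, 0, 6, 5, 4, 2, 2, 3, 4, 5, 1, 0, 2, 1, 0, 1, 3, 2, 4, 3, 2, 5, 4, 3, 6, 4, 6, 0, 1, 0, 1, 2, 0, 3, 1, 2, 0, 3, 2, 6, 1, 2, 5, 6, 1, 2, 3, 5, 1, 0, 1, 0, 6, 4, 2, 3, 6, 2, 1, 0, 1, 0, 6, 1, 0, 6, 5, 4, 2, 3, 2, 6, 1, 2, 5, 6, 1, 2, 3, 5, 1, 0, 1, 0, 6, 4, 2, 3, 6, 2, 1, 0, 1, 0, 6, 1, 0, 6, 5, 4, 2], [5, 1, 2, 3, 2, 1, 0, 1, 4, 5, 1, 2, 3, 2, 4, 1, 5, 0, 3, 4, 2, 1, 2, 0, 1, 3, 2, 4, 3, 1, 5, 4, 5, 1, 3, 5, 1, 2, 3, 2, 1, 0, 1, 4, 5, 1, 2, 3,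 2, 4, 1, 5, 0, 3, 4, 2, 1, 2, 0, 1, 3, 2, 4, 3, 1, 5, 4, 5, 1, 3, 2, 3, 4, 5, 1, 0, 2, 1, 0, 1, 3, 2, 4, 3, 2, 5, 4, 3, 6, 4, 6, 0, 1, 0, 1, 2, 0, 3, 1, 2, 0, 3, 2, 6, 1, 2, 5, 6, 1, 2, 3, 5, 1, 0, 1, 0, 6, 4, 2, 3, 6, 2, 1, 0, 1, 0, 6, 1, 0, 6, 5, 4, 2, 3, 2, 6, 1, 2, 5, 6, 1, 2, 3, 5, 1, 0, 1, 0, 6, 4, 2, 3, 6, 2, 1, 0, 1, 0, 6, 1, 0, 6, 5, 4, 2, 3, 2, 6, 1, 2, 5, 6, 1, 2, 3, 5, 1, 0, 1, 0, 6, 4, 2, 3, 6, 2, 1, 0, 1, 0, 6, 1, 0, 6, 5, 4, 2, 3, 2, 6, 1, 2, 5, 6, 1, 2, 3, 5, 1, 0, 1, 0, 6, 4, 2, 3, 6, 2, 1, 0, 1, 0, 6, 1, 0, 6, 5, 4, 2], [5, 1, 2, 3, 2, 1, 0, 1, 4, 5, 1, 2, 3, 2, 4, 1, 5, 0, 3, 4, 2, 1, 2, 0, 1, 3, 2, 4, 3, 1, 5, 4, 5, 1, 3, 5, 1, 2, 3, 2, 1, 0, 1, 4, 5, 1, 2, 3, 2, 4, 1, 5, 0, 3, 4, 2, 1, 2, 0, 1, 3, 2, 4, 3, 1, 5, 4, 5, 1, 3, 3, 2, 6, 1, 2, 5, 6, 1, 2, 3, 5, 1, 0, 1, 0, 6, 4, 2, 3, 6, 2, 1, 0, 1, 0, 6, 1, 0, 6, 5, 4, 2, 2, 3, 4, 5, 1, 0, 2, 1, 0, 1, 3, 2, 4, 3, 2, 5, 4, 3,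 6, 4, 6, 0, 1, 0, 1, 2, 0, 3, 1, 2, 0, 3, 2, 6, 1, 2, 5, 6, 1, 2, 3, 5, 1, 0, 1, 0, 6, 4, 2, 3, 6, 2, 1, 0, 1, 0, 6, 1, 0, 6, 5, 4, 2, 3, 2, 6, 1, 2, 5, 6, 1, 2, 3, 5, 1, 0, 1, 0, 6, 4, 2, 3, 6, 2, 1, 0, 1, 0, 6, 1, 0, 6, 5, 4, 2, 3, 2, 6, 1, 2, 5, 6, 1, 2, 3, 5, 1, 0, 1, 0, 6, 4, 2, 3, 6, 2, 1, 0, 1, 0, 6, 1, 0, 6, 5, 4, 2], [5, 1, 2, 3, 2, 1, 0, 1, 4, 5, 1, 2, 3, 2, 4, 1, 5, 0, 3, 4, 2, 1, 2, 0, 1, 3, 2, 4, 3, 1, 5, 4, 5, 1, 3, 5, 1, 2, 3, 2, 1, 0, 1, 4, 5, 1, 2, 3, 2, 4, 1, 5, 0, 3, 4, 2, 1, 2, 0, 1, 3, 2, 4, 3, 1, 5, 4, 5, 1, 3, 3, 2, 6, 1, 2, 5, 6, 1, 2, 3, 5, 1, 0, 1, 0, 6, 4, 2, 3, 6, 2, 1, 0, 1, 0, 6, 1, 0, 6, 5, 4, 2, 3, 2, 6, 1, 2, 5, 6, 1, 2, 3, 5, 1, 0, 1, 0, 6, 4, 2, 3, 6, 2, 1, 0, 1, 0, 6, 1, 0, 6, 5, 4, 2, 3, 2, 6, 1, 2, 5, 6, 1, 2, 3, 5, 1, 0, 1, 0, 6, 4, 2, 3, 6, 2, 1, 0, 1, 0, 6, 1, 0, 6, 5, 4, 2, 3, 2, 6, 1, 2, 5, 6, 1, 2, 3, 5, 1, 0, 1, 0, 6, 4, 2, 3, 6, 2, 1, 0, 1, 0, 6,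 1, 0, 6, 5, 4, 2, 3, 2, 6, 1, 2, 5, 6, 1, 2, 3, 5, 1, 0, 1, 0, 6, 4, 2, 3, 6, 2, 1, 0, 1, 0, 6, 1, 0, 6, 5, 4, 2], [5, 1, 2, 3, 2, 1, 0, 1, 4, 5, 1, 2, 3, 2, 4, 1, 5, 0, 3, 4, 2, 1, 2, 0, 1, 3, 2, 4, 3, 1, 5, 4, 5, 1, 3, 2, 3, 4, 5, 1, 0, 2, 1, 0, 1, 3, 2, 4, 3, 2, 5, 4, 3, 6, 4, 6, 0, 1, 0, 1, 2, 0, 3, 1, 2, 0, 3, 2, 6, 1, 2, 5, 6, 1, 2, 3, 5, 1, 0, 1, 0, 6, 4, 2, 3, 6, 2, 1, 0, 1, 0, 6, 1, 0, 6, 5, 4, 2, 2, 3, 4, 5, 1, 0, 2, 1, 0, 1, 3, 2, 4, 3, 2, 5, 4, 3, 6, 4, 6, 0, 1, 0, 1, 2, 0, 3, 1, 2, 0, 3, 2, 6, 1, 2, 5, 6, 1, 2, 3, 5, 1, 0, 1, 0, 6, 4, 2, 3, 6, 2, 1, 0, 1, 0, 6, 1, 0, 6, 5, 4, 2, 3, 2, 6, 1, 2, 5, 6, 1, 2, 3, 5, 1, 0, 1, 0, 6, 4, 2, 3, 6, 2, 1, 0, 1, 0, 6, 1, 0, 6, 5, 4, 2, 3, 2, 6, 1, 2, 5, 6, 1, 2, 3, 5, 1, 0, 1, 0, 6, 4, 2, 3, 6, 2, 1, 0, 1, 0, 6, 1, 0, 6, 5, 4, 2], [5, 1, 2, 3, 2, 1, 0, 1, 4, 5, 1, 2, 3, 2, 4, 1, 5, 0, 3, 4, 2, 1, 2, 0, 1, 3, 2, 4, 3, 1, 5, 4, 5, 1, 3, 2, 3, 4,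 5, 1, 0, 2, 1, 0, 1, 3, 2, 4, 3, 2, 5, 4, 3, 6, 4, 6, 0, 1, 0, 1, 2, 0, 3, 1, 2, 0, 3, 2, 6, 1, 2, 5, 6, 1, 2, 3, 5, 1, 0, 1, 0, 6, 4, 2, 3, 6, 2, 1, 0, 1, 0, 6, 1, 0, 6, 5, 4, 2, 3, 2, 6, 1, 2, 5, 6, 1, 2, 3, 5, 1, 0, 1, 0, 6, 4, 2, 3, 6, 2, 1, 0, 1, 0, 6, 1, 0, 6, 5, 4, 2, 3, 2, 6, 1, 2, 5, 6, 1, 2, 3, 5, 1, 0, 1, 0, 6, 4, 2, 3, 6, 2, 1, 0, 1, 0, 6, 1, 0, 6, 5, 4, 2, 3, 2, 6, 1, 2, 5, 6, 1, 2, 3, 5, 1, 0, 1, 0, 6, 4, 2, 3, 6, 2, 1, 0, 1, 0, 6, 1, 0, 6, 5, 4, 2, 3, 2, 6, 1, 2, 5, 6, 1, 2, 3, 5, 1, 0, 1, 0, 6, 4, 2, 3, 6, 2, 1, 0, 1, 0, 6, 1, 0, 6, 5, 4, 2], [5, 1, 2, 3, 2, 1, 0, 1, 4, 5, 1, 2, 3, 2, 4, 1, 5, 0, 3, 4, 2, 1, 2, 0, 1, 3, 2, 4, 3, 1, 5, 4, 5, 1, 3, 3, 2, 6, 1, 2, 5, 6, 1, 2, 3, 5, 1, 0, 1, 0, 6, 4, 2, 3, 6, 2, 1, 0, 1, 0, 6, 1, 0, 6, 5, 4, 2, 2, 3, 4, 5, 1, 0, 2, 1, 0, 1, 3, 2, 4, 3, 2, 5, 4, 3, 6, 4, 6, 0, 1, 0, 1, 2, 0, 3, 1, 2, 0, 3, 2, 6, 1, 2, 5, 6, 1, 2, 3, 5, 1, 0, 1, 0,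 6, 4, 2, 3, 6, 2, 1, 0, 1, 0, 6, 1, 0, 6, 5, 4, 2, 3, 2, 6, 1, 2, 5, 6, 1, 2, 3, 5, 1, 0, 1, 0, 6, 4, 2, 3, 6, 2, 1, 0, 1, 0, 6, 1, 0, 6, 5, 4, 2, 3, 2, 6, 1, 2, 5, 6, 1, 2, 3, 5, 1, 0, 1, 0, 6, 4, 2, 3, 6, 2, 1, 0, 1, 0, 6, 1, 0, 6, 5, 4, 2, 3, 2, 6, 1, 2, 5, 6, 1, 2, 3, 5, 1, 0, 1, 0, 6, 4, 2, 3, 6, 2, 1, 0, 1, 0, 6, 1, 0, 6, 5, 4, 2], [2, 3, 4, 5, 1, 0, 2, 1, 0, 1, 3, 2, 4, 3, 2, 5, 4, 3, 6, 4, 6, 0, 1, 0, 1, 2, 0, 3, 1, 2, 0, 3, 2, 6, 1, 2, 5, 6, 1, 2, 3, 5, 1, 0, 1, 0, 6, 4, 2, 3, 6, 2, 1, 0, 1, 0, 6, 1, 0, 6, 5, 4, 2, 2, 3, 4, 5, 1, 0, 2, 1, 0, 1, 3, 2, 4, 3, 2, 5, 4, 3, 6, 4, 6, 0, 1, 0, 1, 2, 0, 3, 1, 2, 0, 3, 2, 6, 1, 2, 5, 6, 1, 2, 3, 5, 1, 0, 1, 0, 6, 4, 2, 3, 6, 2, 1, 0, 1, 0, 6, 1, 0, 6, 5, 4, 2, 3, 2, 6, 1, 2, 5, 6, 1, 2, 3, 5, 1, 0, 1, 0, 6, 4, 2, 3, 6, 2, 1, 0, 1, 0, 6, 1, 0, 6, 5, 4, 2, 3, 2, 6, 1, 2, 5, 6, 1, 2, 3, 5, 1, 0, 1, 0, 6, 4, 2, 3, 6, 2, 1, 0, 1, 0, 6, 1, 0, 6, 5,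 4, 2, 3, 2, 6, 1, 2, 5, 6, 1, 2, 3, 5, 1, 0, 1, 0, 6, 4, 2, 3, 6, 2, 1, 0, 1, 0, 6, 1, 0, 6, 5, 4, 2], [5, 1, 2, 3, 2, 1, 0, 1, 4, 5, 1, 2, 3, 2, 4, 1, 5, 0, 3, 4, 2, 1, 2, 0, 1, 3, 2, 4, 3, 1, 5, 4, 5, 1, 3, 5, 1, 2, 3, 2, 1, 0, 1, 4, 5, 1, 2, 3, 2, 4, 1, 5, 0, 3, 4, 2, 1, 2, 0, 1, 3, 2, 4, 3, 1, 5, 4, 5, 1, 3, 2, 3, 4, 5, 1, 0, 2, 1, 0, 1, 3, 2, 4, 3, 2, 5, 4, 3, 6, 4, 6, 0, 1, 0, 1, 2, 0, 3, 1, 2, 0, 3, 2, 6, 1, 2, 5, 6, 1, 2, 3, 5, 1, 0, 1, 0, 6, 4, 2, 3, 6, 2, 1, 0, 1, 0, 6, 1, 0, 6, 5, 4, 2, 2, 3, 4, 5, 1, 0, 2, 1, 0, 1, 3, 2, 4, 3, 2, 5, 4, 3, 6, 4, 6, 0, 1, 0, 1, 2, 0, 3, 1, 2, 0, 3, 2, 6, 1, 2, 5, 6, 1, 2, 3, 5, 1, 0, 1, 0, 6, 4, 2, 3, 6, 2, 1, 0, 1, 0, 6, 1, 0, 6, 5, 4, 2, 3, 2, 6, 1, 2, 5, 6, 1, 2, 3, 5, 1, 0, 1, 0, 6, 4, 2, 3, 6, 2, 1, 0, 1, 0, 6, 1, 0, 6, 5, 4, 2, 3, 2, 6, 1, 2, 5, 6, 1, 2, 3, 5, 1, 0, 1, 0, 6, 4, 2, 3, 6, 2, 1, 0, 1, 0, 6, 1, 0, 6, 5, 4, 2], [5, 1, 2, 3, 2, 1, 0,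 1, 4, 5, 1, 2, 3, 2, 4, 1, 5, 0, 3, 4, 2, 1, 2, 0, 1, 3, 2, 4, 3, 1, 5, 4, 5, 1, 3, 5, 1, 2, 3, 2, 1, 0, 1, 4, 5, 1, 2, 3, 2, 4, 1, 5, 0, 3, 4, 2, 1, 2, 0, 1, 3, 2, 4, 3, 1, 5, 4, 5, 1, 3, 2, 3, 4, 5, 1, 0, 2, 1, 0, 1, 3, 2, 4, 3, 2, 5, 4, 3, 6, 4, 6, 0, 1, 0, 1, 2, 0, 3, 1, 2, 0, 3, 2, 6, 1, 2, 5, 6, 1, 2, 3, 5, 1, 0, 1, 0, 6, 4, 2, 3, 6, 2, 1, 0, 1, 0, 6, 1, 0, 6, 5, 4, 2, 3, 2, 6, 1, 2, 5, 6, 1, 2, 3, 5, 1, 0, 1, 0, 6, 4, 2, 3, 6, 2, 1, 0, 1, 0, 6, 1, 0, 6, 5, 4, 2, 3, 2, 6, 1, 2, 5, 6, 1, 2, 3, 5, 1, 0, 1, 0, 6, 4, 2, 3, 6, 2, 1, 0, 1, 0, 6, 1, 0, 6, 5, 4, 2, 3, 2, 6, 1, 2, 5, 6, 1, 2, 3, 5, 1, 0, 1, 0, 6, 4, 2, 3, 6, 2, 1, 0, 1, 0, 6, 1, 0, 6, 5, 4, 2, 3, 2, 6, 1, 2, 5, 6, 1, 2, 3, 5, 1, 0, 1, 0, 6, 4, 2, 3, 6, 2, 1, 0, 1, 0, 6, 1, 0, 6, 5, 4, 2], [5, 1, 2, 3, 2, 1, 0, 1, 4, 5, 1, 2, 3, 2, 4, 1, 5, 0, 3, 4, 2, 1, 2, 0, 1, 3, 2, 4, 3, 1, 5, 4, 5, 1, 3, 5, 1, 2, 3, 2, 1, 0, 1, 4, 5, 1, 2,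 3, 2, 4, 1, 5, 0, 3, 4, 2, 1, 2, 0, 1, 3, 2, 4, 3, 1, 5, 4, 5, 1, 3, 3, 2, 6, 1, 2, 5, 6, 1, 2, 3, 5, 1, 0, 1, 0, 6, 4, 2, 3, 6, 2, 1, 0, 1, 0, 6, 1, 0, 6, 5, 4, 2, 2, 3, 4, 5, 1, 0, 2, 1, 0, 1, 3, 2, 4, 3, 2, 5, 4, 3, 6, 4, 6, 0, 1, 0, 1, 2, 0, 3, 1, 2, 0, 3, 2, 6, 1, 2, 5, 6, 1, 2, 3, 5, 1, 0, 1, 0, 6, 4, 2, 3, 6, 2, 1, 0, 1, 0, 6, 1, 0, 6, 5, 4, 2, 3, 2, 6, 1, 2, 5, 6, 1, 2, 3, 5, 1, 0, 1, 0, 6, 4, 2, 3, 6, 2, 1, 0, 1, 0, 6, 1, 0, 6, 5, 4, 2, 3, 2, 6, 1, 2, 5, 6, 1, 2, 3, 5, 1, 0, 1, 0, 6, 4, 2, 3, 6, 2, 1, 0, 1, 0, 6, 1, 0, 6, 5, 4, 2, 3, 2, 6, 1, 2, 5, 6, 1, 2, 3, 5, 1, 0, 1, 0, 6, 4, 2, 3, 6, 2, 1, 0, 1, 0, 6, 1, 0, 6, 5, 4, 2], [5, 1, 2, 3, 2, 1, 0, 1, 4, 5, 1, 2, 3, 2, 4, 1, 5, 0, 3, 4, 2, 1, 2, 0, 1, 3, 2, 4, 3, 1, 5, 4, 5, 1, 3, 2, 3, 4, 5, 1, 0, 2, 1, 0, 1, 3, 2, 4, 3, 2, 5, 4, 3, 6, 4, 6, 0, 1, 0, 1, 2, 0, 3, 1, 2, 0, 3, 2, 6, 1, 2, 5, 6, 1, 2, 3, 5, 1, 0, 1, 0, 6, 4, 2, 3, 6, 2,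 1, 0, 1, 0, 6, 1, 0, 6, 5, 4, 2, 2, 3, 4, 5, 1, 0, 2, 1, 0, 1, 3, 2, 4, 3, 2, 5, 4, 3, 6, 4, 6, 0, 1, 0, 1, 2, 0, 3, 1, 2, 0, 3, 2, 6, 1, 2, 5, 6, 1, 2, 3, 5, 1, 0, 1, 0, 6, 4, 2, 3, 6, 2, 1, 0, 1, 0, 6, 1, 0, 6, 5, 4, 2, 3, 2, 6, 1, 2, 5, 6, 1, 2, 3, 5, 1, 0, 1, 0, 6, 4, 2, 3, 6, 2, 1, 0, 1, 0, 6, 1, 0, 6, 5, 4, 2, 3, 2, 6, 1, 2, 5, 6, 1, 2, 3, 5, 1, 0, 1, 0, 6, 4, 2, 3, 6, 2, 1, 0, 1, 0, 6, 1, 0, 6, 5, 4, 2, 3, 2, 6, 1, 2, 5, 6, 1, 2, 3, 5, 1, 0, 1, 0, 6, 4, 2, 3, 6, 2, 1, 0, 1, 0, 6, 1, 0, 6, 5, 4, 2], [5, 1, 2, 3, 2, 1, 0, 1, 4, 5, 1, 2, 3, 2, 4, 1, 5, 0, 3, 4, 2, 1, 2, 0, 1, 3, 2, 4, 3, 1, 5, 4, 5, 1, 3, 5, 1, 2, 3, 2, 1, 0, 1, 4, 5, 1, 2, 3, 2, 4, 1, 5, 0, 3, 4, 2, 1, 2, 0, 1, 3, 2, 4, 3, 1, 5, 4, 5, 1, 3, 2, 3, 4, 5, 1, 0, 2, 1, 0, 1, 3, 2, 4, 3, 2, 5, 4, 3, 6, 4, 6, 0, 1, 0, 1, 2, 0, 3, 1, 2, 0, 3, 2, 6, 1, 2, 5, 6, 1, 2, 3, 5, 1, 0, 1, 0, 6, 4, 2, 3, 6, 2, 1, 0, 1, 0, 6, 1, 0, 6, 5,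 4, 2, 2, 3, 4, 5, 1, 0, 2, 1, 0, 1, 3, 2, 4, 3, 2, 5, 4, 3, 6, 4, 6, 0, 1, 0, 1, 2, 0, 3, 1, 2, 0, 3, 2, 6, 1, 2, 5, 6, 1, 2, 3, 5, 1, 0, 1, 0, 6, 4, 2, 3, 6, 2, 1, 0, 1, 0, 6, 1, 0, 6, 5, 4, 2, 3, 2, 6, 1, 2, 5, 6, 1, 2, 3, 5, 1, 0, 1, 0, 6, 4, 2, 3, 6, 2, 1, 0, 1, 0, 6, 1, 0, 6, 5, 4, 2, 3, 2, 6, 1, 2, 5, 6, 1, 2, 3, 5, 1, 0, 1, 0, 6, 4, 2, 3, 6, 2, 1, 0, 1, 0, 6, 1, 0, 6, 5, 4, 2, 3, 2, 6, 1, 2, 5, 6, 1, 2, 3, 5, 1, 0, 1, 0, 6, 4, 2, 3, 6, 2, 1, 0, 1, 0, 6, 1, 0, 6, 5, 4, 2]]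

/-- The relations used. -/
def testWords : List (List Nat) :=
  [[2], [2, 0], [2, 0, 0], [2, 0, 0, 1], [2, 2, 0]]

/-- Their exponents. -/
def testOrd : List Nat :=
  [6, 14, 13, 10, 10]

/-- Reasons of exclusion. -/
def candCode0 : List Nat :=
  [5, 2, 2, 0, 2, 2, 2, 1, 1, 2, 4, 3, 3, 1, 1, 3, 2, 3, 3, 3, 4, 4, 1, 1, 4, 4, 4, 4, 4, 3, 1, 1, 4, 4, 4, 4, 4, 3, 4, 4, 1, 1, 3, 4, 4, 4, 4, 4, 4, 1, 1, 4, 4, 4, 4, 4, 4, 1, 1, 4, 4, 3, 4, 4, 1, 1, 4, 4, 1, 1, 3, 4]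

/-- Reasons of exclusion. -/
def candCode1 : List Nat :=
  [5, 2, 2, 2, 2, 2, 2, 1, 1, 2, 4, 2, 2, 1, 1, 2, 2, 2, 2, 2, 4, 4, 1, 1, 4, 4, 4, 4, 4, 4, 1, 1, 4, 4, 4, 4, 4, 4, 4, 4, 1, 1, 4, 4, 4, 4, 4, 4, 3, 1, 1, 4, 4, 4, 3, 0, 4, 1, 1, 4, 4, 4, 4, 4, 1, 1, 4, 3, 1, 1, 4, 4]

/-- Words moving the points to the first one. -/
def repTab : Tab :=
  (.node 891 (.node 445 (.node 222 (.node 111 (.node 55 (.node 27 (.node 13 (.node 6 (.node 3 (.node 1 (.leaf 0) (.node 1 (.leaf 7) (.leaf 114))) (.node 1 (.leaf 1825) (.node 1 (.leaf 1827) (.leaf 1830)))) (.node 3 (.node 1 (.leaf 29202) (.node 1 (.leaf 29203) (.leaf 29236))) (.node 2 (.node 1 (.leaf 29238) (.leaf 467235)) (.node 1 (.leaf 467250) (.leaf 467252))))) (.node 7 (.node 3 (.node 1 (.leaf 467779) (.node 1 (.leaf 467781) (.leaf 467782))) (.node 2 (.node 1 (.leaf 467810) (.leaf 7475762)) (.node 1 (.leaf 7475764) (.leaf 7476001)))) (.node 3 (.node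 1 (.leaf 7476004) (.node 1 (.leaf 7476006) (.leaf 7476007))) (.node 2 (.node 1 (.leaf 7476035) (.leaf 7476037)) (.node 1 (.leaf 7484466) (.leaf 7484469)))))) (.node 14 (.node 7 (.node 3 (.node 1 (.leaf 7484470) (.node 1 (.leaf 7484502) (.leaf 7484514))) (.node 2 (.node 1 (.leaf 7484967) (.leaf 119612196)) (.node 1 (.leaf 119612198) (.leaf 119612227)))) (.node 3 (.node 1 (.leaf 119612229) (.node 1 (.leaf 119616020) (.leaf 119616022))) (.node 2 (.node 1 (.leaf 119616067) (.leaf 119616069)) (.node 1 (.leaf 119616070) (.leaf 119616071))))) (.node 7 (.node 3 (.node 1 (.leaf 119616118) (.node 1 (.leaf 119616562) (.leaf 119616565))) (.node 2 (.node 1 (.leaf 119751457) (.leaf 119751461)) (.node 1 (.leaf 119751462) (.leaf 119751463)))) (.node 3 (.node 1 (.leaf 119751508) (.node 1 (.leaf 119751510) (.leaf 119751522))) (.node 2 (.node 1 (.leaf 119752034) (.leaf 119752227)) (.node 1 (.leaf 1913795139) (.leaf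 1913795141))))))) (.node 28 (.node 14 (.node 7 (.node 3 (.node 1 (.leaf 1913795142) (.node 1 (.leaf 1913795634) (.leaf 1913795637))) (.node 2 (.node 1 (.leaf 1913856325) (.leaf 1913856326)) (.node 1 (.leaf 1913857074) (.leaf 1913857076)))) (.node 3 (.node 1 (.leaf 1913857077) (.node 1 (.leaf 1913857078) (.leaf 1913857079))) (.node 2 (.node 1 (.leaf 1913857110) (.leaf 1913857111)) (.node 1 (.leaf 1913857142) (.leaf 1913857890))))) (.node 7 (.node 3 (.node 1 (.leaf 1913864993) (.node 1 (.leaf 1913864997) (.leaf 1913864998))) (.node 2 (.node 1 (.leaf 1913864999) (.leaf 1913865044)) (.node 1 (.leaf 1916023317) (.leaf 1916023318)))) (.node 3 (.node 1 (.leaf 1916023319) (.node 1 (.leaf 1916023380) (.leaf 1916023382))) (.node 2 (.node 1 (.leaf 1916023383) (.leaf 1916023394)) (.node 1 (.leaf 1916023399) (.leaf 1916023414)))))) (.node 14 (.node 7 (.node 3 (.node 1 (.leaf 1916024131) (.node 1 (.leaf 1916024134)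 (.leaf 1916024162))) (.node 2 (.node 1 (.leaf 1916032547) (.leaf 30620722226)) (.node 1 (.leaf 30620722229) (.leaf 30620722230)))) (.node 3 (.node 1 (.leaf 30620722262) (.node 1 (.leaf 30620730149) (.leaf 30620730150))) (.node 2 (.node 1 (.leaf 30620730196) (.leaf 30621701206)) (.node 1 (.leaf 30621713185) (.leaf 30621713188))))) (.node 7 (.node 3 (.node 1 (.leaf 30621713189) (.node 1 (.leaf 30621713190) (.leaf 30621713191))) (.node 2 (.node 1 (.leaf 30621713219) (.leaf 30621713221)) (.node 1 (.leaf 30621713222) (.leaf 30621713236)))) (.node 3 (.node 1 (.leaf 30621713238) (.node 1 (.leaf 30621713239) (.leaf 30621713250))) (.node 2 (.node 1 (.leaf 30621713270) (.leaf 30621713782)) (.node 1 (.leaf 30621714274) (.leaf 30621839893)))))))) (.node 55 (.node 27 (.node 13 (.node 6 (.node 3 (.node 1 (.leaf 30621839894) (.node 1 (.leaf 30621839895) (.leaf 30621839956))) (.node 1 (.leaf 30621839958) (.node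 1 (.leaf 30621839959) (.leaf 30621839975)))) (.node 3 (.node 1 (.leaf 30621839990) (.node 1 (.leaf 30621840707) (.leaf 30656373076))) (.node 2 (.node 1 (.leaf 30656373078) (.leaf 30656373079)) (.node 1 (.leaf 30656373090) (.leaf 30656374083))))) (.node 7 (.node 3 (.node 1 (.leaf 30656374086) (.node 1 (.leaf 30656374087) (.leaf 30656374114))) (.node 2 (.node 1 (.leaf 30656374119) (.leaf 30656374134)) (.node 1 (.leaf 30656374386) (.leaf 30656374626)))) (.node 3 (.node 1 (.leaf 30656386098) (.node 1 (.leaf 30656386102) (.leaf 30656386146))) (.node 2 (.node 1 (.leaf 489931555621) (.leaf 489931555622)) (.node 1 (.leaf 489931555668) (.leaf 489931555670)))))) (.node 14 (.node 7 (.node 3 (.node 1 (.leaf 489931555682) (.node 1 (.leaf 489931682388) (.leaf 489931682390))) (.node 2 (.node 1 (.leaf 489931682407) (.leaf 489931683139)) (.node 1 (.leaf 489947410962) (.leaf 489947410965)))) (.node 3 (.node 1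 (.leaf 489947410966) (.node 1 (.leaf 489947410967) (.leaf 489947411013))) (.node 2 (.node 1 (.leaf 489947411014) (.leaf 489947411015)) (.node 1 (.leaf 489947411028) (.leaf 489947411030))))) (.node 7 (.node 3 (.node 1 (.leaf 489947411031) (.node 1 (.leaf 489947411042) (.leaf 489947411047))) (.node 2 (.node 1 (.leaf 489947411062) (.leaf 489947411509)) (.node 1 (.leaf 489947411540) (.leaf 489947411542)))) (.node 3 (.node 1 (.leaf 489947411554) (.node 1 (.leaf 489947411779) (.leaf 489947411782))) (.node 2 (.node 1 (.leaf 489947411783) (.leaf 489947411810)) (.node 1 (.leaf 489947411830) (.leaf 489947412001))))))) (.node 28 (.node 14 (.node 7 (.node 3 (.node 1 (.leaf 489947412007) (.node 1 (.leaf 489947412322) (.leaf 489947420514))) (.node 2 (.node 1 (.leaf 489947428387) (.leaf 489949438292)) (.node 1 (.leaf 489949438294) (.leaf 489949438295)))) (.node 3 (.node 1 (.leaf 489949438306) (.node 1 (.leaf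 489949439299) (.leaf 489949439302))) (.node 2 (.node 1 (.leaf 489949439303) (.leaf 489949439335)) (.node 1 (.leaf 489949439350) (.leaf 489949439602))))) (.node 7 (.node 3 (.node 1 (.leaf 489949439842) (.node 1 (.leaf 489949451314) (.leaf 490501969219))) (.node 2 (.node 1 (.leaf 490501969222) (.leaf 490501969223)) (.node 1 (.leaf 490501969250) (.leaf 490501969441)))) (.node 3 (.node 1 (.leaf 490501969443) (.node 1 (.leaf 490501969447) (.leaf 490501985330))) (.node 2 (.node 1 (.leaf 490501985332) (.leaf 490501985334)) (.node 1 (.leaf 490501985335) (.leaf 490501985378)))))) (.node 14 (.node 7 (.node 3 (.node 1 (.leaf 490501985383) (.node 1 (.leaf 490501985398) (.leaf 490501985906))) (.node 2 (.node 1 (.leaf 490501986146) (.leaf 490501990177)) (.node 1 (.leaf 490501990179) (.leaf 490501990182)))) (.node 3 (.node 1 (.leaf 490501994019) (.node 1 (.leaf 490501994023) (.leaf 490502177569))) (.node 2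 (.node 1 (.leaf 490502177574) (.leaf 490502177575)) (.node 1 (.leaf 490502177634) (.leaf 490502178339))))) (.node 7 (.node 3 (.node 1 (.leaf 7838904889940) (.node 1 (.leaf 7838904889942) (.leaf 7838904889954))) (.node 2 (.node 1 (.leaf 7838904890691) (.leaf 7838904890694)) (.node 1 (.leaf 7838904890722) (.leaf 7838904890913)))) (.node 3 (.node 1 (.leaf 7838904890919) (.node 1 (.leaf 7838906918211) (.leaf 7838906918214))) (.node 2 (.node 1 (.leaf 7838906918247) (.leaf 7838906918514)) (.node 1 (.leaf 7838906930226) (.leaf 7839158575397))))))))) (.node 111 (.node 55 (.node 27 (.node 13 (.node 6 (.node 3 (.node 1 (.leaf 7839158575398) (.node 1 (.leaf 7839158575399) (.leaf 7839158575444))) (.node 1 (.leaf 7839158575446) (.node 1 (.leaf 7839158575447) (.leaf 7839158575458)))) (.node 3 (.node 1 (.leaf 7839158575474) (.node 1 (.leaf 7839158576212) (.leaf 7839158576214))) (.node 2 (.node 1 (.leaf 7839158576215)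 (.leaf 7839158576226)) (.node 1 (.leaf 7839158576231) (.leaf 7839158576246))))) (.node 7 (.node 3 (.node 1 (.leaf 7839158576451) (.node 1 (.leaf 7839158576454) (.leaf 7839158576455))) (.node 2 (.node 1 (.leaf 7839158576482) (.leaf 7839158576487)) (.node 1 (.leaf 7839158576502) (.leaf 7839158576673)))) (.node 3 (.node 1 (.leaf 7839158584148) (.node 1 (.leaf 7839158584643) (.leaf 7839158584646))) (.node 2 (.node 1 (.leaf 7839158584674) (.leaf 7839158584867)) (.node 1 (.leaf 7839158588466) (.leaf 7839158588470)))))) (.node 14 (.node 7 (.node 3 (.node 1 (.leaf 7839158588471) (.node 1 (.leaf 7839158588514) (.leaf 7839158588534))) (.node 2 (.node 1 (.leaf 7839158588961) (.leaf 7839158588967)) (.node 1 (.leaf 7839158589282) (.leaf 7839158592018)))) (.node 3 (.node 1 (.leaf 7839158592118) (.node 1 (.leaf 7839158597153) (.leaf 7839158597155))) (.node 2 (.node 1 (.leaf 7839158728227) (.leaf 7839158854196))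 (.node 1 (.leaf 7839191012675) (.leaf 7839191012678))))) (.node 7 (.node 3 (.node 1 (.leaf 7839191012679) (.node 1 (.leaf 7839191012706) (.leaf 7839191012897))) (.node 2 (.node 1 (.leaf 7839191012899) (.leaf 7839191012903)) (.node 1 (.leaf 7839191028786) (.leaf 7839191028788)))) (.node 3 (.node 1 (.leaf 7839191028790) (.node 1 (.leaf 7839191028791) (.leaf 7839191028839))) (.node 2 (.node 1 (.leaf 7839191028854) (.leaf 7839191029362)) (.node 1 (.leaf 7839191029602) (.leaf 7839191033633))))))) (.node 28 (.node 14 (.node 7 (.node 3 (.node 1 (.leaf 7839191033635) (.node 1 (.leaf 7839191037475) (.leaf 7839191037479))) (.node 2 (.node 1 (.leaf 7839191221025) (.leaf 7839191221030)) (.node 1 (.leaf 7839191221031) (.leaf 7848031507506)))) (.node 3 (.node 1 (.leaf 7848031507508) (.node 1 (.leaf 7848031507510) (.leaf 7848031507511))) (.node 2 (.node 1 (.leaf 7848031507554) (.leaf 7848031508001)) (.node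 1 (.leaf 7848031508003) (.leaf 7848031508007))))) (.node 7 (.node 3 (.node 1 (.leaf 7848031511058) (.node 1 (.leaf 7848031511059) (.leaf 7848031511092))) (.node 2 (.node 1 (.leaf 7848031511095) (.leaf 7848031765281)) (.node 1 (.leaf 7848031765284) (.leaf 7848031765286)))) (.node 3 (.node 1 (.leaf 7848031765287) (.node 1 (.leaf 7848031765317) (.leaf 7848031765318))) (.node 2 (.node 1 (.leaf 7848031765319) (.leaf 7848031765346)) (.node 1 (.leaf 7848031765351) (.leaf 7848031765362)))))) (.node 14 (.node 7 (.node 3 (.node 1 (.leaf 7848031765366) (.node 1 (.leaf 7848031766051) (.leaf 7848031766130))) (.node 2 (.node 1 (.leaf 7848031766370) (.leaf 7848031774497)) (.node 1 (.leaf 7848031774499) (.leaf 7848031774502)))) (.node 3 (.node 1 (.leaf 7848031778339) (.node 1 (.leaf 7848031778343) (.leaf 7848031842835))) (.node 2 (.node 1 (.leaf 7848031842868) (.leaf 7848031842870)) (.node 1 (.leaf 7848031904308)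 (.leaf 7848031904311))))) (.node 7 (.node 3 (.node 1 (.leaf 7848034841106) (.node 1 (.leaf 7848034841110) (.leaf 7848034841111))) (.node 2 (.node 1 (.leaf 7848034841186) (.leaf 7848034841191)) (.node 1 (.leaf 7848034841206) (.leaf 7848034842145)))) (.node 3 (.node 1 (.leaf 7848034842147) (.node 1 (.leaf 7848034842151) (.leaf 125422478239043))) (.node 2 (.node 1 (.leaf 125422478239046) (.leaf 125422478239074)) (.node 1 (.leaf 125422478251058) (.leaf 125422478251062)))))))) (.node 56 (.node 28 (.node 14 (.node 7 (.node 3 (.node 1 (.leaf 125422478251106) (.node 1 (.leaf 125422478251553) (.leaf 125422478251559))) (.node 2 (.node 1 (.leaf 125422510691378) (.leaf 125422510691380)) (.node 1 (.leaf 125422510691382) (.leaf 125422510691431)))) (.node 3 (.node 1 (.leaf 125422510691954) (.node 1 (.leaf 125422510883617) (.leaf 125422510883622))) (.node 2 (.node 1 (.leaf 125422510883623) (.leaf 125426537206356))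 (.node 1 (.leaf 125426537206358) (.leaf 125426537206359))))) (.node 7 (.node 3 (.node 1 (.leaf 125426537206386) (.node 1 (.leaf 125426537207107) (.leaf 125426537207110))) (.node 2 (.node 1 (.leaf 125426537207111) (.leaf 125426537207138)) (.node 1 (.leaf 125426537207154) (.leaf 125426537219395)))) (.node 3 (.node 1 (.leaf 125426537219398) (.node 1 (.leaf 125426537219399) (.leaf 125426537219426))) (.node 2 (.node 1 (.leaf 125426537219431) (.leaf 125426537219446)) (.node 1 (.leaf 125426537223218) (.leaf 125426537223220)))))) (.node 14 (.node 7 (.node 3 (.node 1 (.leaf 125426537223222) (.node 1 (.leaf 125426537223223) (.leaf 125426537223266))) (.node 2 (.node 1 (.leaf 125426537223271) (.leaf 125426537223286)) (.node 1 (.leaf 125426537223713) (.leaf 125426537346371)))) (.node 3 (.node 1 (.leaf 125426537354290) (.node 1 (.leaf 125426537354292) (.leaf 125426537354294))) (.node 2 (.node 1 (.leaf 125426537354338)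 (.leaf 125426537354787)) (.node 1 (.leaf 125426537415457) (.leaf 125426537415462))))) (.node 7 (.node 3 (.node 1 (.leaf 125426537415463) (.node 1 (.leaf 125426537415522) (.leaf 125426537415538))) (.node 2 (.node 1 (.leaf 125426537415542) (.leaf 125426537416225)) (.node 1 (.leaf 125426537416227) (.leaf 125426537416231)))) (.node 3 (.node 1 (.leaf 125426537416546) (.node 1 (.leaf 125426537423378) (.leaf 125426537423478))) (.node 2 (.node 1 (.leaf 125426537428513) (.leaf 125426537428515)) (.node 1 (.leaf 125426537554451) (.leaf 125426537554484))))))) (.node 28 (.node 14 (.node 7 (.node 3 (.node 1 (.leaf 125427056202802) (.node 1 (.leaf 125427056202804) (.leaf 125427056202806))) (.node 2 (.node 1 (.leaf 125427056202807) (.leaf 125427056202850)) (.node 1 (.leaf 125427056203297) (.leaf 125427056203299)))) (.node 3 (.node 1 (.leaf 125427056203303) (.node 1 (.leaf 125427056460577) (.leaf 125427056460580)))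 (.node 2 (.node 1 (.leaf 125427056460582) (.leaf 125427056460583)) (.node 1 (.leaf 125427056460611) (.leaf 125427056460613))))) (.node 7 (.node 3 (.node 1 (.leaf 125427056460614) (.node 1 (.leaf 125427056460615) (.leaf 125427056460642))) (.node 2 (.node 1 (.leaf 125427056460647) (.leaf 125427056460658)) (.node 1 (.leaf 125427056460662) (.leaf 125427056461426)))) (.node 3 (.node 1 (.leaf 125427056461666) (.node 1 (.leaf 125427056469793) (.leaf 125427056469795))) (.node 2 (.node 1 (.leaf 125427056473635) (.leaf 125427056473639)) (.node 1 (.leaf 125427056599604) (.leaf 125427056599607)))))) (.node 14 (.node 7 (.node 3 (.node 1 (.leaf 125427059536402) (.node 1 (.leaf 125427059536406) (.leaf 125427059536407))) (.node 2 (.node 1 (.leaf 125427059536487) (.leaf 125427059536502)) (.node 1 (.leaf 125568504120097) (.leaf 125568504120100)))) (.node 3 (.node 1 (.leaf 125568504120102) (.node 1 (.leaf 125568504120103)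 (.leaf 125568504120133))) (.node 2 (.node 1 (.leaf 125568504120134) (.leaf 125568504120135)) (.node 1 (.leaf 125568504120162) (.leaf 125568504120178))))) (.node 7 (.node 3 (.node 1 (.leaf 125568504120865) (.node 1 (.leaf 125568504120867) (.leaf 125568504120871))) (.node 2 (.node 1 (.leaf 125568504128018) (.leaf 125568504128019)) (.node 1 (.leaf 125568504128055) (.leaf 125568504176948)))) (.node 3 (.node 1 (.leaf 125568504177479) (.node 1 (.leaf 125568504177522) (.leaf 125568508244498))) (.node 2 (.node 1 (.leaf 125568508244500) (.leaf 125568508244502)) (.node 1 (.leaf 125568508244503) (.leaf 125568508244547)))))))))) (.node 223 (.node 111 (.node 55 (.node 27 (.node 13 (.node 6 (.node 3 (.node 1 (.leaf 125568508244549) (.node 1 (.leaf 125568508244550) (.leaf 125568508244551))) (.node 1 (.leaf 125568508244578) (.node 1 (.leaf 125568508244583) (.leaf 125568508244594)))) (.node 3 (.node 1 (.leaf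 125568508244598) (.node 1 (.leaf 125568508245078) (.leaf 125568508245079))) (.node 2 (.node 1 (.leaf 125568508245090) (.leaf 125568508245095)) (.node 1 (.leaf 125568508245106) (.leaf 125568508245110))))) (.node 7 (.node 3 (.node 1 (.leaf 125568508245537) (.node 1 (.leaf 125568508245539) (.leaf 125568508245543))) (.node 2 (.node 1 (.leaf 125568508245618) (.leaf 125568508258081)) (.node 1 (.leaf 125568508258083) (.leaf 125568508258086)))) (.node 3 (.node 1 (.leaf 125568508261923) (.node 1 (.leaf 125568508261927) (.leaf 125568508391955))) (.node 2 (.node 1 (.leaf 125568508391990) (.leaf 125568508453431)) (.node 1 (.leaf 125568509485364) (.leaf 125568509485894)))))) (.node 14 (.node 7 (.node 3 (.node 1 (.leaf 125568510468931) (.node 1 (.leaf 125568510468935) (.leaf 125568510468978))) (.node 2 (.node 1 (.leaf 125568557457699) (.leaf 125568557457702)) (.node 1 (.leaf 125568557457762) (.leaf 125568557457778))))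 (.node 3 (.node 1 (.leaf 125568557458977) (.node 1 (.leaf 125568557458979) (.leaf 125568557459058))) (.node 2 (.node 1 (.leaf 125568557474322) (.leaf 125568557474323)) (.node 1 (.leaf 125568557474359) (.leaf 125568557474422))))) (.node 7 (.node 3 (.node 1 (.leaf 2006759651824690) (.node 1 (.leaf 2006759651824692) (.leaf 2006759651824694))) (.node 2 (.node 1 (.leaf 2006759651824738) (.leaf 2006759652016929)) (.node 1 (.leaf 2006759652016934) (.leaf 2006759652016935)))) (.node 3 (.node 1 (.leaf 2006759652016994) (.node 1 (.leaf 2006759652017697) (.leaf 2006759652017699))) (.node 2 (.node 1 (.leaf 2006759652017703) (.leaf 2006760171062049)) (.node 1 (.leaf 2006760171062052) (.leaf 2006760171062054))))))) (.node 28 (.node 14 (.node 7 (.node 3 (.node 1 (.leaf 2006760171062055) (.node 1 (.leaf 2006760171062083) (.leaf 2006760171062086))) (.node 2 (.node 1 (.leaf 2006760171062114) (.leaf 2006760171062119))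 (.node 1 (.leaf 2006760171062898) (.leaf 2006760174137874)))) (.node 3 (.node 1 (.leaf 2006760174137878) (.node 1 (.leaf 2006760174137959) (.leaf 2006760174137974))) (.node 2 (.node 1 (.leaf 2006824595301699) (.leaf 2006824595301702)) (.node 1 (.leaf 2006824595301703) (.leaf 2006824595301746))))) (.node 7 (.node 3 (.node 1 (.leaf 2006824595313714) (.node 1 (.leaf 2006824595313718) (.leaf 2006824595313719))) (.node 2 (.node 1 (.leaf 2006824595313762) (.leaf 2006824595313778)) (.node 1 (.leaf 2006824595510322) (.leaf 2006824595510324)))) (.node 3 (.node 1 (.leaf 2006824595510326) (.node 1 (.leaf 2006824595510327) (.leaf 2006824595510370))) (.node 2 (.node 1 (.leaf 2006824595510375) (.leaf 2006824595510390)) (.node 1 (.leaf 2006824595571489) (.leaf 2006824595571492)))))) (.node 14 (.node 7 (.node 3 (.node 1 (.leaf 2006824595571494) (.node 1 (.leaf 2006824595571495) (.leaf 2006824595571525))) (.node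 2 (.node 1 (.leaf 2006824595571526) (.leaf 2006824595571527)) (.node 1 (.leaf 2006824595571554) (.leaf 2006824595571559)))) (.node 3 (.node 1 (.leaf 2006824595571570) (.node 1 (.leaf 2006824595571574) (.leaf 2006824595572257))) (.node 2 (.node 1 (.leaf 2006824595572259) (.leaf 2006824597541938)) (.node 1 (.leaf 2006824597668641) (.leaf 2006824597668644))))) (.node 7 (.node 3 (.node 1 (.leaf 2006824597668646) (.node 1 (.leaf 2006824597668647) (.leaf 2006824597668678))) (.node 2 (.node 1 (.leaf 2006824597668706) (.leaf 2006824597669411)) (.node 1 (.leaf 2006824597676596) (.leaf 2006824598647314)))) (.node 3 (.node 1 (.leaf 2006824598647318) (.node 1 (.leaf 2006824598647319) (.leaf 2006824598647394))) (.node 2 (.node 1 (.leaf 2006824598647399) (.leaf 2006824598647410)) (.node 1 (.leaf 2006824598647414) (.leaf 2006824598648353)))))))) (.node 56 (.node 28 (.node 14 (.node 7 (.node 3 (.node 1 (.leaf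 2006824598648355) (.node 1 (.leaf 2006824598648359) (.leaf 2006824598648609))) (.node 2 (.node 1 (.leaf 2006824598648614) (.leaf 2006824598648674)) (.node 1 (.leaf 2006824598659602) (.leaf 2006824598659603)))) (.node 3 (.node 1 (.leaf 2006824598659636) (.node 1 (.leaf 2006824598659639) (.leaf 2006824598659702))) (.node 2 (.node 1 (.leaf 2006824598664737) (.leaf 2006824598664739)) (.node 1 (.leaf 2006824598856211) (.leaf 2006824600871220))))) (.node 7 (.node 3 (.node 1 (.leaf 2006832899244833) (.node 1 (.leaf 2006832899244836) (.leaf 2006832899244838))) (.node 2 (.node 1 (.leaf 2006832899244839) (.leaf 2006832899244869)) (.node 1 (.leaf 2006832899244870) (.leaf 2006832899244871)))) (.node 3 (.node 1 (.leaf 2006832899244898) (.node 1 (.leaf 2006832899244914) (.leaf 2006832899245601))) (.node 2 (.node 1 (.leaf 2006832899245603) (.leaf 2006832899245607)) (.node 1 (.leaf 2006832899252788) (.leaf 2006832903369234))))))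 (.node 14 (.node 7 (.node 3 (.node 1 (.leaf 2006832903369236) (.node 1 (.leaf 2006832903369238) (.leaf 2006832903369239))) (.node 2 (.node 1 (.leaf 2006832903369283) (.leaf 2006832903369285)) (.node 1 (.leaf 2006832903369286) (.leaf 2006832903369287)))) (.node 3 (.node 1 (.leaf 2006832903369314) (.node 1 (.leaf 2006832903369319) (.leaf 2006832903369330))) (.node 2 (.node 1 (.leaf 2006832903369334) (.leaf 2006832903369778)) (.node 1 (.leaf 2006832903369781) (.leaf 2006832903369782))))) (.node 7 (.node 3 (.node 1 (.leaf 2006832903369783) (.node 1 (.leaf 2006832903369814) (.leaf 2006832903369815))) (.node 2 (.node 1 (.leaf 2006832903369826) (.leaf 2006832903369831)) (.node 1 (.leaf 2006832903369842) (.leaf 2006832903369846)))) (.node 3 (.node 1 (.leaf 2006832903370273) (.node 1 (.leaf 2006832903370279) (.leaf 2006832903370354))) (.node 2 (.node 1 (.leaf 2006832903382817) (.leaf 2006832903382819))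 (.node 1 (.leaf 2006832903382822) (.leaf 2006832903386659))))))) (.node 28 (.node 14 (.node 7 (.node 3 (.node 1 (.leaf 2006832903386663) (.node 1 (.leaf 2006832903578167) (.leaf 2006832905593667))) (.node 2 (.node 1 (.leaf 2006832905593671) (.leaf 2006832952582435)) (.node 1 (.leaf 2006832952582498) (.leaf 2006832952582514)))) (.node 3 (.node 1 (.leaf 2006832952583794) (.node 1 (.leaf 2009096065921554) (.leaf 2009096065921556))) (.node 2 (.node 1 (.leaf 2009096065921558) (.leaf 2009096065921559)) (.node 1 (.leaf 2009096065921603) (.leaf 2009096065921605))))) (.node 7 (.node 3 (.node 1 (.leaf 2009096065921606) (.node 1 (.leaf 2009096065921634) (.leaf 2009096065921639))) (.node 2 (.node 1 (.leaf 2009096065921650) (.leaf 2009096065921654)) (.node 1 (.leaf 2009096065922134) (.leaf 2009096065922135)))) (.node 3 (.node 1 (.leaf 2009096065922146) (.node 1 (.leaf 2009096065922162) (.leaf 2009096065922593)))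 (.node 2 (.node 1 (.leaf 2009096065922595) (.leaf 2009096065922599)) (.node 1 (.leaf 2009096065922849) (.leaf 2009096065922854)))))) (.node 14 (.node 7 (.node 3 (.node 1 (.leaf 2009096065933842) (.node 1 (.leaf 2009096065933843) (.leaf 2009096065933879))) (.node 2 (.node 1 (.leaf 2009096066048882) (.leaf 2009096066839666)) (.node 1 (.leaf 2009096131911969) (.leaf 2009096131911971)))) (.node 3 (.node 1 (.leaf 2009096131911972) (.node 1 (.leaf 2009096131911974) (.leaf 2009096131911975))) (.node 2 (.node 1 (.leaf 2009096131912003) (.leaf 2009096131912005)) (.node 1 (.leaf 2009096131912006) (.leaf 2009096131912007))))) (.node 7 (.node 3 (.node 1 (.leaf 2009096131912050) (.node 1 (.leaf 2009096131912757) (.leaf 2009096131912758))) (.node 2 (.node 1 (.leaf 2009096131912790) (.leaf 2009096131912791)) (.node 1 (.leaf 2009096131912802) (.leaf 2009096131912807)))) (.node 3 (.node 1 (.leaf 2009096131912818)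 (.node 1 (.leaf 2009096131912822) (.leaf 2009096131913249))) (.node 2 (.node 1 (.leaf 2009096131913251) (.leaf 2009096131913255)) (.node 1 (.leaf 2009096131913330) (.leaf 2009096131921250))))))))) (.node 111 (.node 55 (.node 27 (.node 13 (.node 6 (.node 3 (.node 1 (.leaf 2009096131921255) (.node 1 (.leaf 2009096131921266) (.leaf 2009096131921270))) (.node 1 (.leaf 2009096131921441) (.node 1 (.leaf 2009096131921443) (.leaf 2009096131921447)))) (.node 3 (.node 1 (.leaf 2009096131921522) (.node 1 (.leaf 2009096131928594) (.leaf 2009096131928595))) (.node 2 (.node 1 (.leaf 2009096131928599) (.leaf 2009096131928631)) (.node 1 (.leaf 2009096131928690) (.leaf 2009096131928694))))) (.node 7 (.node 3 (.node 1 (.leaf 2009096131929889) (.node 1 (.leaf 2009096131929891) (.leaf 2009096131929894))) (.node 2 (.node 1 (.leaf 2009096132129299) (.leaf 2009096132129334)) (.node 1 (.leaf 2009096132190775) (.leaf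 2009096135254898)))) (.node 3 (.node 1 (.leaf 2009096167502898) (.node 1 (.leaf 2009096167502903) (.leaf 2009096167502962))) (.node 2 (.node 1 (.leaf 2009096919323190) (.leaf 2009096919323234)) (.node 1 (.leaf 2009096919324193) (.leaf 2009096919324195)))))) (.node 14 (.node 7 (.node 3 (.node 1 (.leaf 2009096919324199) (.node 1 (.leaf 2009096919324449) (.leaf 2009096919324451))) (.node 2 (.node 1 (.leaf 2009096919324454) (.leaf 2009096919343634)) (.node 1 (.leaf 2009096919343635) (.leaf 2009096919344929)))) (.node 3 (.node 1 (.leaf 2009096919344931) (.node 1 (.leaf 2009096919344934) (.leaf 2009096919589153))) (.node 2 (.node 1 (.leaf 2009096919589155) (.leaf 2009096919589158)) (.node 1 (.leaf 2009096919589170) (.leaf 2009096919589750))))) (.node 7 (.node 3 (.node 1 (.leaf 2009096919590754) (.node 1 (.leaf 32108154429195044) (.leaf 32108154429195046))) (.node 2 (.node 1 (.leaf 32108154429195078)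 (.leaf 32108154429195106)) (.node 1 (.leaf 32108154429195811) (.leaf 32108154432270870)))) (.node 3 (.node 1 (.leaf 32108154432270946) (.node 1 (.leaf 32108154432270966) (.leaf 32108154432271905))) (.node 2 (.node 1 (.leaf 32108154432271907) (.leaf 32108154432271911)) (.node 1 (.leaf 32108154432283155) (.leaf 32108154432283188))))))) (.node 28 (.node 14 (.node 7 (.node 3 (.node 1 (.leaf 32108154432283191) (.node 1 (.leaf 32108162736992786) (.leaf 32108162736992788))) (.node 2 (.node 1 (.leaf 32108162736992790) (.leaf 32108162736992835)) (.node 1 (.leaf 32108162736992838) (.leaf 32108162736992839)))) (.node 3 (.node 1 (.leaf 32108162736992866) (.node 1 (.leaf 32108162736992871) (.leaf 32108162736992886))) (.node 2 (.node 1 (.leaf 32108162736993330) (.leaf 32108162736993334)) (.node 1 (.leaf 32108162736993378) (.leaf 32108162736993825))))) (.node 7 (.node 3 (.node 1 (.leaf 32108162736993831) (.node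 1 (.leaf 32108162736993906) (.leaf 32108162737006371))) (.node 2 (.node 1 (.leaf 32108162786205985) (.leaf 32108162786205987)) (.node 1 (.leaf 32108162786205990) (.leaf 32108162786206050)))) (.node 3 (.node 1 (.leaf 32108162786207346) (.node 1 (.leaf 32108162786207586) (.leaf 32109193524827186))) (.node 2 (.node 1 (.leaf 32109193524827188) (.leaf 32109193524827190)) (.node 1 (.leaf 32109193524827191) (.leaf 32109193524827250)))))) (.node 14 (.node 7 (.node 3 (.node 1 (.leaf 32109193525019425) (.node 1 (.leaf 32109193525019430) (.leaf 32109193525019490))) (.node 2 (.node 1 (.leaf 32109193525020195) (.leaf 32109193528165153)) (.node 1 (.leaf 32109193528165156) (.leaf 32109193528165158)))) (.node 3 (.node 1 (.leaf 32109193528165159) (.node 1 (.leaf 32109193528165189) (.leaf 32109193528165190))) (.node 2 (.node 1 (.leaf 32109193528165191) (.leaf 32109193528165218)) (.node 1 (.leaf 32109193528165223)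 (.leaf 32109193528165234))))) (.node 7 (.node 3 (.node 1 (.leaf 32109193528165238) (.node 1 (.leaf 32109193528165923) (.leaf 32109193529143826))) (.node 2 (.node 1 (.leaf 32109193529143830) (.leaf 32109193529143831)) (.node 1 (.leaf 32109193529143878) (.leaf 32109193529143906)))) (.node 3 (.node 1 (.leaf 32109193529143926) (.node 1 (.leaf 32109193529144406) (.leaf 32109193529144418))) (.node 2 (.node 1 (.leaf 32109193529144423) (.leaf 32109193529144438)) (.node 1 (.leaf 32109193529144865) (.leaf 32109193529144867)))))))) (.node 56 (.node 28 (.node 14 (.node 7 (.node 3 (.node 1 (.leaf 32109193529144871) (.node 1 (.leaf 32109193529144946) (.leaf 32109193529145126))) (.node 2 (.node 1 (.leaf 32109193529145186) (.leaf 32109193529156115)) (.node 1 (.leaf 32109193529156148) (.leaf 32109193560671009)))) (.node 3 (.node 1 (.leaf 32109193560671014) (.node 1 (.leaf 32109193560671015) (.leaf 32109193562698258)))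 (.node 2 (.node 1 (.leaf 32109193562698260) (.leaf 32109193562698262)) (.node 1 (.leaf 32109193562698263) (.leaf 32109193562698307))))) (.node 7 (.node 3 (.node 1 (.leaf 32109193562698310) (.node 1 (.leaf 32109193562698311) (.leaf 32109193562698338))) (.node 2 (.node 1 (.leaf 32109193562698343) (.leaf 32109193562698358)) (.node 1 (.leaf 32109193562698850) (.leaf 32109193562699297)))) (.node 3 (.node 1 (.leaf 32109193562699299) (.node 1 (.leaf 32109193562699303) (.leaf 32109193562710580))) (.node 2 (.node 1 (.leaf 32109193562825539) (.leaf 32109193578357025)) (.node 1 (.leaf 32109193578357027) (.leaf 32109193578357030)))))) (.node 14 (.node 7 (.node 3 (.node 1 (.leaf 32109193578357090) (.node 1 (.leaf 32109193578358305) (.leaf 32109193578358307))) (.node 2 (.node 1 (.leaf 32109193578358311) (.leaf 32109193578358566)) (.node 1 (.leaf 32109193578358626) (.leaf 32109193578373650)))) (.node 3 (.node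 1 (.leaf 32109193578373651) (.node 1 (.leaf 32109193578373655) (.leaf 32109193578373684))) (.node 2 (.node 1 (.leaf 32109193578373687) (.leaf 32109193578373750)) (.node 1 (.leaf 32109193578377750) (.leaf 32109193578377826))))) (.node 7 (.node 3 (.node 1 (.leaf 32109193578377831) (.node 1 (.leaf 32109193578378785) (.leaf 32109193578378787))) (.node 2 (.node 1 (.leaf 32109193578378791) (.leaf 32109193578553635)) (.node 1 (.leaf 32109193578553650) (.leaf 32109193578553652)))) (.node 3 (.node 1 (.leaf 32109193578554179) (.node 1 (.leaf 32109193578554181) (.leaf 32109193578554183))) (.node 2 (.node 1 (.leaf 32109193578554226) (.leaf 32109193578554230)) (.node 1 (.leaf 32109193578635795) (.leaf 32109326387917330))))))) (.node 28 (.node 14 (.node 7 (.node 3 (.node 1 (.leaf 32109326387917332) (.node 1 (.leaf 32109326387917334) (.leaf 32109326387917335))) (.node 2 (.node 1 (.leaf 32109326387917379) (.leaf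 32109326387917381)) (.node 1 (.leaf 32109326387917382) (.leaf 32109326387917383)))) (.node 3 (.node 1 (.leaf 32109326387917410) (.node 1 (.leaf 32109326387917415) (.leaf 32109326387917426))) (.node 2 (.node 1 (.leaf 32109326387917430) (.leaf 32109326387917910)) (.node 1 (.leaf 32109326387917911) (.leaf 32109326387917922))))) (.node 7 (.node 3 (.node 1 (.leaf 32109326387917938) (.node 1 (.leaf 32109326387918369) (.leaf 32109326387918371))) (.node 2 (.node 1 (.leaf 32109326387918375) (.leaf 32109326387918625)) (.node 1 (.leaf 32109326387918630) (.leaf 32109326387929619)))) (.node 3 (.node 1 (.leaf 32109326387929652) (.node 1 (.leaf 32109326387929655) (.leaf 32109326388044611))) (.node 2 (.node 1 (.leaf 32109326453907745) (.leaf 32109326453907747)) (.node 1 (.leaf 32109326453907750) (.leaf 32109326453907781)))))) (.node 14 (.node 7 (.node 3 (.node 1 (.leaf 32109326453907782) (.node 1 (.leaf 32109326453908530)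 (.leaf 32109326453908533))) (.node 2 (.node 1 (.leaf 32109326453908534) (.leaf 32109326453908566)) (.node 1 (.leaf 32109326453908567) (.leaf 32109326453908578)))) (.node 3 (.node 1 (.leaf 32109326453908594) (.node 1 (.leaf 32109326453908598) (.leaf 32109326453909025))) (.node 2 (.node 1 (.leaf 32109326453909031) (.leaf 32109326453909106)) (.node 1 (.leaf 32109326453916449) (.leaf 32109326453916453))))) (.node 7 (.node 3 (.node 1 (.leaf 32109326453916454) (.node 1 (.leaf 32109326453916500) (.leaf 32109326453916502))) (.node 2 (.node 1 (.leaf 32109326453916503) (.leaf 32109326453916514)) (.node 1 (.leaf 32109326453917026) (.leaf 32109326453917031)))) (.node 3 (.node 1 (.leaf 32109326453917042) (.node 1 (.leaf 32109326453917046) (.leaf 32109326453917217))) (.node 2 (.node 1 (.leaf 32109326453917219) (.leaf 32109326453917223)) (.node 1 (.leaf 32109326453917298) (.leaf 32109326453924370)))))))))))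 (.node 445 (.node 222 (.node 111 (.node 55 (.node 27 (.node 13 (.node 6 (.node 3 (.node 1 (.leaf 32109326453924375) (.node 1 (.leaf 32109326453924466) (.leaf 32109326453924470))) (.node 1 (.leaf 32109326453925665) (.node 1 (.leaf 32109326453925667) (.leaf 32109326453925670)))) (.node 3 (.node 1 (.leaf 32109326454125075) (.node 1 (.leaf 32109326454125108) (.leaf 32109326454125110))) (.node 2 (.node 1 (.leaf 32109326454186551) (.leaf 32109326489498674)) (.node 1 (.leaf 32109327241319969) (.leaf 32109327241319971))))) (.node 7 (.node 3 (.node 1 (.leaf 32109327241319975) (.node 1 (.leaf 32109327241320225) (.leaf 32109327241320230))) (.node 2 (.node 1 (.leaf 32109327241340705) (.leaf 32109327241340707)) (.node 1 (.leaf 32109327241340710) (.leaf 32145537054744865)))) (.node 3 (.node 1 (.leaf 32145537054744868) (.node 1 (.leaf 32145537054744899) (.leaf 32145537054744901))) (.node 2 (.node 1 (.leaf 32145537054744902)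 (.leaf 32145537054745653)) (.node 1 (.leaf 32145537054745654) (.leaf 32145537054745686)))))) (.node 14 (.node 7 (.node 3 (.node 1 (.leaf 32145537054745698) (.node 1 (.leaf 32145537054745703) (.leaf 32145537054746145))) (.node 2 (.node 1 (.leaf 32145537054746147) (.leaf 32145537054746151)) (.node 1 (.leaf 32145537054746406) (.leaf 32145537054746466)))) (.node 3 (.node 1 (.leaf 32145537054754146) (.node 1 (.leaf 32145537054754162) (.leaf 32145537054754337))) (.node 2 (.node 1 (.leaf 32145537054754339) (.leaf 32145537054754343)) (.node 1 (.leaf 32145537054754593) (.leaf 32145537054754598))))) (.node 7 (.node 3 (.node 1 (.leaf 32145537054761490) (.node 1 (.leaf 32145537054761491) (.leaf 32145537054761495))) (.node 2 (.node 1 (.leaf 32145537054761524) (.leaf 32145537054761527)) (.node 1 (.leaf 32145537054761590) (.leaf 32145537054765590)))) (.node 3 (.node 1 (.leaf 32145537054941475) (.node 1 (.leaf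 32145537054942066) (.leaf 32145538110591508))) (.node 2 (.node 1 (.leaf 32145538110591510) (.leaf 32145538110591542)) (.node 1 (.leaf 32145538110591555) (.leaf 32145538110591557))))))) (.node 28 (.node 14 (.node 7 (.node 3 (.node 1 (.leaf 32145538110591558) (.node 1 (.leaf 32145538110591559) (.leaf 32145538110591606))) (.node 2 (.node 1 (.leaf 32145538110592050) (.leaf 32145538110592053)) (.node 1 (.leaf 32145538110592054) (.leaf 32145538110592086)))) (.node 3 (.node 1 (.leaf 32145538110592087) (.node 1 (.leaf 32145538110592114) (.leaf 32145538110592806))) (.node 2 (.node 1 (.leaf 32145538110604118) (.leaf 32145538110604130)) (.node 1 (.leaf 32145538110604135) (.leaf 32145538110604642))))) (.node 7 (.node 3 (.node 1 (.leaf 32145538110604647) (.node 1 (.leaf 32145538110604658) (.leaf 32145538110604662))) (.node 2 (.node 1 (.leaf 32145538110604833) (.leaf 32145538110604835)) (.node 1 (.leaf 32145538110604839)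 (.leaf 32145538110604914)))) (.node 3 (.node 1 (.leaf 32145538110611987) (.node 1 (.leaf 32145538110612023) (.leaf 32145538110612082))) (.node 2 (.node 1 (.leaf 32145538110613281) (.leaf 32145538110613283)) (.node 1 (.leaf 32145538110613286) (.leaf 32145538110740001)))))) (.node 14 (.node 7 (.node 3 (.node 1 (.leaf 32145538110740003) (.node 1 (.leaf 32145538110740007) (.leaf 32145538110740082))) (.node 2 (.node 1 (.leaf 32145538110743058) (.leaf 32145538110743059)) (.node 1 (.leaf 32145538110743063) (.leaf 32145538110743154)))) (.node 3 (.node 1 (.leaf 32145538110744353) (.node 1 (.leaf 32145538110744355) (.leaf 32145538110857522))) (.node 2 (.node 1 (.leaf 32145538110857527) (.leaf 32145538110858102)) (.node 1 (.leaf 32145538110859041) (.leaf 32145538110859043))))) (.node 7 (.node 3 (.node 1 (.leaf 32145538110859046) (.node 1 (.leaf 32145538110878226) (.leaf 32145538110878227))) (.node 2 (.node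 1 (.leaf 32145538110878230) (.leaf 32145538110878260)) (.node 1 (.leaf 32145538110878262) (.leaf 32145538114069346)))) (.node 3 (.node 1 (.leaf 32145538680046374) (.node 1 (.leaf 32145550709171042) (.leaf 32145550709171745))) (.node 2 (.node 1 (.leaf 32145550709171747) (.leaf 32145550709187090)) (.node 1 (.leaf 32145550709187091) (.leaf 32145550709187124)))))))) (.node 55 (.node 27 (.node 13 (.node 6 (.node 3 (.node 1 (.leaf 32145550709191186) (.node 1 (.leaf 32145550709191187) (.leaf 32145550709191190))) (.node 1 (.leaf 32145550709191222) (.node 1 (.leaf 32145550709191271) (.leaf 32145550709498145)))) (.node 3 (.node 1 (.leaf 32145550709498147) (.node 1 (.leaf 32145550709498150) (.leaf 32145550709498151))) (.node 2 (.node 1 (.leaf 32145550709498162) (.leaf 32145550709518867)) (.node 1 (.leaf 32145550709518900) (.leaf 32145550709518902))))) (.node 7 (.node 3 (.node 1 (.leaf 32145550713426451)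 (.node 1 (.leaf 32145550713426482) (.leaf 32145550713426486))) (.node 2 (.node 1 (.leaf 32145550713426721) (.leaf 32145550713426726)) (.node 1 (.leaf 32145550713426727) (.leaf 32145550713436002)))) (.node 3 (.node 1 (.leaf 32145550713452065) (.node 1 (.leaf 32145550713452067) (.leaf 32145550713452071))) (.node 2 (.node 1 (.leaf 513730470867120738) (.leaf 513730470867121250)) (.node 1 (.leaf 513730470867121697) (.leaf 513730470867121699)))))) (.node 14 (.node 7 (.node 3 (.node 1 (.leaf 513730470867121703) (.node 1 (.leaf 513730470867132980) (.leaf 513730470916333922))) (.node 2 (.node 1 (.leaf 513730470916335137) (.leaf 513730470916335139)) (.node 1 (.leaf 513730470916335143) (.leaf 513730470916335458)))) (.node 3 (.node 1 (.leaf 513730470916350482) (.node 1 (.leaf 513730470916350483) (.leaf 513730470916350487))) (.node 2 (.node 1 (.leaf 513730470916350516) (.leaf 513730470916350519)) (.node 1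 (.leaf 513730470916350582) (.leaf 513730470916531013))))) (.node 7 (.node 3 (.node 1 (.leaf 513730470916531015) (.node 1 (.leaf 513730470916531058) (.leaf 513730603791884577))) (.node 2 (.node 1 (.leaf 513730603791884582) (.leaf 513730603791884614)) (.node 1 (.leaf 513730603791884642) (.leaf 513730603791885410)))) (.node 3 (.node 1 (.leaf 513730603791885415) (.node 1 (.leaf 513730603791885430) (.leaf 513730603791885857))) (.node 2 (.node 1 (.leaf 513730603791885863) (.leaf 513730603791885938)) (.node 1 (.leaf 513730603791886178) (.leaf 513730603791893286))))))) (.node 28 (.node 14 (.node 7 (.node 3 (.node 1 (.leaf 513730603791893346) (.node 1 (.leaf 513730603791894049) (.leaf 513730603791894051))) (.node 2 (.node 1 (.leaf 513730603791894055) (.leaf 513730603791901202)) (.node 1 (.leaf 513730603791901207) (.leaf 513730603791901298)))) (.node 3 (.node 1 (.leaf 513730603791901302) (.node 1 (.leaf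 513730603791902497) (.leaf 513730603791902499))) (.node 2 (.node 1 (.leaf 513730603791902502) (.leaf 513730603792101940)) (.node 1 (.leaf 513730604579295763) (.leaf 513730604579295766))))) (.node 7 (.node 3 (.node 1 (.leaf 513730604579295798) (.node 1 (.leaf 513730604579295842) (.leaf 513730604579295847))) (.node 2 (.node 1 (.leaf 513730604579296803) (.leaf 513730604579317537)) (.node 1 (.leaf 513730604579317539) (.leaf 513730604579321377)))) (.node 3 (.node 1 (.leaf 513730604579321379) (.node 1 (.leaf 513730604579321383) (.leaf 513747096397234977))) (.node 2 (.node 1 (.leaf 513747096397234980) (.leaf 513747096397234982)) (.node 1 (.leaf 513747096397235014) (.leaf 513747096397235015)))))) (.node 14 (.node 7 (.node 3 (.node 1 (.leaf 513747096397235042) (.node 1 (.leaf 513747096400310806) (.leaf 513747096450642450))) (.node 2 (.node 1 (.leaf 513747096450642452) (.leaf 513747096450642454)) (.node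 1 (.leaf 513747096450642455) (.leaf 513747096450642499)))) (.node 3 (.node 1 (.leaf 513747096450642502) (.node 1 (.leaf 513747096450642530) (.leaf 513747096450642550))) (.node 2 (.node 1 (.leaf 513747096450643030) (.leaf 513747096450643042)) (.node 1 (.leaf 513747096450643047) (.leaf 513747096450643062))))) (.node 7 (.node 3 (.node 1 (.leaf 513747096450643489) (.node 1 (.leaf 513747096450643491) (.leaf 513747096450643495))) (.node 2 (.node 1 (.leaf 513747096450643570) (.leaf 513747096450643750)) (.node 1 (.leaf 513747096450643810) (.leaf 513747096450654772)))) (.node 3 (.node 1 (.leaf 513747096466301222) (.node 1 (.leaf 513747096466302050) (.leaf 513747096466302497))) (.node 2 (.node 1 (.leaf 513747096466302818) (.leaf 513747096466310498)) (.node 1 (.leaf 513747096466310503) (.leaf 513747096466310689))))))))) (.node 111 (.node 55 (.node 27 (.node 13 (.node 6 (.node 3 (.node 1 (.leaf 513747096466310691)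 (.node 1 (.leaf 513747096466310695) (.leaf 513747096466310770))) (.node 1 (.leaf 513747096466311010) (.node 1 (.leaf 513747096466317842) (.leaf 513747096466317843)))) (.node 3 (.node 1 (.leaf 513747096466317847) (.node 1 (.leaf 513747096466317938) (.leaf 513747096466317942))) (.node 2 (.node 1 (.leaf 513747096466319137) (.leaf 513747096466497842)) (.node 1 (.leaf 513747096466497844) (.leaf 513747096466498373))))) (.node 7 (.node 3 (.node 1 (.leaf 513747096970736150) (.node 1 (.leaf 513747096970736246) (.leaf 513747097003172134))) (.node 2 (.node 1 (.leaf 513747097003172166) (.leaf 513747097003172194)) (.node 1 (.leaf 513747097003172916) (.leaf 513747097003172962)))) (.node 3 (.node 1 (.leaf 513747097003172982) (.node 1 (.leaf 513747097003173409) (.leaf 513747097003173411))) (.node 2 (.node 1 (.leaf 513747097003173415) (.leaf 513747097003173730)) (.node 1 (.leaf 513747097003181601) (.leaf 513747097003181603))))))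 (.node 14 (.node 7 (.node 3 (.node 1 (.leaf 513747097003181607) (.node 1 (.leaf 513747097003188754) (.leaf 513747097003188755))) (.node 2 (.node 1 (.leaf 513747097003188759) (.leaf 513747097003188788)) (.node 1 (.leaf 513747097003188791) (.leaf 513747097003188854)))) (.node 3 (.node 1 (.leaf 513747097003369285) (.node 1 (.leaf 513747097005208628) (.leaf 513747097253712406))) (.node 2 (.node 1 (.leaf 513747097253712436) (.leaf 513747097253712438)) (.node 1 (.leaf 513747097253712482) (.leaf 513747097253713441))))) (.node 7 (.node 3 (.node 1 (.leaf 513747097253713443) (.node 1 (.leaf 513747097253713447) (.leaf 513747097253732883))) (.node 2 (.node 1 (.leaf 513747097253737058) (.leaf 513747097253738017)) (.node 1 (.leaf 513747097253738019) (.leaf 513747097253738023)))) (.node 3 (.node 1 (.leaf 513747097253978401) (.node 1 (.leaf 513747097253978403) (.leaf 513747097253978407))) (.node 2 (.node 1 (.leaf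 513747097253978418) (.leaf 513747097253978420)) (.node 1 (.leaf 513747097253978423) (.leaf 513747097253978482))))))) (.node 28 (.node 14 (.node 7 (.node 3 (.node 1 (.leaf 513747097253978949) (.node 1 (.leaf 513747097253978951) (.leaf 513747097253978994))) (.node 2 (.node 1 (.leaf 513747097253978998) (.leaf 513747097253980002)) (.node 1 (.leaf 513747097254044002) (.leaf 513747097254045217)))) (.node 3 (.node 1 (.leaf 513747097254045219) (.node 1 (.leaf 513747097254045223) (.leaf 513747097254045298))) (.node 2 (.node 1 (.leaf 513747097254060562) (.leaf 513747097254060563)) (.node 1 (.leaf 513747097254060567) (.leaf 513747097254060596))))) (.node 7 (.node 3 (.node 1 (.leaf 513747097254060599) (.node 1 (.leaf 513747097256858162) (.leaf 513747097256858164))) (.node 2 (.node 1 (.leaf 513747097256858401) (.leaf 513747097256858404)) (.node 1 (.leaf 513747097256858406) (.leaf 513747097256858407)))) (.node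 3 (.node 1 (.leaf 513747097256858437) (.node 1 (.leaf 513747097256866869) (.leaf 513747097256866903))) (.node 2 (.node 1 (.leaf 513747097256866930) (.leaf 513747097256866934)) (.node 1 (.leaf 513747097256867617) (.leaf 513747097256867622)))))) (.node 14 (.node 7 (.node 3 (.node 1 (.leaf 513747097256867682) (.node 1 (.leaf 513749222206677315) (.leaf 513749222206677317))) (.node 2 (.node 1 (.leaf 513749222206677318) (.leaf 513749222206677346)) (.node 1 (.leaf 513749222206678070) (.leaf 513749222206678102)))) (.node 3 (.node 1 (.leaf 513749222206678114) (.node 1 (.leaf 513749222206678134) (.leaf 513749222206678561))) (.node 2 (.node 1 (.leaf 513749222206678563) (.leaf 513749222206678567)) (.node 1 (.leaf 513749222206678822) (.leaf 513749222206678882))))) (.node 7 (.node 3 (.node 1 (.leaf 513749222206686562) (.node 1 (.leaf 513749222206686753) (.leaf 513749222206686755))) (.node 2 (.node 1 (.leaf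 513749222206686759) (.leaf 513749222206687009)) (.node 1 (.leaf 513749222206687014) (.leaf 513749222206693906)))) (.node 3 (.node 1 (.leaf 513749222206693907) (.node 1 (.leaf 513749222206693911) (.leaf 513749222206693940))) (.node 2 (.node 1 (.leaf 513749222206693943) (.leaf 513749222206694006)) (.node 1 (.leaf 513749222206698006) (.leaf 513749222206873906)))))))) (.node 56 (.node 28 (.node 14 (.node 7 (.node 3 (.node 1 (.leaf 513749222206873908) (.node 1 (.leaf 513749222206874439) (.leaf 513749222206874482))) (.node 2 (.node 1 (.leaf 513749222208713778) (.leaf 513749222208713780)) (.node 1 (.leaf 513749223262524502) (.leaf 513749223262537058)))) (.node 3 (.node 1 (.leaf 513749223262537074) (.node 1 (.leaf 513749223262537078) (.leaf 513749223262537249))) (.node 2 (.node 1 (.leaf 513749223262545699) (.leaf 513749223262663252)) (.node 1 (.leaf 513749223262664006) (.leaf 513749223262664007)))))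 (.node 7 (.node 3 (.node 1 (.leaf 513749223262672417) (.node 1 (.leaf 513749223262672419) (.leaf 513749223262672423))) (.node 2 (.node 1 (.leaf 513749223262672498) (.leaf 513749223262675475)) (.node 1 (.leaf 513749223262675479) (.leaf 513749223262675511)))) (.node 3 (.node 1 (.leaf 513749223262675570) (.node 1 (.leaf 513749223262675574) (.leaf 513749223262676769))) (.node 2 (.node 1 (.leaf 513749223262676771) (.leaf 513749223262676774)) (.node 1 (.leaf 513749223262791457) (.leaf 513749223262791459)))))) (.node 14 (.node 7 (.node 3 (.node 1 (.leaf 513749223262791462) (.node 1 (.leaf 513749223262810642) (.leaf 513749223262810643))) (.node 2 (.node 1 (.leaf 513749223262810646) (.leaf 513749223262810676)) (.node 1 (.leaf 513749223262810678) (.leaf 513749223266001202)))) (.node 3 (.node 1 (.leaf 513749223266001204) (.node 1 (.leaf 513749223266001734) (.leaf 513749223266001762))) (.node 2 (.node 1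 (.leaf 513749235861119506) (.leaf 513749235861119507)) (.node 1 (.leaf 513749235861119540) (.leaf 513749235861123602))))) (.node 7 (.node 3 (.node 1 (.leaf 513749235861451283) (.node 1 (.leaf 513749235861451318) (.leaf 514328592875917844))) (.node 2 (.node 1 (.leaf 514328592875917891) (.leaf 514328592875917893)) (.node 1 (.leaf 514328592875918389) (.leaf 514328592875918422)))) (.node 3 (.node 1 (.leaf 514328592875930454) (.node 1 (.leaf 514328592875930466) (.leaf 514328592875930978))) (.node 2 (.node 1 (.leaf 514328592875930983) (.leaf 514328592875931169)) (.node 1 (.leaf 514328592875943459) (.leaf 514328592876066337))))))) (.node 28 (.node 14 (.node 7 (.node 3 (.node 1 (.leaf 514328592876066339) (.node 1 (.leaf 514328592876066343) (.leaf 514328592876066593))) (.node 2 (.node 1 (.leaf 514328592876066598) (.leaf 514328592876069394)) (.node 1 (.leaf 514328592876183841) (.leaf 514328592876183843))))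 (.node 3 (.node 1 (.leaf 514328592876183847) (.node 1 (.leaf 514328592876183858) (.leaf 514328592876183863))) (.node 2 (.node 1 (.leaf 514328592876249442) (.leaf 514328592879063604)) (.node 1 (.leaf 514328609769464131) (.leaf 514328609769464133))))) (.node 7 (.node 3 (.node 1 (.leaf 514328609769464134) (.node 1 (.leaf 514328609769464882) (.leaf 514328609769464884))) (.node 2 (.node 1 (.leaf 514328609769464886) (.leaf 514328609769464887)) (.node 1 (.leaf 514328609769464918) (.leaf 514328609769464950)))) (.node 3 (.node 1 (.leaf 514328609769472805) (.node 1 (.leaf 514328609769472854) (.leaf 514328609769473830))) (.node 2 (.node 1 (.leaf 514328609769665890) (.leaf 514328609769665895)) (.node 1 (.leaf 514328609769666083) (.leaf 514328609769666162)))))) (.node 14 (.node 7 (.node 3 (.node 1 (.leaf 514328609769674273) (.node 1 (.leaf 514328609769674275) (.leaf 514328609769674279))) (.node 2 (.node 1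 (.leaf 514328609769674354) (.leaf 514328609769677426)) (.node 1 (.leaf 514328609769678625) (.leaf 514328609769678627)))) (.node 3 (.node 1 (.leaf 514328609769678630) (.node 1 (.leaf 514328609769791794) (.leaf 514328609769793315))) (.node 2 (.node 1 (.leaf 514328609769812498) (.leaf 514328609769812499)) (.node 1 (.leaf 514328609769812532) (.leaf 514328609769812534))))) (.node 7 (.node 3 (.node 1 (.leaf 514328609771840018) (.node 1 (.leaf 514328609771840019) (.leaf 514328609771840023))) (.node 2 (.node 1 (.leaf 514328609771840052) (.leaf 514328609771840114)) (.node 1 (.leaf 514328609771841313) (.leaf 514328609771841315)))) (.node 3 (.node 1 (.leaf 514328609771888931) (.node 1 (.leaf 514328609771909650) (.leaf 514328609771909651))) (.node 2 (.node 1 (.leaf 514328609773720353) (.leaf 514328609773720359)) (.node 1 (.leaf 514328609773720434) (.leaf 514328609773744659)))))))))) (.node 223 (.node 111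 (.node 55 (.node 27 (.node 13 (.node 6 (.node 3 (.node 1 (.leaf 514328609773744692) (.node 1 (.leaf 514328609773744694) (.leaf 514328609774051619))) (.node 1 (.leaf 514328609774051634) (.node 1 (.leaf 514328609774051636) (.leaf 514328609774051638)))) (.node 3 (.node 1 (.leaf 514328609774052166) (.node 1 (.leaf 514328609774052194) (.leaf 514328609825109537))) (.node 2 (.node 1 (.leaf 514328811346747922) (.leaf 514328811346747923)) (.node 1 (.leaf 514328811346993443) (.leaf 514328811346993458))))) (.node 7 (.node 3 (.node 1 (.leaf 514328811346993460) (.node 1 (.leaf 514328811346993989) (.leaf 514328811347058998))) (.node 2 (.node 1 (.leaf 514328811347059554) (.leaf 514328811347059559)) (.node 1 (.leaf 514328811351970323) (.leaf 514328811351970326)))) (.node 3 (.node 1 (.leaf 514328811351970354) (.node 1 (.leaf 514328811351970356) (.leaf 514328811351970358))) (.node 2 (.node 1 (.leaf 514328811351970359)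 (.leaf 514328811351970593)) (.node 1 (.leaf 514328811351970598) (.leaf 514328811351970599)))))) (.node 14 (.node 7 (.node 3 (.node 1 (.leaf 514328811352302434) (.node 1 (.leaf 514328811414823718) (.leaf 514328811414823778))) (.node 2 (.node 1 (.leaf 514328811414827542) (.leaf 514328811414827623)) (.node 1 (.leaf 514328811414827638) (.leaf 514328811415233043)))) (.node 3 (.node 1 (.leaf 514328811415233076) (.node 1 (.leaf 514328811415233079) (.leaf 8219687533873931809))) (.node 2 (.node 1 (.leaf 8219687533873931811) (.leaf 8219687533873931815)) (.node 1 (.leaf 8219687533873940001) (.leaf 8219687533873947154))))) (.node 7 (.node 3 (.node 1 (.leaf 8219687533873947155) (.node 1 (.leaf 8219687533873947159) (.leaf 8219687533873947188))) (.node 2 (.node 1 (.leaf 8219687533873947191) (.leaf 8219687533873947254)) (.node 1 (.leaf 8219687533874127685) (.leaf 8219687534661342753)))) (.node 3 (.node 1 (.leaf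 8219687534661362194) (.node 1 (.leaf 8219687534661362195) (.leaf 8219687534661362228))) (.node 2 (.node 1 (.leaf 8219687534661367329) (.leaf 8219687534661607713)) (.node 1 (.leaf 8219687534661607715) (.leaf 8219687534661607718))))))) (.node 28 (.node 14 (.node 7 (.node 3 (.node 1 (.leaf 8219687534661607719) (.node 1 (.leaf 8219687534661608259) (.leaf 8219687534661608261))) (.node 2 (.node 1 (.leaf 8219687534661608306) (.leaf 8219687534664496215)) (.node 1 (.leaf 8219687534664496242) (.leaf 8219687534664496929)))) (.node 3 (.node 1 (.leaf 8219689660670153238) (.node 1 (.leaf 8219689660670153314) (.leaf 8219689660670153319))) (.node 2 (.node 1 (.leaf 8219689660670154275) (.leaf 8219689660670154279)) (.node 1 (.leaf 8219689660670166561) (.leaf 8219689660670166567))))) (.node 7 (.node 3 (.node 1 (.leaf 8219689660670173714) (.node 1 (.leaf 8219689660670173810) (.leaf 8219689660670292578))) (.node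 2 (.node 1 (.leaf 8219689660670293537) (.leaf 8219689660670304787)) (.node 1 (.leaf 8219689660670304791) (.leaf 8219689660670419233)))) (.node 3 (.node 1 (.leaf 8219689660670419239) (.node 1 (.leaf 8219689660670419314) (.leaf 8219689660670420769))) (.node 2 (.node 1 (.leaf 8219689660670420771) (.leaf 8219689660670439954)) (.node 1 (.leaf 8219689660670439955) (.leaf 8219689660670439988)))))) (.node 14 (.node 7 (.node 3 (.node 1 (.leaf 8219689660670439990) (.node 1 (.leaf 8219689673268732214) (.leaf 8219689673268732770))) (.node 2 (.node 1 (.leaf 8219689673268732775) (.leaf 8219689673268733475)) (.node 1 (.leaf 8219689673268748852) (.leaf 8219689673269080595)))) (.node 3 (.node 1 (.leaf 8219689673269080628) (.node 1 (.leaf 8219689673269142035) (.leaf 8219689673269142068))) (.node 2 (.node 1 (.leaf 8219689673269142071) (.leaf 8219953542355759638)) (.node 1 (.leaf 8219953542355759683) (.leaf 8219953542355759686)))))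 (.node 7 (.node 3 (.node 1 (.leaf 8219953542355760226) (.node 1 (.leaf 8219953543210279206) (.leaf 8219953543210279235))) (.node 2 (.node 1 (.leaf 8219953543210279990) (.leaf 8219953543210280034)) (.node 1 (.leaf 8219953543210280481) (.leaf 8219953543210280802)))) (.node 3 (.node 1 (.leaf 8219953543210288482) (.node 1 (.leaf 8219953543210288487) (.leaf 8219953543210288673))) (.node 2 (.node 1 (.leaf 8219953543210288675) (.leaf 8219953543210288679)) (.node 1 (.leaf 8219953543210288754) (.leaf 8219953543210288994)))))))) (.node 56 (.node 28 (.node 14 (.node 7 (.node 3 (.node 1 (.leaf 8219953543210295826) (.node 1 (.leaf 8219953543210295827) (.leaf 8219953543210295831))) (.node 2 (.node 1 (.leaf 8219953543210295922) (.leaf 8219953543210295926)) (.node 1 (.leaf 8219953543210297121) (.leaf 8219953543210476357)))) (.node 3 (.node 1 (.leaf 8219953543460832803) (.node 1 (.leaf 8219953543460845089) (.leaf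 8219953543460845091))) (.node 2 (.node 1 (.leaf 8219953543460845095) (.leaf 8219953543460967971)) (.node 1 (.leaf 8219953543460968050) (.leaf 8219953543460971126))))) (.node 7 (.node 3 (.node 1 (.leaf 8219953543460972321) (.node 1 (.leaf 8219953543460976163) (.leaf 8219953543461085475))) (.node 2 (.node 1 (.leaf 8219953543461085490) (.leaf 8219953543461087009)) (.node 1 (.leaf 8219953543461087074) (.leaf 8219953543463965473)))) (.node 3 (.node 1 (.leaf 8219953543463965476) (.node 1 (.leaf 8219953543463965478) (.leaf 8219953543463965479))) (.node 2 (.node 1 (.leaf 8219953543463965509) (.leaf 8219953551531778402)) (.node 1 (.leaf 8219953551531779938) (.leaf 8219953552050754146)))))) (.node 14 (.node 7 (.node 3 (.node 1 (.leaf 8219953552050754658) (.node 1 (.leaf 8219953552050755105) (.leaf 8219953552050755107))) (.node 2 (.node 1 (.leaf 8219953552050755111) (.leaf 8219953552050766659)) (.node 1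 (.leaf 8219953552050767399) (.leaf 8219953552050774547)))) (.node 3 (.node 1 (.leaf 8219953552050774580) (.node 1 (.leaf 8219953552050779681) (.leaf 8219953552050779683))) (.node 2 (.node 1 (.leaf 8219953552050905619) (.leaf 8219953552050905623)) (.node 1 (.leaf 8219953552051020067) (.leaf 8219953552051020082))))) (.node 7 (.node 3 (.node 1 (.leaf 8219953552051020084) (.node 1 (.leaf 8219953552051020087) (.leaf 8219953552051020146))) (.node 2 (.node 1 (.leaf 8219953552051020611) (.leaf 8219953552051020613)) (.node 1 (.leaf 8219953552051020615) (.leaf 8219953552051020662)))) (.node 3 (.node 1 (.leaf 8219953552083338053) (.node 1 (.leaf 8219953556059398498) (.leaf 8219953556059399010))) (.node 2 (.node 1 (.leaf 8219953556059399713) (.leaf 8219953556059399715)) (.node 1 (.leaf 8219953556059399719) (.leaf 8219953556059415058))))))) (.node 28 (.node 14 (.node 7 (.node 3 (.node 1 (.leaf 8219953556059415092)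 (.node 1 (.leaf 8219953556059415158) (.leaf 8219953556059726130))) (.node 2 (.node 1 (.leaf 8219953556059792929) (.leaf 8219953556059792931)) (.node 1 (.leaf 8219953556059808274) (.leaf 8219953556059808275)))) (.node 3 (.node 1 (.leaf 8219953556059808308) (.node 1 (.leaf 8219953556059808311) (.leaf 8219953556063654419))) (.node 2 (.node 1 (.leaf 8219953556063654450) (.leaf 8219953556063654455)) (.node 1 (.leaf 8219953556063654514) (.leaf 8219953556063654695))))) (.node 7 (.node 3 (.node 1 (.leaf 8219953556063654770) (.node 1 (.leaf 8219953556063655713) (.leaf 8219953556063663191))) (.node 2 (.node 1 (.leaf 8219953556063663218) (.leaf 8219953556063663905)) (.node 1 (.leaf 8219953556063663910) (.leaf 8219953556064704033)))) (.node 3 (.node 1 (.leaf 8219953556064723474) (.node 1 (.leaf 8219953556064723475) (.leaf 8219953556064723511))) (.node 2 (.node 1 (.leaf 8219953556064968993) (.leaf 8219953556064968995))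 (.node 1 (.leaf 8219953556064968998) (.leaf 8219953556064968999)))))) (.node 14 (.node 7 (.node 3 (.node 1 (.leaf 8219953556064969010) (.node 1 (.leaf 8219953556064969012) (.leaf 8219953556064969015))) (.node 2 (.node 1 (.leaf 8219953556064969543) (.leaf 8219953556109734418)) (.node 1 (.leaf 8219953556109734420) (.leaf 8219953556109734422)))) (.node 3 (.node 1 (.leaf 8219953556109734423) (.node 1 (.leaf 8219953556109734467) (.leaf 8219953556109734469))) (.node 2 (.node 1 (.leaf 8219953556109734470) (.leaf 8219953556109734471)) (.node 1 (.leaf 8219953556109734503) (.leaf 8219953556109734518))))) (.node 7 (.node 3 (.node 1 (.leaf 8219953556109870450) (.node 1 (.leaf 8219953556109870454) (.leaf 8219953556109870881))) (.node 2 (.node 1 (.leaf 8219953556109870883) (.leaf 8219953556109870886)) (.node 1 (.leaf 8219953556109881878) (.leaf 8219953556109881954)))) (.node 3 (.node 1 (.leaf 8219953556109881959)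 (.node 1 (.leaf 8219953556109882913) (.leaf 8219987555306837078))) (.node 2 (.node 1 (.leaf 8219987555306849634) (.leaf 8219987555306849827)) (.node 1 (.leaf 8219987555306850146) (.leaf 8219987555306857012))))))))) (.node 111 (.node 55 (.node 27 (.node 13 (.node 6 (.node 3 (.node 1 (.leaf 8219987555306862115) (.node 1 (.leaf 8219987555306984993) (.leaf 8219987555306984995))) (.node 1 (.leaf 8219987555306984999) (.node 1 (.leaf 8219987555306988051) (.leaf 8219987555306988055)))) (.node 3 (.node 1 (.leaf 8219987555306988084) (.node 1 (.leaf 8219987555306988087) (.leaf 8219987555307102514))) (.node 2 (.node 1 (.leaf 8219987555307102516) (.leaf 8219987555307102519)) (.node 1 (.leaf 8219987555307103043) (.leaf 8219987555307103045))))) (.node 7 (.node 3 (.node 1 (.leaf 8219987555307103047) (.node 1 (.leaf 8219987555309991026) (.leaf 8219987555339420449))) (.node 2 (.node 1 (.leaf 8219987555339420452)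 (.leaf 8219987555339420454)) (.node 1 (.leaf 8219987555339420455) (.leaf 8219987572200592929)))) (.node 3 (.node 1 (.leaf 8219987572202612035) (.node 1 (.leaf 8219987572202758675) (.leaf 8219987572202758679))) (.node 2 (.node 1 (.leaf 8219987572202758770) (.leaf 8219987572202759969)) (.node 1 (.leaf 8219987572202759971) (.leaf 8219987572202808178)))))) (.node 14 (.node 7 (.node 3 (.node 1 (.leaf 8219987572202809123) (.node 1 (.leaf 8219987572202809126) (.leaf 8219987572202828307))) (.node 2 (.node 1 (.leaf 8219987572202828340) (.leaf 8219987572204663315)) (.node 1 (.leaf 8219987572204663348) (.leaf 8219987572204970850)))) (.node 3 (.node 1 (.leaf 8219987572256019239) (.node 1 (.leaf 8219987572256027746) (.leaf 8219987572256028193))) (.node 2 (.node 1 (.leaf 8219987773777912099) (.leaf 8229257486014685507)) (.node 1 (.leaf 8229257486014686260) (.leaf 8229257486014887266))))) (.node 7 (.node 3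 (.node 1 (.leaf 8229257486014895649) (.node 1 (.leaf 8229257486015095348) (.leaf 8229257486017061394))) (.node 2 (.node 1 (.leaf 8229257486017110305) (.leaf 8229257486017110307)) (.node 1 (.leaf 8229257486017110311) (.leaf 8229257486018941735)))) (.node 3 (.node 1 (.leaf 8229257486018941810) (.node 1 (.leaf 8229257756311426098) (.leaf 8229257756311426100))) (.node 2 (.node 1 (.leaf 8229257756311426102) (.leaf 8229257756311438116)) (.node 1 (.leaf 8229257756311438150) (.leaf 8229257756311438198))))))) (.node 28 (.node 14 (.node 7 (.node 3 (.node 1 (.leaf 8229257756314654243) (.node 1 (.leaf 8229257756314654322) (.leaf 8229257756314658593))) (.node 2 (.node 1 (.leaf 8229257756314658595) (.leaf 8229257756314788404)) (.node 1 (.leaf 8229257756314789667) (.leaf 8229257756314838819)))) (.node 3 (.node 1 (.leaf 8229257756314858002) (.node 1 (.leaf 8229257756314858003) (.leaf 8229257756314858038))) (.node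 2 (.node 1 (.leaf 8229257756349440291) (.leaf 8229257756349461010)) (.node 1 (.leaf 8229257756349461011) (.leaf 8229257756350554403))))) (.node 7 (.node 3 (.node 1 (.leaf 8229257756379914548) (.node 1 (.leaf 8229257756379915106) (.leaf 8229257757201752594))) (.node 2 (.node 1 (.leaf 8229260981547966755) (.leaf 8229260981547966770)) (.node 1 (.leaf 8229260981551895090) (.leaf 8229260981551895092)))) (.node 3 (.node 1 (.leaf 8229260981551895332) (.node 1 (.leaf 8229260981551895334) (.leaf 8229260981551895335))) (.node 2 (.node 1 (.leaf 8229260981551895365) (.leaf 8229260981552952865)) (.node 1 (.leaf 8229260981552952871) (.leaf 8229260981631525170)))))) (.node 14 (.node 7 (.node 3 (.node 1 (.leaf 8229260981631525172) (.node 1 (.leaf 8229260981631525174) (.leaf 8229260981631525665))) (.node 2 (.node 1 (.leaf 8229260981631525668) (.leaf 8229260981631525671)) (.node 1 (.leaf 8229260981631525699) (.leaf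 8229260981631525701)))) (.node 3 (.node 1 (.leaf 8229260981631525702) (.node 1 (.leaf 8229260981631525703) (.leaf 8229260981631525730))) (.node 2 (.node 1 (.leaf 8229260981631525746) (.leaf 8229260981631529495)) (.node 1 (.leaf 8229260981631529590) (.leaf 8229260981636838945))))) (.node 7 (.node 3 (.node 1 (.leaf 8229260981636838951) (.node 1 (.leaf 8229260982637240674) (.leaf 8229260982637242210))) (.node 2 (.node 1 (.leaf 8229260982643728692) (.leaf 8229260982643729219)) (.node 1 (.leaf 8229260982643729221) (.leaf 8229260982643729223)))) (.node 3 (.node 1 (.leaf 131515000541982908947) (.node 1 (.leaf 131515000541983154467) (.leaf 131515000541983155013))) (.node 2 (.node 1 (.leaf 131515000554581484050) (.leaf 131515000554581795111)) (.node 1 (.leaf 131515000554581877266) (.leaf 131515000554585723411)))))))) (.node 56 (.node 28 (.node 14 (.node 7 (.node 3 (.node 1 (.leaf 131515000554585723444)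 (.node 1 (.leaf 131515000554585723446) (.leaf 131515000554585732149))) (.node 2 (.node 1 (.leaf 131515000554585732902) (.leaf 131515000554631939875)) (.node 1 (.leaf 131515034570722453027) (.leaf 131515034570722453031)))) (.node 3 (.node 1 (.leaf 131515034570726709027) (.node 1 (.leaf 131515034570726732307) (.leaf 131515034570726732340))) (.node 2 (.node 1 (.leaf 131515034570727039282) (.leaf 131515034570727039284)) (.node 1 (.leaf 131515034570727039811) (.leaf 131515034772299724323))))) (.node 7 (.node 3 (.node 1 (.leaf 131515034772299735604) (.node 1 (.leaf 131515034772299981635) (.leaf 131515034772299981637))) (.node 2 (.node 1 (.leaf 131515034772306273093) (.leaf 131519256677692154934)) (.node 1 (.leaf 131519256677692163619) (.leaf 131519256691364479842)))) (.node 3 (.node 1 (.leaf 131519256691364480547) (.node 1 (.leaf 131519256691364492835) (.leaf 131519256691364492839))) (.node 2 (.node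 1 (.leaf 131519256691364615715) (.leaf 131519256691364618771)) (.node 1 (.leaf 131519256691364618807) (.leaf 131519256691364618866)))))) (.node 14 (.node 7 (.node 3 (.node 1 (.leaf 131519256691364618870) (.node 1 (.leaf 131519256691364620067) (.leaf 131519256691364623907))) (.node 2 (.node 1 (.leaf 131519256691364734753) (.leaf 131519256695377393187)) (.node 1 (.leaf 131519256695423447570) (.leaf 131519256695423447575)))) (.node 3 (.node 1 (.leaf 131519256695423447621) (.node 1 (.leaf 131519256695423447655) (.leaf 131519256695423447670))) (.node 2 (.node 1 (.leaf 131519256824508479011) (.leaf 131519256832812074535)) (.node 1 (.leaf 131519256832812474899) (.leaf 131519256832816321074))))) (.node 7 (.node 3 (.node 1 (.leaf 131519256832816321076) (.node 1 (.leaf 131519256832816329781) (.leaf 131519256832816329815))) (.node 2 (.node 1 (.leaf 131519256896950375975) (.leaf 131519256896950395444)) (.node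 1 (.leaf 131519256896956686900) (.leaf 131519256896956932404)))) (.node 3 (.node 1 (.leaf 131519256897018471207) (.node 1 (.leaf 131519256897018475122) (.leaf 131519256897018476321))) (.node 2 (.node 1 (.leaf 131519256897035264530) (.leaf 131519256897035575602)) (.node 1 (.leaf 131519256897039504166) (.leaf 131519256897039504167))))))) (.node 28 (.node 14 (.node 7 (.node 3 (.node 1 (.leaf 131519256897039504199) (.node 1 (.leaf 131519256897755750723) (.leaf 131519256897755750726))) (.node 2 (.node 1 (.leaf 131519256897755750727) (.leaf 131519256897755750770)) (.node 1 (.leaf 131519256897755751479) (.leaf 131519256897755751511)))) (.node 3 (.node 1 (.leaf 131519256897755751527) (.node 1 (.leaf 131519256897755751542) (.leaf 131519256897758111271))) (.node 2 (.node 1 (.leaf 131519800884909602339) (.leaf 131519800884911759927)) (.node 1 (.leaf 131519800884911808823) (.leaf 131519800884911809347)))))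 (.node 7 (.node 3 (.node 1 (.leaf 131519800884913640228) (.node 1 (.leaf 131519800884913640259) (.leaf 131519800885430727188))) (.node 2 (.node 1 (.leaf 131519800885430727191) (.leaf 131519800885430727286)) (.node 1 (.leaf 131519801155244140326) (.leaf 131519801155244159507)))) (.node 3 (.node 1 (.leaf 131519801155244159540) (.node 1 (.leaf 131519801155244945974) (.leaf 131519804380446593588))) (.node 2 (.node 1 (.leaf 131668119776234968114) (.leaf 131668119776272982307)) (.node 1 (.leaf 131668119776273764883) (.leaf 131668119776273764919)))))) (.node 14 (.node 7 (.node 3 (.node 1 (.leaf 131668124100982817572) (.node 1 (.leaf 131668124100983011170) (.leaf 131668124101034469155))) (.node 2 (.node 1 (.leaf 131668124101034537491) (.leaf 131668124101037728035)) (.node 1 (.leaf 131668124101037728050) (.leaf 131668124101591376163)))) (.node 3 (.node 1 (.leaf 131668124115228041505) (.node 1 (.leaf 131668124115228041507)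 (.leaf 131668124115228041511))) (.node 2 (.node 1 (.leaf 131668175704830325319) (.leaf 131668175706104402755)) (.node 1 (.leaf 131668175706104402757) (.leaf 131668175706104402758))))) (.node 7 (.node 3 (.node 1 (.leaf 131668175706104411186) (.node 1 (.leaf 131668175706104411188) (.leaf 131668175706104411223))) (.node 2 (.node 1 (.leaf 131668175706104411234) (.leaf 131668175706189423127)) (.node 1 (.leaf 2104308106843074478946) (.leaf 2104308107061831677475)))) (.node 3 (.node 1 (.leaf 2104308107061833900914) (.node 1 (.leaf 2104308107061833900918) (.leaf 2104308107061833901859))) (.node 2 (.node 1 (.leaf 2104308110364092011634) (.leaf 2106689916420380238130)) (.node 1 (.leaf 2106689985616603648562) (.leaf 33668929712989342414627))))))))))))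

/-- The permutation of the first element. -/
def tabU : Tab :=
  (.node 891 (.node 445 (.node 222 (.node 111 (.node 55 (.node 27 (.node 13 (.node 6 (.node 3 (.node 1 (.leaf 0) (.node 1 (.leaf 28) (.leaf 90))) (.node 1 (.leaf 5) (.node 1 (.leaf 24) (.leaf 65)))) (.node 3 (.node 1 (.leaf 51) (.node 1 (.leaf 1) (.leaf 230))) (.node 2 (.node 1 (.leaf 34) (.leaf 14)) (.node 1 (.leaf 94) (.leaf 114))))) (.node 7 (.node 3 (.node 1 (.leaf 158) (.node 1 (.leaf 354) (.leaf 137))) (.node 2 (.node 1 (.leaf 2) (.leaf 86)) (.node 1 (.leaf 36) (.leaf 3)))) (.node 3 (.node 1 (.leaf 4) (.node 1 (.leaf 168) (.leaf 6))) (.node 2 (.node 1 (.leaf 57) (.leaf 175)) (.node 1 (.leaf 41) (.leaf 244)))))) (.node 14 (.node 7 (.node 3 (.node 1 (.leaf 209) (.node 1 (.leaf 212) (.leaf 140))) (.node 2 (.node 1 (.leaf 108) (.leaf 171)) (.node 1 (.leaf 66) (.leaf 30)))) (.node 3 (.node 1 (.leaf 59) (.node 1 (.leaf 78) (.leaf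 54))) (.node 2 (.node 1 (.leaf 16) (.leaf 8)) (.node 1 (.leaf 70) (.leaf 126))))) (.node 7 (.node 3 (.node 1 (.leaf 38) (.node 1 (.leaf 151) (.leaf 93))) (.node 2 (.node 1 (.leaf 9) (.leaf 67)) (.node 1 (.leaf 388) (.leaf 128)))) (.node 3 (.node 1 (.leaf 867) (.node 1 (.leaf 329) (.leaf 49))) (.node 2 (.node 1 (.leaf 217) (.leaf 43)) (.node 1 (.leaf 218) (.leaf 262))))))) (.node 28 (.node 14 (.node 7 (.node 3 (.node 1 (.leaf 293) (.node 1 (.leaf 345) (.leaf 52))) (.node 2 (.node 1 (.leaf 124) (.leaf 213)) (.node 1 (.leaf 104) (.leaf 32)))) (.node 3 (.node 1 (.leaf 29) (.node 1 (.leaf 91) (.leaf 26))) (.node 2 (.node 1 (.leaf 113) (.leaf 193)) (.node 1 (.leaf 356) (.leaf 58))))) (.node 7 (.node 3 (.node 1 (.leaf 21) (.node 1 (.leaf 236) (.leaf 253))) (.node 2 (.node 1 (.leaf 513) (.leaf 657)) (.node 1 (.leaf 15) (.leaf 19)))) (.node 3 (.node 1 (.leaf 178) (.node 1 (.leaf 711) (.leaf 258))) (.node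 2 (.node 1 (.leaf 195) (.leaf 134)) (.node 1 (.leaf 317) (.leaf 471)))))) (.node 14 (.node 7 (.node 3 (.node 1 (.leaf 599) (.node 1 (.leaf 793) (.leaf 84))) (.node 2 (.node 1 (.leaf 73) (.leaf 225)) (.node 1 (.leaf 339) (.leaf 260)))) (.node 3 (.node 1 (.leaf 187) (.node 1 (.leaf 511) (.leaf 385))) (.node 2 (.node 1 (.leaf 542) (.leaf 333)) (.node 1 (.leaf 10) (.leaf 164))))) (.node 7 (.node 3 (.node 1 (.leaf 161) (.node 1 (.leaf 288) (.leaf 239))) (.node 2 (.node 1 (.leaf 7) (.leaf 55)) (.node 1 (.leaf 245) (.leaf 322)))) (.node 3 (.node 1 (.leaf 139) (.node 1 (.leaf 48) (.leaf 97))) (.node 2 (.node 1 (.leaf 101) (.leaf 523)) (.node 1 (.leaf 264) (.leaf 39)))))))) (.node 55 (.node 27 (.node 13 (.node 6 (.node 3 (.node 1 (.leaf 330) (.node 1 (.leaf 177) (.leaf 821))) (.node 1 (.leaf 381) (.node 1 (.leaf 750) (.leaf 315)))) (.node 3 (.node 1 (.leaf 152) (.node 1 (.leaf 452) (.leaf 204))) (.node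 2 (.node 1 (.leaf 35) (.leaf 273)) (.node 1 (.leaf 394) (.leaf 488))))) (.node 7 (.node 3 (.node 1 (.leaf 1490) (.node 1 (.leaf 449) (.leaf 208))) (.node 2 (.node 1 (.leaf 201) (.leaf 316)) (.node 1 (.leaf 414) (.leaf 274)))) (.node 3 (.node 1 (.leaf 552) (.node 1 (.leaf 544) (.leaf 948))) (.node 2 (.node 1 (.leaf 349) (.leaf 335)) (.node 1 (.leaf 917) (.leaf 169)))))) (.node 14 (.node 7 (.node 3 (.node 1 (.leaf 163) (.node 1 (.leaf 1300) (.leaf 566))) (.node 2 (.node 1 (.leaf 147) (.leaf 370)) (.node 1 (.leaf 120) (.leaf 18)))) (.node 3 (.node 1 (.leaf 88) (.node 1 (.leaf 358) (.leaf 251))) (.node 2 (.node 1 (.leaf 434) (.leaf 357)) (.node 1 (.leaf 1268) (.leaf 431))))) (.node 7 (.node 3 (.node 1 (.leaf 364) (.node 1 (.leaf 74) (.leaf 415))) (.node 2 (.node 1 (.leaf 196) (.leaf 12)) (.node 1 (.leaf 342) (.leaf 371)))) (.node 3 (.node 1 (.leaf 372) (.node 1 (.leaf 83) (.leaf 959))) (.node 2 (.node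 1 (.leaf 1056) (.leaf 150)) (.node 1 (.leaf 157) (.leaf 17))))))) (.node 28 (.node 14 (.node 7 (.node 3 (.node 1 (.leaf 185) (.node 1 (.leaf 395) (.leaf 393))) (.node 2 (.node 1 (.leaf 156) (.leaf 281)) (.node 1 (.leaf 489) (.leaf 272)))) (.node 3 (.node 1 (.leaf 62) (.node 1 (.leaf 712) (.leaf 1682))) (.node 2 (.node 1 (.leaf 660) (.leaf 199)) (.node 1 (.leaf 237) (.leaf 473))))) (.node 7 (.node 3 (.node 1 (.leaf 275) (.node 1 (.leaf 691) (.leaf 132))) (.node 2 (.node 1 (.leaf 795) (.leaf 961)) (.node 1 (.leaf 579) (.leaf 340)))) (.node 3 (.node 1 (.leaf 252) (.node 1 (.leaf 197) (.leaf 796))) (.node 2 (.node 1 (.leaf 1208) (.leaf 858)) (.node 1 (.leaf 955) (.leaf 1220)))))) (.node 14 (.node 7 (.node 3 (.node 1 (.leaf 205) (.node 1 (.leaf 1340) (.leaf 612))) (.node 2 (.node 1 (.leaf 409) (.leaf 412)) (.node 1 (.leaf 309) (.leaf 644)))) (.node 3 (.node 1 (.leaf 231) (.node 1 (.leaf 396) (.leaf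 46))) (.node 2 (.node 1 (.leaf 800) (.leaf 455)) (.node 1 (.leaf 916) (.leaf 773))))) (.node 7 (.node 3 (.node 1 (.leaf 1202) (.node 1 (.leaf 496) (.leaf 254))) (.node 2 (.node 1 (.leaf 631) (.leaf 1576)) (.node 1 (.leaf 250) (.leaf 11)))) (.node 3 (.node 1 (.leaf 105) (.node 1 (.leaf 1095) (.leaf 1572))) (.node 2 (.node 1 (.leaf 229) (.leaf 221)) (.node 1 (.leaf 630) (.leaf 183))))))))) (.node 111 (.node 55 (.node 27 (.node 13 (.node 6 (.node 3 (.node 1 (.leaf 384) (.node 1 (.leaf 352) (.leaf 499))) (.node 1 (.leaf 136) (.node 1 (.leaf 525) (.leaf 45)))) (.node 3 (.node 1 (.leaf 240) (.node 1 (.leaf 910) (.leaf 640))) (.node 2 (.node 1 (.leaf 524) (.leaf 569)) (.node 1 (.leaf 121) (.leaf 311))))) (.node 7 (.node 3 (.node 1 (.leaf 1236) (.node 1 (.leaf 616) (.leaf 154))) (.node 2 (.node 1 (.leaf 119) (.leaf 278)) (.node 1 (.leaf 307) (.leaf 85)))) (.node 3 (.node 1 (.leaf 786) (.node 1 (.leaf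 118) (.leaf 1230))) (.node 2 (.node 1 (.leaf 547) (.leaf 366)) (.node 1 (.leaf 1367) (.leaf 299)))))) (.node 14 (.node 7 (.node 3 (.node 1 (.leaf 734) (.node 1 (.leaf 1499) (.leaf 1388))) (.node 2 (.node 1 (.leaf 31) (.leaf 287)) (.node 1 (.leaf 582) (.leaf 437)))) (.node 3 (.node 1 (.leaf 334) (.node 1 (.leaf 68) (.leaf 383))) (.node 2 (.node 1 (.leaf 242) (.leaf 386)) (.node 1 (.leaf 142) (.leaf 1132))))) (.node 7 (.node 3 (.node 1 (.leaf 1231) (.node 1 (.leaf 103) (.leaf 351))) (.node 2 (.node 1 (.leaf 238) (.leaf 346)) (.node 1 (.leaf 943) (.leaf 700)))) (.node 3 (.node 1 (.leaf 1228) (.node 1 (.leaf 1303) (.leaf 282))) (.node 2 (.node 1 (.leaf 990) (.leaf 318)) (.node 1 (.leaf 410) (.leaf 226))))))) (.node 28 (.node 14 (.node 7 (.node 3 (.node 1 (.leaf 438) (.node 1 (.leaf 115) (.leaf 690))) (.node 2 (.node 1 (.leaf 71) (.leaf 1144)) (.node 1 (.leaf 303) (.leaf 1085)))) (.node 3 (.node 1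 (.leaf 845) (.node 1 (.leaf 243) (.leaf 670))) (.node 2 (.node 1 (.leaf 1062) (.leaf 505)) (.node 1 (.leaf 379) (.leaf 308))))) (.node 7 (.node 3 (.node 1 (.leaf 144) (.node 1 (.leaf 110) (.leaf 435))) (.node 2 (.node 1 (.leaf 79) (.leaf 27)) (.node 1 (.leaf 1269) (.leaf 1100)))) (.node 3 (.node 1 (.leaf 931) (.node 1 (.leaf 1071) (.leaf 1218))) (.node 2 (.node 1 (.leaf 407) (.leaf 376)) (.node 1 (.leaf 465) (.leaf 82)))))) (.node 14 (.node 7 (.node 3 (.node 1 (.leaf 857) (.node 1 (.leaf 1125) (.leaf 1254))) (.node 2 (.node 1 (.leaf 868) (.leaf 610)) (.node 1 (.leaf 462) (.leaf 439)))) (.node 3 (.node 1 (.leaf 355) (.node 1 (.leaf 581) (.leaf 172))) (.node 2 (.node 1 (.leaf 614) (.leaf 615)) (.node 1 (.leaf 469) (.leaf 290))))) (.node 7 (.node 3 (.node 1 (.leaf 1126) (.node 1 (.leaf 545) (.leaf 669))) (.node 2 (.node 1 (.leaf 1729) (.leaf 47)) (.node 1 (.leaf 1344) (.leaf 80)))) (.node 3 (.node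 1 (.leaf 656) (.node 1 (.leaf 1299) (.leaf 846))) (.node 2 (.node 1 (.leaf 1570) (.leaf 382)) (.node 1 (.leaf 485) (.leaf 855)))))))) (.node 56 (.node 28 (.node 14 (.node 7 (.node 3 (.node 1 (.leaf 941) (.node 1 (.leaf 20) (.leaf 162))) (.node 2 (.node 1 (.leaf 923) (.leaf 1276)) (.node 1 (.leaf 1453) (.leaf 1527)))) (.node 3 (.node 1 (.leaf 344) (.node 1 (.leaf 92) (.leaf 1538))) (.node 2 (.node 1 (.leaf 1094) (.leaf 728)) (.node 1 (.leaf 565) (.leaf 518))))) (.node 7 (.node 3 (.node 1 (.leaf 127) (.node 1 (.leaf 338) (.leaf 903))) (.node 2 (.node 1 (.leaf 1283) (.leaf 77)) (.node 1 (.leaf 365) (.leaf 879)))) (.node 3 (.node 1 (.leaf 860) (.node 1 (.leaf 233) (.leaf 387))) (.node 2 (.node 1 (.leaf 184) (.leaf 464)) (.node 1 (.leaf 1400) (.leaf 1302)))))) (.node 14 (.node 7 (.node 3 (.node 1 (.leaf 1190) (.node 1 (.leaf 347) (.leaf 1606))) (.node 2 (.node 1 (.leaf 1266) (.leaf 1616)) (.node 1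 (.leaf 133) (.leaf 504)))) (.node 3 (.node 1 (.leaf 1151) (.node 1 (.leaf 1434) (.leaf 402))) (.node 2 (.node 1 (.leaf 1413) (.leaf 537)) (.node 1 (.leaf 98) (.leaf 1387))))) (.node 7 (.node 3 (.node 1 (.leaf 1235) (.node 1 (.leaf 1182) (.leaf 746))) (.node 2 (.node 1 (.leaf 1382) (.leaf 730)) (.node 1 (.leaf 1496) (.leaf 1049)))) (.node 3 (.node 1 (.leaf 1389) (.node 1 (.leaf 292) (.leaf 494))) (.node 2 (.node 1 (.leaf 109) (.leaf 561)) (.node 1 (.leaf 22) (.leaf 568))))))) (.node 28 (.node 14 (.node 7 (.node 3 (.node 1 (.leaf 1433) (.node 1 (.leaf 1270) (.leaf 369))) (.node 2 (.node 1 (.leaf 885) (.leaf 1410)) (.node 1 (.leaf 517) (.leaf 363)))) (.node 3 (.node 1 (.leaf 512) (.node 1 (.leaf 33) (.leaf 715))) (.node 2 (.node 1 (.leaf 1317) (.leaf 639)) (.node 1 (.leaf 1019) (.leaf 549))))) (.node 7 (.node 3 (.node 1 (.leaf 1000) (.node 1 (.leaf 420) (.leaf 459))) (.node 2 (.node 1 (.leaf 611)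 (.leaf 117)) (.node 1 (.leaf 1225) (.leaf 1257)))) (.node 3 (.node 1 (.leaf 658) (.node 1 (.leaf 350) (.leaf 294))) (.node 2 (.node 1 (.leaf 176) (.leaf 474)) (.node 1 (.leaf 995) (.leaf 470)))))) (.node 14 (.node 7 (.node 3 (.node 1 (.leaf 1127) (.node 1 (.leaf 798) (.leaf 884))) (.node 2 (.node 1 (.leaf 72) (.leaf 1014)) (.node 1 (.leaf 107) (.leaf 1329)))) (.node 3 (.node 1 (.leaf 302) (.node 1 (.leaf 248) (.leaf 1204))) (.node 2 (.node 1 (.leaf 606) (.leaf 594)) (.node 1 (.leaf 556) (.leaf 304))))) (.node 7 (.node 3 (.node 1 (.leaf 1275) (.node 1 (.leaf 1395) (.leaf 666))) (.node 2 (.node 1 (.leaf 224) (.leaf 170)) (.node 1 (.leaf 125) (.leaf 259)))) (.node 3 (.node 1 (.leaf 689) (.node 1 (.leaf 313) (.leaf 1554))) (.node 2 (.node 1 (.leaf 572) (.leaf 368)) (.node 1 (.leaf 962) (.leaf 1297)))))))))) (.node 223 (.node 111 (.node 55 (.node 27 (.node 13 (.node 6 (.node 3 (.node 1 (.leaf 1598)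 (.node 1 (.leaf 837) (.leaf 592))) (.node 1 (.leaf 493) (.node 1 (.leaf 130) (.leaf 324)))) (.node 3 (.node 1 (.leaf 1595) (.node 1 (.leaf 1564) (.leaf 603))) (.node 2 (.node 1 (.leaf 944) (.leaf 607)) (.node 1 (.leaf 854) (.leaf 578))))) (.node 7 (.node 3 (.node 1 (.leaf 50) (.node 1 (.leaf 247) (.leaf 1544))) (.node 2 (.node 1 (.leaf 1451) (.leaf 1328)) (.node 1 (.leaf 1260) (.leaf 701)))) (.node 3 (.node 1 (.leaf 600) (.node 1 (.leaf 1319) (.leaf 263))) (.node 2 (.node 1 (.leaf 416) (.leaf 433)) (.node 1 (.leaf 687) (.leaf 467)))))) (.node 14 (.node 7 (.node 3 (.node 1 (.leaf 436) (.node 1 (.leaf 413) (.leaf 411))) (.node 2 (.node 1 (.leaf 1133) (.leaf 1161)) (.node 1 (.leaf 1154) (.leaf 1004)))) (.node 3 (.node 1 (.leaf 667) (.node 1 (.leaf 1647) (.leaf 1256))) (.node 2 (.node 1 (.leaf 620) (.leaf 13)) (.node 1 (.leaf 952) (.leaf 546))))) (.node 7 (.node 3 (.node 1 (.leaf 509) (.node 1 (.leaf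 1089) (.leaf 1224))) (.node 2 (.node 1 (.leaf 645) (.leaf 135)) (.node 1 (.leaf 1414) (.leaf 89)))) (.node 3 (.node 1 (.leaf 1186) (.node 1 (.leaf 1067) (.leaf 878))) (.node 2 (.node 1 (.leaf 1558) (.leaf 23)) (.node 1 (.leaf 285) (.leaf 1769))))))) (.node 28 (.node 14 (.node 7 (.node 3 (.node 1 (.leaf 1229) (.node 1 (.leaf 1322) (.leaf 985))) (.node 2 (.node 1 (.leaf 326) (.leaf 1042)) (.node 1 (.leaf 1670) (.leaf 911)))) (.node 3 (.node 1 (.leaf 882) (.node 1 (.leaf 1332) (.leaf 802))) (.node 2 (.node 1 (.leaf 502) (.leaf 1264)) (.node 1 (.leaf 1005) (.leaf 194))))) (.node 7 (.node 3 (.node 1 (.leaf 1006) (.node 1 (.leaf 829) (.leaf 668))) (.node 2 (.node 1 (.leaf 1407) (.leaf 1111)) (.node 1 (.leaf 1398) (.leaf 1688)))) (.node 3 (.node 1 (.leaf 1054) (.node 1 (.leaf 228) (.leaf 1419))) (.node 2 (.node 1 (.leaf 1339) (.leaf 1459)) (.node 1 (.leaf 63) (.leaf 378)))))) (.node 14 (.node 7 (.node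 3 (.node 1 (.leaf 1673) (.node 1 (.leaf 1294) (.leaf 1353))) (.node 2 (.node 1 (.leaf 1035) (.leaf 450)) (.node 1 (.leaf 1028) (.leaf 897)))) (.node 3 (.node 1 (.leaf 451) (.node 1 (.leaf 1237) (.leaf 1285))) (.node 2 (.node 1 (.leaf 856) (.leaf 1081)) (.node 1 (.leaf 148) (.leaf 427))))) (.node 7 (.node 3 (.node 1 (.leaf 1506) (.node 1 (.leaf 876) (.leaf 818))) (.node 2 (.node 1 (.leaf 1534) (.leaf 1406)) (.node 1 (.leaf 1646) (.leaf 977)))) (.node 3 (.node 1 (.leaf 1076) (.node 1 (.leaf 956) (.leaf 1618))) (.node 2 (.node 1 (.leaf 1717) (.leaf 374)) (.node 1 (.leaf 95) (.leaf 153)))))))) (.node 56 (.node 28 (.node 14 (.node 7 (.node 3 (.node 1 (.leaf 1629) (.node 1 (.leaf 1671) (.leaf 75))) (.node 2 (.node 1 (.leaf 189) (.leaf 964)) (.node 1 (.leaf 1206) (.leaf 216)))) (.node 3 (.node 1 (.leaf 1565) (.node 1 (.leaf 337) (.leaf 1603))) (.node 2 (.node 1 (.leaf 1025) (.leaf 1191)) (.node 1 (.leaf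 40) (.leaf 289))))) (.node 7 (.node 3 (.node 1 (.leaf 141) (.node 1 (.leaf 914) (.leaf 454))) (.node 2 (.node 1 (.leaf 306) (.leaf 1430)) (.node 1 (.leaf 484) (.leaf 305)))) (.node 3 (.node 1 (.leaf 816) (.node 1 (.leaf 456) (.leaf 1555))) (.node 2 (.node 1 (.leaf 1502) (.leaf 966)) (.node 1 (.leaf 1177) (.leaf 1272)))))) (.node 14 (.node 7 (.node 3 (.node 1 (.leaf 1082) (.node 1 (.leaf 541) (.leaf 1232))) (.node 2 (.node 1 (.leaf 732) (.leaf 819)) (.node 1 (.leaf 1628) (.leaf 81)))) (.node 3 (.node 1 (.leaf 560) (.node 1 (.leaf 180) (.leaf 421))) (.node 2 (.node 1 (.leaf 1321) (.leaf 300)) (.node 1 (.leaf 806) (.leaf 1553))))) (.node 7 (.node 3 (.node 1 (.leaf 906) (.node 1 (.leaf 1349) (.leaf 323))) (.node 2 (.node 1 (.leaf 1399) (.leaf 1615)) (.node 1 (.leaf 763) (.leaf 702)))) (.node 3 (.node 1 (.leaf 56) (.node 1 (.leaf 1734) (.leaf 1698))) (.node 2 (.node 1 (.leaf 1352) (.leaf 899)) (.node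 1 (.leaf 907) (.leaf 453))))))) (.node 28 (.node 14 (.node 7 (.node 3 (.node 1 (.leaf 1592) (.node 1 (.leaf 314) (.leaf 472))) (.node 2 (.node 1 (.leaf 613) (.leaf 797)) (.node 1 (.leaf 1503) (.leaf 1073)))) (.node 3 (.node 1 (.leaf 895) (.node 1 (.leaf 811) (.leaf 399))) (.node 2 (.node 1 (.leaf 1227) (.leaf 648)) (.node 1 (.leaf 1295) (.leaf 1624))))) (.node 7 (.node 3 (.node 1 (.leaf 1221) (.node 1 (.leaf 1183) (.leaf 1470))) (.node 2 (.node 1 (.leaf 748) (.leaf 678)) (.node 1 (.leaf 888) (.leaf 871)))) (.node 3 (.node 1 (.leaf 1604) (.node 1 (.leaf 776) (.leaf 167))) (.node 2 (.node 1 (.leaf 778) (.leaf 1712)) (.node 1 (.leaf 155) (.leaf 749)))))) (.node 14 (.node 7 (.node 3 (.node 1 (.leaf 1727) (.node 1 (.leaf 426) (.leaf 654))) (.node 2 (.node 1 (.leaf 466) (.leaf 468)) (.node 1 (.leaf 476) (.leaf 1080)))) (.node 3 (.node 1 (.leaf 1750) (.node 1 (.leaf 659) (.leaf 332))) (.node 2 (.node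 1 (.leaf 391) (.leaf 840)) (.node 1 (.leaf 892) (.leaf 408))))) (.node 7 (.node 3 (.node 1 (.leaf 661) (.node 1 (.leaf 1612) (.leaf 605))) (.node 2 (.node 1 (.leaf 767) (.leaf 781)) (.node 1 (.leaf 865) (.leaf 896)))) (.node 3 (.node 1 (.leaf 406) (.node 1 (.leaf 1617) (.leaf 206))) (.node 2 (.node 1 (.leaf 331) (.leaf 1607)) (.node 1 (.leaf 1639) (.leaf 1296))))))))) (.node 111 (.node 55 (.node 27 (.node 13 (.node 6 (.node 3 (.node 1 (.leaf 889) (.node 1 (.leaf 1215) (.leaf 849))) (.node 1 (.leaf 842) (.node 1 (.leaf 1479) (.leaf 850)))) (.node 3 (.node 1 (.leaf 1622) (.node 1 (.leaf 1539) (.leaf 25))) (.node 2 (.node 1 (.leaf 1744) (.leaf 1495)) (.node 1 (.leaf 937) (.leaf 380))))) (.node 7 (.node 3 (.node 1 (.leaf 200) (.node 1 (.leaf 1701) (.leaf 463))) (.node 2 (.node 1 (.leaf 632) (.leaf 900)) (.node 1 (.leaf 898) (.leaf 608)))) (.node 3 (.node 1 (.leaf 312) (.node 1 (.leaf 310) (.leaf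 901))) (.node 2 (.node 1 (.leaf 1687) (.leaf 1417)) (.node 1 (.leaf 1323) (.leaf 1722)))))) (.node 14 (.node 7 (.node 3 (.node 1 (.leaf 674) (.node 1 (.leaf 1098) (.leaf 1265))) (.node 2 (.node 1 (.leaf 1290) (.leaf 1380)) (.node 1 (.leaf 445) (.leaf 1446)))) (.node 3 (.node 1 (.leaf 1594) (.node 1 (.leaf 198) (.leaf 1128))) (.node 2 (.node 1 (.leaf 866) (.leaf 804)) (.node 1 (.leaf 1047) (.leaf 1350))))) (.node 7 (.node 3 (.node 1 (.leaf 422) (.node 1 (.leaf 442) (.leaf 1485))) (.node 2 (.node 1 (.leaf 1041) (.leaf 826)) (.node 1 (.leaf 596) (.leaf 1665)))) (.node 3 (.node 1 (.leaf 968) (.node 1 (.leaf 1393) (.leaf 210))) (.node 2 (.node 1 (.leaf 1468) (.leaf 327)) (.node 1 (.leaf 367) (.leaf 1281))))))) (.node 28 (.node 14 (.node 7 (.node 3 (.node 1 (.leaf 1068) (.node 1 (.leaf 726) (.leaf 559))) (.node 2 (.node 1 (.leaf 588) (.leaf 424)) (.node 1 (.leaf 1346) (.leaf 418)))) (.node 3 (.node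 1 (.leaf 377) (.node 1 (.leaf 1661) (.leaf 1286))) (.node 2 (.node 1 (.leaf 652) (.leaf 1141)) (.node 1 (.leaf 1634) (.leaf 42))))) (.node 7 (.node 3 (.node 1 (.leaf 1516) (.node 1 (.leaf 934) (.leaf 1189))) (.node 2 (.node 1 (.leaf 1368) (.leaf 951)) (.node 1 (.leaf 1018) (.leaf 1242)))) (.node 3 (.node 1 (.leaf 1681) (.node 1 (.leaf 621) (.leaf 1070))) (.node 2 (.node 1 (.leaf 1436) (.leaf 1147)) (.node 1 (.leaf 883) (.leaf 1441)))))) (.node 14 (.node 7 (.node 3 (.node 1 (.leaf 222) (.node 1 (.leaf 1149) (.leaf 1707))) (.node 2 (.node 1 (.leaf 501) (.leaf 102)) (.node 1 (.leaf 751) (.leaf 1676)))) (.node 3 (.node 1 (.leaf 942) (.node 1 (.leaf 1597) (.leaf 1609))) (.node 2 (.node 1 (.leaf 534) (.leaf 1379)) (.node 1 (.leaf 1259) (.leaf 662))))) (.node 7 (.node 3 (.node 1 (.leaf 880) (.node 1 (.leaf 580) (.leaf 507))) (.node 2 (.node 1 (.leaf 1168) (.leaf 1273)) (.node 1 (.leaf 720) (.leaf 831))))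 (.node 3 (.node 1 (.leaf 214) (.node 1 (.leaf 1157) (.leaf 1184))) (.node 2 (.node 1 (.leaf 1584) (.leaf 1282)) (.node 1 (.leaf 106) (.leaf 719)))))))) (.node 56 (.node 28 (.node 14 (.node 7 (.node 3 (.node 1 (.leaf 976) (.node 1 (.leaf 696) (.leaf 1102))) (.node 2 (.node 1 (.leaf 1702) (.leaf 530)) (.node 1 (.leaf 665) (.leaf 111)))) (.node 3 (.node 1 (.leaf 296) (.node 1 (.leaf 480) (.leaf 675))) (.node 2 (.node 1 (.leaf 491) (.leaf 1426)) (.node 1 (.leaf 1017) (.leaf 626))))) (.node 7 (.node 3 (.node 1 (.leaf 1118) (.node 1 (.leaf 320) (.leaf 1309))) (.node 2 (.node 1 (.leaf 1507) (.leaf 143)) (.node 1 (.leaf 1347) (.leaf 232)))) (.node 3 (.node 1 (.leaf 1577) (.node 1 (.leaf 1705) (.leaf 822))) (.node 2 (.node 1 (.leaf 1546) (.leaf 628)) (.node 1 (.leaf 919) (.leaf 1508)))))) (.node 14 (.node 7 (.node 3 (.node 1 (.leaf 1563) (.node 1 (.leaf 1110) (.leaf 1240))) (.node 2 (.node 1 (.leaf 1409)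 (.leaf 799)) (.node 1 (.leaf 1561) (.leaf 737)))) (.node 3 (.node 1 (.leaf 37) (.node 1 (.leaf 1633) (.leaf 801))) (.node 2 (.node 1 (.leaf 1545) (.leaf 257)) (.node 1 (.leaf 1223) (.leaf 1649))))) (.node 7 (.node 3 (.node 1 (.leaf 1601) (.node 1 (.leaf 122) (.leaf 673))) (.node 2 (.node 1 (.leaf 1477) (.leaf 739)) (.node 1 (.leaf 756) (.leaf 945)))) (.node 3 (.node 1 (.leaf 1547) (.node 1 (.leaf 1212) (.leaf 1188))) (.node 2 (.node 1 (.leaf 519) (.leaf 759)) (.node 1 (.leaf 328) (.leaf 717))))))) (.node 28 (.node 14 (.node 7 (.node 3 (.node 1 (.leaf 757) (.node 1 (.leaf 1575) (.leaf 946))) (.node 2 (.node 1 (.leaf 949) (.leaf 622)) (.node 1 (.leaf 1077) (.leaf 1046)))) (.node 3 (.node 1 (.leaf 1476) (.node 1 (.leaf 1456) (.leaf 1083))) (.node 2 (.node 1 (.leaf 557) (.leaf 375)) (.node 1 (.leaf 457) (.leaf 1703))))) (.node 7 (.node 3 (.node 1 (.leaf 1002) (.node 1 (.leaf 219) (.leaf 998))) (.node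 2 (.node 1 (.leaf 1487) (.leaf 234)) (.node 1 (.leaf 1084) (.leaf 574)))) (.node 3 (.node 1 (.leaf 636) (.node 1 (.leaf 954) (.leaf 487))) (.node 2 (.node 1 (.leaf 508) (.leaf 1301)) (.node 1 (.leaf 448) (.leaf 1432)))))) (.node 14 (.node 7 (.node 3 (.node 1 (.leaf 492) (.node 1 (.leaf 446) (.leaf 1051))) (.node 2 (.node 1 (.leaf 1510) (.leaf 1335)) (.node 1 (.leaf 116) (.leaf 1369)))) (.node 3 (.node 1 (.leaf 1305) (.node 1 (.leaf 1258) (.leaf 220))) (.node 2 (.node 1 (.leaf 1505) (.leaf 1626)) (.node 1 (.leaf 297) (.leaf 191))))) (.node 7 (.node 3 (.node 1 (.leaf 554) (.node 1 (.leaf 1613) (.leaf 1392))) (.node 2 (.node 1 (.leaf 698) (.leaf 1105)) (.node 1 (.leaf 1518) (.leaf 1452)))) (.node 3 (.node 1 (.leaf 1097) (.node 1 (.leaf 1013) (.leaf 1090))) (.node 2 (.node 1 (.leaf 497) (.leaf 564)) (.node 1 (.leaf 1331) (.leaf 1636))))))))))) (.node 445 (.node 222 (.node 111 (.node 55 (.node 27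 (.node 13 (.node 6 (.node 3 (.node 1 (.leaf 1711) (.node 1 (.leaf 978) (.leaf 563))) (.node 1 (.leaf 277) (.node 1 (.leaf 1625) (.leaf 684)))) (.node 3 (.node 1 (.leaf 847) (.node 1 (.leaf 1444) (.leaf 686))) (.node 2 (.node 1 (.leaf 609) (.leaf 643)) (.node 1 (.leaf 1439) (.leaf 1666))))) (.node 7 (.node 3 (.node 1 (.leaf 461) (.node 1 (.leaf 765) (.leaf 1307))) (.node 2 (.node 1 (.leaf 1104) (.leaf 1261)) (.node 1 (.leaf 276) (.leaf 708)))) (.node 3 (.node 1 (.leaf 1608) (.node 1 (.leaf 270) (.leaf 589))) (.node 2 (.node 1 (.leaf 1252) (.leaf 1611)) (.node 1 (.leaf 397) (.leaf 1109)))))) (.node 14 (.node 7 (.node 3 (.node 1 (.leaf 873) (.node 1 (.leaf 893) (.leaf 713))) (.node 2 (.node 1 (.leaf 1136) (.leaf 721)) (.node 1 (.leaf 1021) (.leaf 1289)))) (.node 3 (.node 1 (.leaf 1751) (.node 1 (.leaf 536) (.leaf 591))) (.node 2 (.node 1 (.leaf 1620) (.leaf 844)) (.node 1 (.leaf 593) (.leaf 1623)))))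 (.node 7 (.node 3 (.node 1 (.leaf 1152) (.node 1 (.leaf 44) (.leaf 692))) (.node 2 (.node 1 (.leaf 1180) (.leaf 1593)) (.node 1 (.leaf 1058) (.leaf 1226)))) (.node 3 (.node 1 (.leaf 1471) (.node 1 (.leaf 634) (.leaf 834))) (.node 2 (.node 1 (.leaf 766) (.leaf 190)) (.node 1 (.leaf 1579) (.leaf 1773))))))) (.node 28 (.node 14 (.node 7 (.node 3 (.node 1 (.leaf 859) (.node 1 (.leaf 875) (.leaf 824))) (.node 2 (.node 1 (.leaf 877) (.leaf 575)) (.node 1 (.leaf 1207) (.leaf 1245)))) (.node 3 (.node 1 (.leaf 604) (.node 1 (.leaf 775) (.leaf 1003))) (.node 2 (.node 1 (.leaf 886) (.leaf 389)) (.node 1 (.leaf 392) (.leaf 1069))))) (.node 7 (.node 3 (.node 1 (.leaf 1249) (.node 1 (.leaf 602) (.leaf 1756))) (.node 2 (.node 1 (.leaf 1209) (.leaf 570)) (.node 1 (.leaf 174) (.leaf 1759)))) (.node 3 (.node 1 (.leaf 131) (.node 1 (.leaf 1481) (.leaf 918))) (.node 2 (.node 1 (.leaf 703) (.leaf 1450)) (.node 1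 (.leaf 642) (.leaf 1203)))))) (.node 14 (.node 7 (.node 3 (.node 1 (.leaf 1435) (.node 1 (.leaf 1211) (.leaf 1696))) (.node 2 (.node 1 (.leaf 1779) (.leaf 261)) (.node 1 (.leaf 573) (.leaf 405)))) (.node 3 (.node 1 (.leaf 400) (.node 1 (.leaf 1758) (.leaf 1519))) (.node 2 (.node 1 (.leaf 1336) (.leaf 1001)) (.node 1 (.leaf 1381) (.leaf 295))))) (.node 7 (.node 3 (.node 1 (.leaf 1055) (.node 1 (.leaf 682) (.leaf 76))) (.node 2 (.node 1 (.leaf 972) (.leaf 695)) (.node 1 (.leaf 1343) (.leaf 1655)))) (.node 3 (.node 1 (.leaf 688) (.node 1 (.leaf 635) (.leaf 754))) (.node 2 (.node 1 (.leaf 1770) (.leaf 1704)) (.node 1 (.leaf 651) (.leaf 1196)))))))) (.node 55 (.node 27 (.node 13 (.node 6 (.node 3 (.node 1 (.leaf 958) (.node 1 (.leaf 960) (.leaf 1630))) (.node 1 (.leaf 638) (.node 1 (.leaf 1778) (.leaf 1474)))) (.node 3 (.node 1 (.leaf 1660) (.node 1 (.leaf 1725) (.leaf 1658))) (.node 2 (.node 1 (.leaf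 936) (.leaf 953)) (.node 1 (.leaf 926) (.leaf 279))))) (.node 7 (.node 3 (.node 1 (.leaf 790) (.node 1 (.leaf 1201) (.leaf 1657))) (.node 2 (.node 1 (.leaf 706) (.leaf 1158)) (.node 1 (.leaf 864) (.leaf 1217)))) (.node 3 (.node 1 (.leaf 1473) (.node 1 (.leaf 587) (.leaf 1537))) (.node 2 (.node 1 (.leaf 810) (.leaf 1585)) (.node 1 (.leaf 138) (.leaf 1123)))))) (.node 14 (.node 7 (.node 3 (.node 1 (.leaf 343) (.node 1 (.leaf 477) (.leaf 1034))) (.node 2 (.node 1 (.leaf 1057) (.leaf 1396)) (.node 1 (.leaf 1428) (.leaf 1176)))) (.node 3 (.node 1 (.leaf 1284) (.node 1 (.leaf 53) (.leaf 1644))) (.node 2 (.node 1 (.leaf 939) (.leaf 745)) (.node 1 (.leaf 785) (.leaf 1562))))) (.node 7 (.node 3 (.node 1 (.leaf 1709) (.node 1 (.leaf 762) (.leaf 742))) (.node 2 (.node 1 (.leaf 1040) (.leaf 1172)) (.node 1 (.leaf 809) (.leaf 1743)))) (.node 3 (.node 1 (.leaf 123) (.node 1 (.leaf 1482) (.leaf 181))) (.node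 2 (.node 1 (.leaf 1164) (.leaf 927)) (.node 1 (.leaf 1568) (.leaf 1278))))))) (.node 28 (.node 14 (.node 7 (.node 3 (.node 1 (.leaf 1402) (.node 1 (.leaf 820) (.leaf 1580))) (.node 2 (.node 1 (.leaf 1065) (.leaf 1714)) (.node 1 (.leaf 987) (.leaf 1653)))) (.node 3 (.node 1 (.leaf 694) (.node 1 (.leaf 173) (.leaf 460))) (.node 2 (.node 1 (.leaf 1358) (.leaf 823)) (.node 1 (.leaf 1129) (.leaf 1730))))) (.node 7 (.node 3 (.node 1 (.leaf 1497) (.node 1 (.leaf 1672) (.leaf 1363))) (.node 2 (.node 1 (.leaf 1715) (.leaf 996)) (.node 1 (.leaf 1766) (.leaf 1472)))) (.node 3 (.node 1 (.leaf 650) (.node 1 (.leaf 1728) (.leaf 145))) (.node 2 (.node 1 (.leaf 772) (.leaf 1366)) (.node 1 (.leaf 1691) (.leaf 1422)))))) (.node 14 (.node 7 (.node 3 (.node 1 (.leaf 1566) (.node 1 (.leaf 1050) (.leaf 479))) (.node 2 (.node 1 (.leaf 528) (.leaf 1493)) (.node 1 (.leaf 1364) (.leaf 1199)))) (.node 3 (.node 1 (.leaf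 529) (.node 1 (.leaf 1192) (.leaf 227))) (.node 2 (.node 1 (.leaf 1292) (.leaf 777)) (.node 1 (.leaf 1619) (.leaf 1699))))) (.node 7 (.node 3 (.node 1 (.leaf 159) (.node 1 (.leaf 1039) (.leaf 1241))) (.node 2 (.node 1 (.leaf 905) (.leaf 1445)) (.node 1 (.leaf 1588) (.leaf 1548)))) (.node 3 (.node 1 (.leaf 1543) (.node 1 (.leaf 1726) (.leaf 503))) (.node 2 (.node 1 (.leaf 1412) (.leaf 825)) (.node 1 (.leaf 1747) (.leaf 627))))))))) (.node 111 (.node 55 (.node 27 (.node 13 (.node 6 (.node 3 (.node 1 (.leaf 1486) (.node 1 (.leaf 909) (.leaf 301))) (.node 1 (.leaf 685) (.node 1 (.leaf 1741) (.leaf 60)))) (.node 3 (.node 1 (.leaf 1605) (.node 1 (.leaf 1762) (.leaf 129))) (.node 2 (.node 1 (.leaf 223) (.leaf 1383)) (.node 1 (.leaf 319) (.leaf 965))))) (.node 7 (.node 3 (.node 1 (.leaf 1571) (.node 1 (.leaf 1138) (.leaf 1394))) (.node 2 (.node 1 (.leaf 1134) (.leaf 1469)) (.node 1 (.leaf 770) (.leaf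 1713)))) (.node 3 (.node 1 (.leaf 1135) (.node 1 (.leaf 1440) (.leaf 975))) (.node 2 (.node 1 (.leaf 1378) (.leaf 1669)) (.node 1 (.leaf 716) (.leaf 1483)))))) (.node 14 (.node 7 (.node 3 (.node 1 (.leaf 1408) (.node 1 (.leaf 1060) (.leaf 61))) (.node 2 (.node 1 (.leaf 1501) (.leaf 1582)) (.node 1 (.leaf 1540) (.leaf 266)))) (.node 3 (.node 1 (.leaf 718) (.node 1 (.leaf 1526) (.leaf 1668))) (.node 2 (.node 1 (.leaf 760) (.leaf 1429)) (.node 1 (.leaf 1390) (.leaf 663))))) (.node 7 (.node 3 (.node 1 (.leaf 827) (.node 1 (.leaf 1131) (.leaf 649))) (.node 2 (.node 1 (.leaf 1355) (.leaf 637)) (.node 1 (.leaf 1185) (.leaf 1195)))) (.node 3 (.node 1 (.leaf 814) (.node 1 (.leaf 555) (.leaf 1210))) (.node 2 (.node 1 (.leaf 1600) (.leaf 550)) (.node 1 (.leaf 1391) (.leaf 429))))))) (.node 28 (.node 14 (.node 7 (.node 3 (.node 1 (.leaf 1140) (.node 1 (.leaf 486) (.leaf 680))) (.node 2 (.node 1 (.leaf 215)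 (.leaf 1308)) (.node 1 (.leaf 1150) (.leaf 925)))) (.node 3 (.node 1 (.leaf 1764) (.node 1 (.leaf 1165) (.leaf 1124))) (.node 2 (.node 1 (.leaf 1454) (.leaf 64)) (.node 1 (.leaf 1614) (.leaf 1500))))) (.node 7 (.node 3 (.node 1 (.leaf 1662) (.node 1 (.leaf 1096) (.leaf 1602))) (.node 2 (.node 1 (.leaf 246) (.leaf 1277)) (.node 1 (.leaf 423) (.leaf 928)))) (.node 3 (.node 1 (.leaf 758) (.node 1 (.leaf 1194) (.leaf 1542))) (.node 2 (.node 1 (.leaf 1079) (.leaf 1324)) (.node 1 (.leaf 291) (.leaf 283)))))) (.node 14 (.node 7 (.node 3 (.node 1 (.leaf 1523) (.node 1 (.leaf 521) (.leaf 1092))) (.node 2 (.node 1 (.leaf 1348) (.leaf 1159)) (.node 1 (.leaf 740) (.leaf 1022)))) (.node 3 (.node 1 (.leaf 714) (.node 1 (.leaf 1749) (.leaf 1026))) (.node 2 (.node 1 (.leaf 1480) (.leaf 828)) (.node 1 (.leaf 812) (.leaf 1156))))) (.node 7 (.node 3 (.node 1 (.leaf 1550) (.node 1 (.leaf 1093) (.leaf 1425))) (.node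 2 (.node 1 (.leaf 1008) (.leaf 1103)) (.node 1 (.leaf 930) (.leaf 1361)))) (.node 3 (.node 1 (.leaf 69) (.node 1 (.leaf 744) (.leaf 1723))) (.node 2 (.node 1 (.leaf 1337) (.leaf 736)) (.node 1 (.leaf 1573) (.leaf 1038)))))))) (.node 56 (.node 28 (.node 14 (.node 7 (.node 3 (.node 1 (.leaf 935) (.node 1 (.leaf 1327) (.leaf 430))) (.node 2 (.node 1 (.leaf 1716) (.leaf 1181)) (.node 1 (.leaf 553) (.leaf 1659)))) (.node 3 (.node 1 (.leaf 1351) (.node 1 (.leaf 1341) (.leaf 913))) (.node 2 (.node 1 (.leaf 1697) (.leaf 861)) (.node 1 (.leaf 1752) (.leaf 1222))))) (.node 7 (.node 3 (.node 1 (.leaf 1293) (.node 1 (.leaf 725) (.leaf 830))) (.node 2 (.node 1 (.leaf 991) (.leaf 510)) (.node 1 (.leaf 1356) (.leaf 1551)))) (.node 3 (.node 1 (.leaf 743) (.node 1 (.leaf 1467) (.leaf 1449))) (.node 2 (.node 1 (.leaf 1621) (.leaf 1248)) (.node 1 (.leaf 1061) (.leaf 441)))))) (.node 14 (.node 7 (.node 3 (.node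 1 (.leaf 887) (.node 1 (.leaf 992) (.leaf 112))) (.node 2 (.node 1 (.leaf 1315) (.leaf 653)) (.node 1 (.leaf 1012) (.leaf 904)))) (.node 3 (.node 1 (.leaf 1101) (.node 1 (.leaf 1583) (.leaf 1761))) (.node 2 (.node 1 (.leaf 1680) (.leaf 862)) (.node 1 (.leaf 483) (.leaf 938))))) (.node 7 (.node 3 (.node 1 (.leaf 764) (.node 1 (.leaf 202) (.leaf 890))) (.node 2 (.node 1 (.leaf 1610) (.leaf 1754)) (.node 1 (.leaf 403) (.leaf 1587)))) (.node 3 (.node 1 (.leaf 584) (.node 1 (.leaf 268) (.leaf 1117))) (.node 2 (.node 1 (.leaf 1246) (.leaf 1250)) (.node 1 (.leaf 1142) (.leaf 869))))))) (.node 28 (.node 14 (.node 7 (.node 3 (.node 1 (.leaf 1695) (.node 1 (.leaf 741) (.leaf 870))) (.node 2 (.node 1 (.leaf 1700) (.leaf 1755)) (.node 1 (.leaf 1533) (.leaf 373)))) (.node 3 (.node 1 (.leaf 982) (.node 1 (.leaf 1052) (.leaf 203))) (.node 2 (.node 1 (.leaf 447) (.leaf 1663)) (.node 1 (.leaf 1200) (.leaf 1086)))))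 (.node 7 (.node 3 (.node 1 (.leaf 727) (.node 1 (.leaf 597) (.leaf 1431))) (.node 2 (.node 1 (.leaf 401) (.leaf 836)) (.node 1 (.leaf 769) (.leaf 583)))) (.node 3 (.node 1 (.leaf 752) (.node 1 (.leaf 1455) (.leaf 1757))) (.node 2 (.node 1 (.leaf 571) (.leaf 576)) (.node 1 (.leaf 577) (.leaf 1115)))))) (.node 14 (.node 7 (.node 3 (.node 1 (.leaf 1557) (.node 1 (.leaf 835) (.leaf 269))) (.node 2 (.node 1 (.leaf 1775) (.leaf 1107)) (.node 1 (.leaf 1461) (.leaf 1627)))) (.node 3 (.node 1 (.leaf 1338) (.node 1 (.leaf 1541) (.leaf 284))) (.node 2 (.node 1 (.leaf 940) (.leaf 321)) (.node 1 (.leaf 697) (.leaf 1342))))) (.node 7 (.node 3 (.node 1 (.leaf 1774) (.node 1 (.leaf 390) (.leaf 841))) (.node 2 (.node 1 (.leaf 1173) (.leaf 601)) (.node 1 (.leaf 590) (.leaf 1777)))) (.node 3 (.node 1 (.leaf 1694) (.node 1 (.leaf 1780) (.leaf 271))) (.node 2 (.node 1 (.leaf 1088) (.leaf 1238)) (.node 1 (.leaf 986)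 (.leaf 1146)))))))))) (.node 223 (.node 111 (.node 55 (.node 27 (.node 13 (.node 6 (.node 3 (.node 1 (.leaf 1415) (.node 1 (.leaf 490) (.leaf 994))) (.node 1 (.leaf 419) (.node 1 (.leaf 267) (.leaf 443)))) (.node 3 (.node 1 (.leaf 188) (.node 1 (.leaf 1330) (.leaf 99))) (.node 2 (.node 1 (.leaf 924) (.leaf 791)) (.node 1 (.leaf 1765) (.leaf 984))))) (.node 7 (.node 3 (.node 1 (.leaf 336) (.node 1 (.leaf 1511) (.leaf 1320))) (.node 2 (.node 1 (.leaf 1589) (.leaf 1648)) (.node 1 (.leaf 540) (.leaf 1274)))) (.node 3 (.node 1 (.leaf 784) (.node 1 (.leaf 817) (.leaf 1535))) (.node 2 (.node 1 (.leaf 789) (.leaf 1009)) (.node 1 (.leaf 1560) (.leaf 1514)))))) (.node 14 (.node 7 (.node 3 (.node 1 (.leaf 1234) (.node 1 (.leaf 1596) (.leaf 1504))) (.node 2 (.node 1 (.leaf 1768) (.leaf 1464)) (.node 1 (.leaf 704) (.leaf 543)))) (.node 3 (.node 1 (.leaf 458) (.node 1 (.leaf 1458) (.leaf 738))) (.node 2 (.node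 1 (.leaf 1044) (.leaf 1078)) (.node 1 (.leaf 551) (.leaf 932))))) (.node 7 (.node 3 (.node 1 (.leaf 87) (.node 1 (.leaf 1731) (.leaf 1651))) (.node 2 (.node 1 (.leaf 709) (.leaf 787)) (.node 1 (.leaf 617) (.leaf 1137)))) (.node 3 (.node 1 (.leaf 1197) (.node 1 (.leaf 733) (.leaf 1524))) (.node 2 (.node 1 (.leaf 1239) (.leaf 1384)) (.node 1 (.leaf 979) (.leaf 1549))))))) (.node 28 (.node 14 (.node 7 (.node 3 (.node 1 (.leaf 1365) (.node 1 (.leaf 1167) (.leaf 1291))) (.node 2 (.node 1 (.leaf 988) (.leaf 1478)) (.node 1 (.leaf 1072) (.leaf 256)))) (.node 3 (.node 1 (.leaf 1772) (.node 1 (.leaf 1279) (.leaf 1632))) (.node 2 (.node 1 (.leaf 538) (.leaf 1719)) (.node 1 (.leaf 1578) (.leaf 1271))))) (.node 7 (.node 3 (.node 1 (.leaf 1187) (.node 1 (.leaf 1416) (.leaf 783))) (.node 2 (.node 1 (.leaf 664) (.leaf 249)) (.node 1 (.leaf 160) (.leaf 755)))) (.node 3 (.node 1 (.leaf 973) (.node 1 (.leaf 957)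 (.leaf 1745))) (.node 2 (.node 1 (.leaf 1371) (.leaf 1263)) (.node 1 (.leaf 100) (.leaf 1520)))))) (.node 14 (.node 7 (.node 3 (.node 1 (.leaf 1637) (.node 1 (.leaf 1686) (.leaf 1654))) (.node 2 (.node 1 (.leaf 971) (.leaf 1638)) (.node 1 (.leaf 980) (.leaf 646)))) (.node 3 (.node 1 (.leaf 182) (.node 1 (.leaf 794) (.leaf 1048))) (.node 2 (.node 1 (.leaf 1448) (.leaf 731)) (.node 1 (.leaf 863) (.leaf 768))))) (.node 7 (.node 3 (.node 1 (.leaf 526) (.node 1 (.leaf 1733) (.leaf 361))) (.node 2 (.node 1 (.leaf 1213) (.leaf 1108)) (.node 1 (.leaf 735) (.leaf 1372)))) (.node 3 (.node 1 (.leaf 1112) (.node 1 (.leaf 1314) (.leaf 771))) (.node 2 (.node 1 (.leaf 1457) (.leaf 1122)) (.node 1 (.leaf 782) (.leaf 1120)))))))) (.node 56 (.node 28 (.node 14 (.node 7 (.node 3 (.node 1 (.leaf 1739) (.node 1 (.leaf 96) (.leaf 1287))) (.node 2 (.node 1 (.leaf 1746) (.leaf 179)) (.node 1 (.leaf 146) (.leaf 1515))))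 (.node 3 (.node 1 (.leaf 1494) (.node 1 (.leaf 1031) (.leaf 1037))) (.node 2 (.node 1 (.leaf 1011) (.leaf 1143)) (.node 1 (.leaf 192) (.leaf 683))))) (.node 7 (.node 3 (.node 1 (.leaf 298) (.node 1 (.leaf 993) (.leaf 1735))) (.node 2 (.node 1 (.leaf 1178) (.leaf 1462)) (.node 1 (.leaf 619) (.leaf 265)))) (.node 3 (.node 1 (.leaf 707) (.node 1 (.leaf 1007) (.leaf 1522))) (.node 2 (.node 1 (.leaf 417) (.leaf 805)) (.node 1 (.leaf 1345) (.leaf 1529)))))) (.node 14 (.node 7 (.node 3 (.node 1 (.leaf 241) (.node 1 (.leaf 963) (.leaf 562))) (.node 2 (.node 1 (.leaf 792) (.leaf 531)) (.node 1 (.leaf 1087) (.leaf 947)))) (.node 3 (.node 1 (.leaf 1059) (.node 1 (.leaf 929) (.leaf 1536))) (.node 2 (.node 1 (.leaf 211) (.leaf 207)) (.node 1 (.leaf 676) (.leaf 1693))))) (.node 7 (.node 3 (.node 1 (.leaf 1491) (.node 1 (.leaf 1530) (.leaf 633))) (.node 2 (.node 1 (.leaf 1325) (.leaf 1326)) (.node 1 (.leaf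 567) (.leaf 255)))) (.node 3 (.node 1 (.leaf 1720) (.node 1 (.leaf 1063) (.leaf 1139))) (.node 2 (.node 1 (.leaf 1427) (.leaf 1032)) (.node 1 (.leaf 1174) (.leaf 1438))))))) (.node 28 (.node 14 (.node 7 (.node 3 (.node 1 (.leaf 1306) (.node 1 (.leaf 1045) (.leaf 475))) (.node 2 (.node 1 (.leaf 1304) (.leaf 1262)) (.node 1 (.leaf 1377) (.leaf 440)))) (.node 3 (.node 1 (.leaf 1674) (.node 1 (.leaf 832) (.leaf 1569))) (.node 2 (.node 1 (.leaf 1442) (.leaf 839)) (.node 1 (.leaf 1411) (.leaf 1517))))) (.node 7 (.node 3 (.node 1 (.leaf 693) (.node 1 (.leaf 1066) (.leaf 710))) (.node 2 (.node 1 (.leaf 425) (.leaf 813)) (.node 1 (.leaf 1742) (.leaf 950)))) (.node 3 (.node 1 (.leaf 1374) (.node 1 (.leaf 625) (.leaf 1488))) (.node 2 (.node 1 (.leaf 1641) (.leaf 1556)) (.node 1 (.leaf 1664) (.leaf 1015)))))) (.node 14 (.node 7 (.node 3 (.node 1 (.leaf 729) (.node 1 (.leaf 166) (.leaf 1280))) (.node 2 (.node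 1 (.leaf 933) (.leaf 1145)) (.node 1 (.leaf 1373) (.leaf 1219)))) (.node 3 (.node 1 (.leaf 983) (.node 1 (.leaf 1312) (.leaf 920))) (.node 2 (.node 1 (.leaf 722) (.leaf 1424)) (.node 1 (.leaf 1023) (.leaf 1574))))) (.node 7 (.node 3 (.node 1 (.leaf 1024) (.node 1 (.leaf 1581) (.leaf 815))) (.node 2 (.node 1 (.leaf 1075) (.leaf 1706)) (.node 1 (.leaf 851) (.leaf 1010)))) (.node 3 (.node 1 (.leaf 1370) (.node 1 (.leaf 186) (.leaf 1635))) (.node 2 (.node 1 (.leaf 1030) (.leaf 1033)) (.node 1 (.leaf 1767) (.leaf 1512))))))))) (.node 111 (.node 55 (.node 27 (.node 13 (.node 6 (.node 3 (.node 1 (.leaf 1489) (.node 1 (.leaf 1437) (.leaf 1113))) (.node 1 (.leaf 1357) (.node 1 (.leaf 353) (.leaf 1599)))) (.node 3 (.node 1 (.leaf 1404) (.node 1 (.leaf 1656) (.leaf 1403))) (.node 2 (.node 1 (.leaf 1175) (.leaf 280)) (.node 1 (.leaf 1531) (.leaf 1631))))) (.node 7 (.node 3 (.node 1 (.leaf 1029) (.node 1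 (.leaf 286) (.leaf 165))) (.node 2 (.node 1 (.leaf 1170) (.leaf 902)) (.node 1 (.leaf 1171) (.leaf 1198)))) (.node 3 (.node 1 (.leaf 585) (.node 1 (.leaf 747) (.leaf 1645))) (.node 2 (.node 1 (.leaf 699) (.leaf 1311)) (.node 1 (.leaf 1318) (.leaf 1064)))))) (.node 14 (.node 7 (.node 3 (.node 1 (.leaf 506) (.node 1 (.leaf 1475) (.leaf 522))) (.node 2 (.node 1 (.leaf 908) (.leaf 1405)) (.node 1 (.leaf 558) (.leaf 989)))) (.node 3 (.node 1 (.leaf 1679) (.node 1 (.leaf 428) (.leaf 149))) (.node 2 (.node 1 (.leaf 1685) (.leaf 843)) (.node 1 (.leaf 1689) (.leaf 398))))) (.node 7 (.node 3 (.node 1 (.leaf 1421) (.node 1 (.leaf 1708) (.leaf 1690))) (.node 2 (.node 1 (.leaf 1216) (.leaf 1298)) (.node 1 (.leaf 874) (.leaf 1710)))) (.node 3 (.node 1 (.leaf 1667) (.node 1 (.leaf 595) (.leaf 1420))) (.node 2 (.node 1 (.leaf 872) (.leaf 515)) (.node 1 (.leaf 348) (.leaf 852))))))) (.node 28 (.node 14 (.node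 7 (.node 3 (.node 1 (.leaf 848) (.node 1 (.leaf 780) (.leaf 1116))) (.node 2 (.node 1 (.leaf 598) (.leaf 1640)) (.node 1 (.leaf 1760) (.leaf 360)))) (.node 3 (.node 1 (.leaf 1114) (.node 1 (.leaf 853) (.leaf 1255))) (.node 2 (.node 1 (.leaf 1443) (.leaf 1781)) (.node 1 (.leaf 404) (.leaf 1753))))) (.node 7 (.node 3 (.node 1 (.leaf 1737) (.node 1 (.leaf 1148) (.leaf 1313))) (.node 2 (.node 1 (.leaf 629) (.leaf 1053)) (.node 1 (.leaf 1043) (.leaf 808)))) (.node 3 (.node 1 (.leaf 1463) (.node 1 (.leaf 1163) (.leaf 1447))) (.node 2 (.node 1 (.leaf 498) (.leaf 481)) (.node 1 (.leaf 1643) (.leaf 915)))))) (.node 14 (.node 7 (.node 3 (.node 1 (.leaf 1748) (.node 1 (.leaf 444) (.leaf 325))) (.node 2 (.node 1 (.leaf 1525) (.leaf 1738)) (.node 1 (.leaf 1678) (.leaf 1169)))) (.node 3 (.node 1 (.leaf 1492) (.node 1 (.leaf 1375) (.leaf 1376))) (.node 2 (.node 1 (.leaf 1016) (.leaf 1244)) (.node 1 (.leaf 997)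 (.leaf 478))))) (.node 7 (.node 3 (.node 1 (.leaf 1509) (.node 1 (.leaf 1677) (.leaf 1418))) (.node 2 (.node 1 (.leaf 1732) (.leaf 623)) (.node 1 (.leaf 671) (.leaf 1567)))) (.node 3 (.node 1 (.leaf 539) (.node 1 (.leaf 677) (.leaf 1771))) (.node 2 (.node 1 (.leaf 724) (.leaf 1498)) (.node 1 (.leaf 838) (.leaf 1036)))))))) (.node 56 (.node 28 (.node 14 (.node 7 (.node 3 (.node 1 (.leaf 520) (.node 1 (.leaf 1193) (.leaf 1334))) (.node 2 (.node 1 (.leaf 1642) (.leaf 341)) (.node 1 (.leaf 1310) (.leaf 723)))) (.node 3 (.node 1 (.leaf 624) (.node 1 (.leaf 1528) (.leaf 803))) (.node 2 (.node 1 (.leaf 500) (.leaf 921)) (.node 1 (.leaf 1288) (.leaf 1385))))) (.node 7 (.node 3 (.node 1 (.leaf 1155) (.node 1 (.leaf 672) (.leaf 679))) (.node 2 (.node 1 (.leaf 1397) (.leaf 1106)) (.node 1 (.leaf 1233) (.leaf 533)))) (.node 3 (.node 1 (.leaf 1243) (.node 1 (.leaf 1160) (.leaf 807))) (.node 2 (.node 1 (.leaf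 1205) (.leaf 235)) (.node 1 (.leaf 1214) (.leaf 779)))))) (.node 14 (.node 7 (.node 3 (.node 1 (.leaf 1119) (.node 1 (.leaf 535) (.leaf 1466))) (.node 2 (.node 1 (.leaf 1267) (.leaf 618)) (.node 1 (.leaf 1333) (.leaf 1591)))) (.node 3 (.node 1 (.leaf 548) (.node 1 (.leaf 1484) (.leaf 1532))) (.node 2 (.node 1 (.leaf 999) (.leaf 1316)) (.node 1 (.leaf 647) (.leaf 1099))))) (.node 7 (.node 3 (.node 1 (.leaf 1650) (.node 1 (.leaf 974) (.leaf 833))) (.node 2 (.node 1 (.leaf 967) (.leaf 1354)) (.node 1 (.leaf 1179) (.leaf 1251)))) (.node 3 (.node 1 (.leaf 641) (.node 1 (.leaf 1559) (.leaf 1360))) (.node 2 (.node 1 (.leaf 1740) (.leaf 922)) (.node 1 (.leaf 705) (.leaf 1386))))))) (.node 28 (.node 14 (.node 7 (.node 3 (.node 1 (.leaf 1513) (.node 1 (.leaf 495) (.leaf 969))) (.node 2 (.node 1 (.leaf 1724) (.leaf 482)) (.node 1 (.leaf 1586) (.leaf 1074)))) (.node 3 (.node 1 (.leaf 1721) (.node 1 (.leaf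 1736) (.leaf 1692))) (.node 2 (.node 1 (.leaf 1718) (.leaf 1763)) (.node 1 (.leaf 655) (.leaf 1153))))) (.node 7 (.node 3 (.node 1 (.leaf 1590) (.node 1 (.leaf 432) (.leaf 1166))) (.node 2 (.node 1 (.leaf 1162) (.leaf 1359)) (.node 1 (.leaf 1130) (.leaf 761)))) (.node 3 (.node 1 (.leaf 970) (.node 1 (.leaf 1020) (.leaf 912))) (.node 2 (.node 1 (.leaf 881) (.leaf 1091)) (.node 1 (.leaf 891) (.leaf 532)))))) (.node 14 (.node 7 (.node 3 (.node 1 (.leaf 514) (.node 1 (.leaf 774) (.leaf 516))) (.node 2 (.node 1 (.leaf 586) (.leaf 894)) (.node 1 (.leaf 1253) (.leaf 1776)))) (.node 3 (.node 1 (.leaf 681) (.node 1 (.leaf 981) (.leaf 1675))) (.node 2 (.node 1 (.leaf 1652) (.leaf 1552)) (.node 1 (.leaf 1683) (.leaf 1401))))) (.node 7 (.node 3 (.node 1 (.leaf 1684) (.node 1 (.leaf 1362) (.leaf 1027))) (.node 2 (.node 1 (.leaf 1423) (.leaf 788)) (.node 1 (.leaf 753) (.leaf 359)))) (.node 3 (.node 1 (.leaf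 1465) (.node 1 (.leaf 362) (.leaf 1247))) (.node 2 (.node 1 (.leaf 1521) (.leaf 527)) (.node 1 (.leaf 1460) (.leaf 1121))))))))))))

/-- The permutation of the second element. -/
def tabH : Tab :=
  (.node 891 (.node 445 (.node 222 (.node 111 (.node 55 (.node 27 (.node 13 (.node 6 (.node 3 (.node 1 (.leaf 0) (.node 1 (.leaf 52) (.leaf 671))) (.node 1 (.leaf 376) (.node 1 (.leaf 1059) (.leaf 1403)))) (.node 3 (.node 1 (.leaf 869) (.node 1 (.leaf 887) (.leaf 454))) (.node 2 (.node 1 (.leaf 672) (.leaf 556)) (.node 1 (.leaf 796) (.leaf 555))))) (.node 7 (.node 3 (.node 1 (.leaf 1242) (.node 1 (.leaf 1488) (.leaf 1049))) (.node 2 (.node 1 (.leaf 574) (.leaf 1771)) (.node 1 (.leaf 1233) (.leaf 1294)))) (.node 3 (.node 1 (.leaf 659) (.node 1 (.leaf 1530) (.leaf 1326))) (.node 2 (.node 1 (.leaf 1409) (.leaf 1213)) (.node 1 (.leaf 944) (.leaf 928)))))) (.node 14 (.node 7 (.node 3 (.node 1 (.leaf 814)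 (.node 1 (.leaf 1506) (.leaf 1))) (.node 2 (.node 1 (.leaf 402) (.leaf 963)) (.node 1 (.leaf 78) (.leaf 978)))) (.node 3 (.node 1 (.leaf 1176) (.node 1 (.leaf 808) (.leaf 1737))) (.node 2 (.node 1 (.leaf 1156) (.leaf 1718)) (.node 1 (.leaf 735) (.leaf 551))))) (.node 7 (.node 3 (.node 1 (.leaf 427) (.node 1 (.leaf 260) (.leaf 810))) (.node 2 (.node 1 (.leaf 1090) (.leaf 487)) (.node 1 (.leaf 1618) (.leaf 274)))) (.node 3 (.node 1 (.leaf 1572) (.node 1 (.leaf 1243) (.leaf 929))) (.node 2 (.node 1 (.leaf 191) (.leaf 29)) (.node 1 (.leaf 964) (.leaf 269))))))) (.node 28 (.node 14 (.node 7 (.node 3 (.node 1 (.leaf 1058) (.node 1 (.leaf 946) (.leaf 1060))) (.node 2 (.node 1 (.leaf 1021) (.leaf 886)) (.node 1 (.leaf 773) (.leaf 797)))) (.node 3 (.node 1 (.leaf 692) (.node 1 (.leaf 1523) (.leaf 809))) (.node 2 (.node 1 (.leaf 529) (.leaf 110)) (.node 1 (.leaf 601) (.leaf 599))))) (.node 7 (.node 3 (.node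 1 (.leaf 68) (.node 1 (.leaf 825) (.leaf 16))) (.node 2 (.node 1 (.leaf 1231) (.leaf 1564)) (.node 1 (.leaf 156) (.leaf 1578)))) (.node 3 (.node 1 (.leaf 1259) (.node 1 (.leaf 86) (.leaf 1189))) (.node 2 (.node 1 (.leaf 1314) (.leaf 1411)) (.node 1 (.leaf 632) (.leaf 1237)))))) (.node 14 (.node 7 (.node 3 (.node 1 (.leaf 818) (.node 1 (.leaf 1157) (.leaf 1113))) (.node 2 (.node 1 (.leaf 285) (.leaf 1778)) (.node 1 (.leaf 87) (.leaf 1061)))) (.node 3 (.node 1 (.leaf 1209) (.node 1 (.leaf 952) (.leaf 1724))) (.node 2 (.node 1 (.leaf 1141) (.leaf 500)) (.node 1 (.leaf 879) (.leaf 1292))))) (.node 7 (.node 3 (.node 1 (.leaf 770) (.node 1 (.leaf 530) (.leaf 749))) (.node 2 (.node 1 (.leaf 1304) (.leaf 1420)) (.node 1 (.leaf 1472) (.leaf 1510)))) (.node 3 (.node 1 (.leaf 268) (.node 1 (.leaf 22) (.leaf 1768))) (.node 2 (.node 1 (.leaf 1173) (.leaf 1683)) (.node 1 (.leaf 109) (.leaf 766)))))))) (.node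 55 (.node 27 (.node 13 (.node 6 (.node 3 (.node 1 (.leaf 30) (.node 1 (.leaf 884) (.leaf 302))) (.node 1 (.leaf 137) (.node 1 (.leaf 639) (.leaf 1780)))) (.node 3 (.node 1 (.leaf 1759) (.node 1 (.leaf 965) (.leaf 51))) (.node 2 (.node 1 (.leaf 1502) (.leaf 1101)) (.node 1 (.leaf 579) (.leaf 42))))) (.node 7 (.node 3 (.node 1 (.leaf 168) (.node 1 (.leaf 1775) (.leaf 444))) (.node 2 (.node 1 (.leaf 1003) (.leaf 868)) (.node 1 (.leaf 1450) (.leaf 683)))) (.node 3 (.node 1 (.leaf 1034) (.node 1 (.leaf 1410) (.leaf 1040))) (.node 2 (.node 1 (.leaf 547) (.leaf 120)) (.node 1 (.leaf 390) (.leaf 153)))))) (.node 14 (.node 7 (.node 3 (.node 1 (.leaf 1531) (.node 1 (.leaf 812) (.leaf 902))) (.node 2 (.node 1 (.leaf 300) (.leaf 888)) (.node 1 (.leaf 758) (.leaf 700)))) (.node 3 (.node 1 (.leaf 596) (.node 1 (.leaf 522) (.leaf 921))) (.node 2 (.node 1 (.leaf 1562) (.leaf 411)) (.node 1 (.leaf 458) (.leaf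 1480))))) (.node 7 (.node 3 (.node 1 (.leaf 674) (.node 1 (.leaf 74) (.leaf 763))) (.node 2 (.node 1 (.leaf 765) (.leaf 381)) (.node 1 (.leaf 824) (.leaf 1001)))) (.node 3 (.node 1 (.leaf 941) (.node 1 (.leaf 1426) (.leaf 769))) (.node 2 (.node 1 (.leaf 70) (.leaf 1347)) (.node 1 (.leaf 246) (.leaf 1599))))))) (.node 28 (.node 14 (.node 7 (.node 3 (.node 1 (.leaf 791) (.node 1 (.leaf 505) (.leaf 182))) (.node 2 (.node 1 (.leaf 169) (.leaf 937)) (.node 1 (.leaf 332) (.leaf 449)))) (.node 3 (.node 1 (.leaf 1439) (.node 1 (.leaf 916) (.leaf 648))) (.node 2 (.node 1 (.leaf 408) (.leaf 1776)) (.node 1 (.leaf 972) (.leaf 1225))))) (.node 7 (.node 3 (.node 1 (.leaf 681) (.node 1 (.leaf 1051) (.leaf 69))) (.node 2 (.node 1 (.leaf 259) (.leaf 1781)) (.node 1 (.leaf 624) (.leaf 582)))) (.node 3 (.node 1 (.leaf 855) (.node 1 (.leaf 1758) (.leaf 537))) (.node 2 (.node 1 (.leaf 501) (.leaf 71)) (.node 1 (.leaf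 195) (.leaf 616)))))) (.node 14 (.node 7 (.node 3 (.node 1 (.leaf 304) (.node 1 (.leaf 450) (.leaf 447))) (.node 2 (.node 1 (.leaf 689) (.leaf 1627)) (.node 1 (.leaf 201) (.leaf 1701)))) (.node 3 (.node 1 (.leaf 1621) (.node 1 (.leaf 180) (.leaf 1712))) (.node 2 (.node 1 (.leaf 343) (.leaf 263)) (.node 1 (.leaf 261) (.leaf 997))))) (.node 7 (.node 3 (.node 1 (.leaf 1158) (.node 1 (.leaf 90) (.leaf 647))) (.node 2 (.node 1 (.leaf 17) (.leaf 1252)) (.node 1 (.leaf 1685) (.leaf 1239)))) (.node 3 (.node 1 (.leaf 45) (.node 1 (.leaf 557) (.leaf 1493))) (.node 2 (.node 1 (.leaf 251) (.leaf 1610)) (.node 1 (.leaf 1224) (.leaf 678))))))))) (.node 111 (.node 55 (.node 27 (.node 13 (.node 6 (.node 3 (.node 1 (.leaf 1230) (.node 1 (.leaf 898) (.leaf 922))) (.node 1 (.leaf 1516) (.node 1 (.leaf 1340) (.leaf 543)))) (.node 3 (.node 1 (.leaf 524) (.node 1 (.leaf 521) (.leaf 541))) (.node 2 (.node 1 (.leaf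 226) (.leaf 1692)) (.node 1 (.leaf 453) (.leaf 954))))) (.node 7 (.node 3 (.node 1 (.leaf 717) (.node 1 (.leaf 942) (.leaf 406))) (.node 2 (.node 1 (.leaf 356) (.leaf 358)) (.node 1 (.leaf 1097) (.leaf 190)))) (.node 3 (.node 1 (.leaf 1180) (.node 1 (.leaf 979) (.leaf 1455))) (.node 2 (.node 1 (.leaf 563) (.leaf 284)) (.node 1 (.leaf 856) (.leaf 650)))))) (.node 14 (.node 7 (.node 3 (.node 1 (.leaf 100) (.node 1 (.leaf 1035) (.leaf 1586))) (.node 2 (.node 1 (.leaf 1661) (.leaf 252)) (.node 1 (.leaf 1548) (.leaf 1614)))) (.node 3 (.node 1 (.leaf 1580) (.node 1 (.leaf 393) (.leaf 580))) (.node 2 (.node 1 (.leaf 123) (.leaf 846)) (.node 1 (.leaf 711) (.leaf 1689))))) (.node 7 (.node 3 (.node 1 (.leaf 536) (.node 1 (.leaf 1729) (.leaf 882))) (.node 2 (.node 1 (.leaf 1094) (.leaf 1441)) (.node 1 (.leaf 1632) (.leaf 939)))) (.node 3 (.node 1 (.leaf 1402) (.node 1 (.leaf 702) (.leaf 290))) (.node 2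 (.node 1 (.leaf 642) (.leaf 1311)) (.node 1 (.leaf 416) (.leaf 412))))))) (.node 28 (.node 14 (.node 7 (.node 3 (.node 1 (.leaf 668) (.node 1 (.leaf 1120) (.leaf 415))) (.node 2 (.node 1 (.leaf 476) (.leaf 1492)) (.node 1 (.leaf 315) (.leaf 1376)))) (.node 3 (.node 1 (.leaf 134) (.node 1 (.leaf 111) (.leaf 194))) (.node 2 (.node 1 (.leaf 645) (.leaf 486)) (.node 1 (.leaf 440) (.leaf 1460))))) (.node 7 (.node 3 (.node 1 (.leaf 1763) (.node 1 (.leaf 739) (.leaf 1325))) (.node 2 (.node 1 (.leaf 278) (.leaf 489)) (.node 1 (.leaf 1050) (.leaf 38)))) (.node 3 (.node 1 (.leaf 1214) (.node 1 (.leaf 1733) (.leaf 829))) (.node 2 (.node 1 (.leaf 1622) (.leaf 1728)) (.node 1 (.leaf 125) (.leaf 885)))))) (.node 14 (.node 7 (.node 3 (.node 1 (.leaf 184) (.node 1 (.leaf 397) (.leaf 362))) (.node 2 (.node 1 (.leaf 1583) (.leaf 419)) (.node 1 (.leaf 516) (.leaf 940)))) (.node 3 (.node 1 (.leaf 1241) (.node 1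 (.leaf 857) (.leaf 614))) (.node 2 (.node 1 (.leaf 1260) (.leaf 472)) (.node 1 (.leaf 461) (.leaf 993))))) (.node 7 (.node 3 (.node 1 (.leaf 635) (.node 1 (.leaf 550) (.leaf 237))) (.node 2 (.node 1 (.leaf 385) (.leaf 436)) (.node 1 (.leaf 464) (.leaf 348)))) (.node 3 (.node 1 (.leaf 859) (.node 1 (.leaf 680) (.leaf 673))) (.node 2 (.node 1 (.leaf 1607) (.leaf 1637)) (.node 1 (.leaf 262) (.leaf 215)))))))) (.node 56 (.node 28 (.node 14 (.node 7 (.node 3 (.node 1 (.leaf 1387) (.node 1 (.leaf 1008) (.leaf 383))) (.node 2 (.node 1 (.leaf 544) (.leaf 657)) (.node 1 (.leaf 1404) (.leaf 1109)))) (.node 3 (.node 1 (.leaf 1126) (.node 1 (.leaf 264) (.leaf 1095))) (.node 2 (.node 1 (.leaf 1089) (.leaf 748)) (.node 1 (.leaf 1088) (.leaf 532))))) (.node 7 (.node 3 (.node 1 (.leaf 525) (.node 1 (.leaf 919) (.leaf 1612))) (.node 2 (.node 1 (.leaf 534) (.leaf 1544)) (.node 1 (.leaf 352) (.leaf 1755)))) (.node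 3 (.node 1 (.leaf 353) (.node 1 (.leaf 654) (.leaf 1369))) (.node 2 (.node 1 (.leaf 1466) (.leaf 1254)) (.node 1 (.leaf 158) (.leaf 890)))))) (.node 14 (.node 7 (.node 3 (.node 1 (.leaf 1675) (.node 1 (.leaf 1114) (.leaf 732))) (.node 2 (.node 1 (.leaf 311) (.leaf 685)) (.node 1 (.leaf 1193) (.leaf 815)))) (.node 3 (.node 1 (.leaf 562) (.node 1 (.leaf 1071) (.leaf 1246))) (.node 2 (.node 1 (.leaf 575) (.leaf 1291)) (.node 1 (.leaf 394) (.leaf 1236))))) (.node 7 (.node 3 (.node 1 (.leaf 757) (.node 1 (.leaf 1505) (.leaf 1509))) (.node 2 (.node 1 (.leaf 241) (.leaf 1735)) (.node 1 (.leaf 656) (.leaf 114)))) (.node 3 (.node 1 (.leaf 663) (.node 1 (.leaf 1634) (.leaf 1715))) (.node 2 (.node 1 (.leaf 1674) (.leaf 448)) (.node 1 (.leaf 858) (.leaf 1297))))))) (.node 28 (.node 14 (.node 7 (.node 3 (.node 1 (.leaf 950) (.node 1 (.leaf 832) (.leaf 1520))) (.node 2 (.node 1 (.leaf 874) (.leaf 257)) (.node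 1 (.leaf 1154) (.leaf 1106)))) (.node 3 (.node 1 (.leaf 781) (.node 1 (.leaf 1385) (.leaf 1041))) (.node 2 (.node 1 (.leaf 726) (.leaf 177)) (.node 1 (.leaf 480) (.leaf 77))))) (.node 7 (.node 3 (.node 1 (.leaf 164) (.node 1 (.leaf 938) (.leaf 707))) (.node 2 (.node 1 (.leaf 421) (.leaf 439)) (.node 1 (.leaf 660) (.leaf 1777)))) (.node 3 (.node 1 (.leaf 1352) (.node 1 (.leaf 971) (.leaf 324))) (.node 2 (.node 1 (.leaf 1639) (.leaf 897)) (.node 1 (.leaf 991) (.leaf 682)))))) (.node 14 (.node 7 (.node 3 (.node 1 (.leaf 1613) (.node 1 (.leaf 1139) (.leaf 276))) (.node 2 (.node 1 (.leaf 82) (.leaf 233)) (.node 1 (.leaf 820) (.leaf 175)))) (.node 3 (.node 1 (.leaf 1211) (.node 1 (.leaf 1386) (.leaf 1500))) (.node 2 (.node 1 (.leaf 1406) (.leaf 1449)) (.node 1 (.leaf 1602) (.leaf 849))))) (.node 7 (.node 3 (.node 1 (.leaf 1296) (.node 1 (.leaf 492) (.leaf 684))) (.node 2 (.node 1 (.leaf 1024) (.leaf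 1609)) (.node 1 (.leaf 463) (.leaf 1238)))) (.node 3 (.node 1 (.leaf 1303) (.node 1 (.leaf 870) (.leaf 1536))) (.node 2 (.node 1 (.leaf 485) (.leaf 133)) (.node 1 (.leaf 953) (.leaf 1033)))))))))) (.node 223 (.node 111 (.node 55 (.node 27 (.node 13 (.node 6 (.node 3 (.node 1 (.leaf 947) (.node 1 (.leaf 1679) (.leaf 470))) (.node 1 (.leaf 835) (.node 1 (.leaf 1343) (.leaf 883)))) (.node 3 (.node 1 (.leaf 619) (.node 1 (.leaf 785) (.leaf 321))) (.node 2 (.node 1 (.leaf 1168) (.leaf 697)) (.node 1 (.leaf 407) (.leaf 764))))) (.node 7 (.node 3 (.node 1 (.leaf 1667) (.node 1 (.leaf 1557) (.leaf 398))) (.node 2 (.node 1 (.leaf 469) (.leaf 271)) (.node 1 (.leaf 282) (.leaf 309)))) (.node 3 (.node 1 (.leaf 318) (.node 1 (.leaf 312) (.leaf 392))) (.node 2 (.node 1 (.leaf 196) (.leaf 413)) (.node 1 (.leaf 396) (.leaf 670)))))) (.node 14 (.node 7 (.node 3 (.node 1 (.leaf 1330) (.node 1 (.leaf 317) (.leaf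 456))) (.node 2 (.node 1 (.leaf 1601) (.leaf 649)) (.node 1 (.leaf 1553) (.leaf 1073)))) (.node 3 (.node 1 (.leaf 833) (.node 1 (.leaf 1144) (.leaf 896))) (.node 2 (.node 1 (.leaf 1635) (.leaf 484)) (.node 1 (.leaf 1306) (.leaf 1435))))) (.node 7 (.node 3 (.node 1 (.leaf 1532) (.node 1 (.leaf 496) (.leaf 1117))) (.node 2 (.node 1 (.leaf 731) (.leaf 236)) (.node 1 (.leaf 568) (.leaf 493)))) (.node 3 (.node 1 (.leaf 1068) (.node 1 (.leaf 1717) (.leaf 585))) (.node 2 (.node 1 (.leaf 171) (.leaf 140)) (.node 1 (.leaf 174) (.leaf 1042))))))) (.node 28 (.node 14 (.node 7 (.node 3 (.node 1 (.leaf 1752) (.node 1 (.leaf 371) (.leaf 617))) (.node 2 (.node 1 (.leaf 864) (.leaf 1316)) (.node 1 (.leaf 122) (.leaf 915)))) (.node 3 (.node 1 (.leaf 452) (.node 1 (.leaf 1581) (.leaf 1555))) (.node 2 (.node 1 (.leaf 1779) (.leaf 510)) (.node 1 (.leaf 880) (.leaf 1265))))) (.node 7 (.node 3 (.node 1 (.leaf 1511)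 (.node 1 (.leaf 1508) (.leaf 1012))) (.node 2 (.node 1 (.leaf 753) (.leaf 99)) (.node 1 (.leaf 1107) (.leaf 1169)))) (.node 3 (.node 1 (.leaf 1608) (.node 1 (.leaf 347) (.leaf 892))) (.node 2 (.node 1 (.leaf 955) (.leaf 1111)) (.node 1 (.leaf 502) (.leaf 583)))))) (.node 14 (.node 7 (.node 3 (.node 1 (.leaf 1546) (.node 1 (.leaf 1093) (.leaf 1773))) (.node 2 (.node 1 (.leaf 1405) (.leaf 981)) (.node 1 (.leaf 1149) (.leaf 662)))) (.node 3 (.node 1 (.leaf 350) (.node 1 (.leaf 420) (.leaf 772))) (.node 2 (.node 1 (.leaf 1454) (.leaf 725)) (.node 1 (.leaf 721) (.leaf 664))))) (.node 7 (.node 3 (.node 1 (.leaf 62) (.node 1 (.leaf 295) (.leaf 1349))) (.node 2 (.node 1 (.leaf 1364) (.leaf 291)) (.node 1 (.leaf 403) (.leaf 1272)))) (.node 3 (.node 1 (.leaf 631) (.node 1 (.leaf 1329) (.leaf 1678))) (.node 2 (.node 1 (.leaf 1240) (.leaf 1533)) (.node 1 (.leaf 1693) (.leaf 1743)))))))) (.node 56 (.node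 28 (.node 14 (.node 7 (.node 3 (.node 1 (.leaf 1123) (.node 1 (.leaf 1223) (.leaf 1182))) (.node 2 (.node 1 (.leaf 1711) (.leaf 1218)) (.node 1 (.leaf 1250) (.leaf 399)))) (.node 3 (.node 1 (.leaf 1429) (.node 1 (.leaf 165) (.leaf 1748))) (.node 2 (.node 1 (.leaf 934) (.leaf 1401)) (.node 1 (.leaf 637) (.leaf 1085))))) (.node 7 (.node 3 (.node 1 (.leaf 506) (.node 1 (.leaf 173) (.leaf 1263))) (.node 2 (.node 1 (.leaf 1153) (.leaf 119)) (.node 1 (.leaf 378) (.leaf 451)))) (.node 3 (.node 1 (.leaf 139) (.node 1 (.leaf 906) (.leaf 186))) (.node 2 (.node 1 (.leaf 1337) (.leaf 1318)) (.node 1 (.leaf 167) (.leaf 1274)))))) (.node 14 (.node 7 (.node 3 (.node 1 (.leaf 1720) (.node 1 (.leaf 768) (.leaf 604))) (.node 2 (.node 1 (.leaf 517) (.leaf 102)) (.node 1 (.leaf 417) (.leaf 176)))) (.node 3 (.node 1 (.leaf 911) (.node 1 (.leaf 1589) (.leaf 995))) (.node 2 (.node 1 (.leaf 894) (.leaf 1641)) (.node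 1 (.leaf 1754) (.leaf 1571))))) (.node 7 (.node 3 (.node 1 (.leaf 992) (.node 1 (.leaf 124) (.leaf 116))) (.node 2 (.node 1 (.leaf 1569) (.leaf 1700)) (.node 1 (.leaf 593) (.leaf 1287)))) (.node 3 (.node 1 (.leaf 1020) (.node 1 (.leaf 1432) (.leaf 430))) (.node 2 (.node 1 (.leaf 989) (.leaf 1122)) (.node 1 (.leaf 1760) (.leaf 901))))))) (.node 28 (.node 14 (.node 7 (.node 3 (.node 1 (.leaf 410) (.node 1 (.leaf 308) (.leaf 1465))) (.node 2 (.node 1 (.leaf 130) (.leaf 1438)) (.node 1 (.leaf 1300) (.leaf 1315)))) (.node 3 (.node 1 (.leaf 457) (.node 1 (.leaf 1160) (.leaf 349))) (.node 2 (.node 1 (.leaf 1219) (.leaf 1174)) (.node 1 (.leaf 718) (.leaf 1440))))) (.node 7 (.node 3 (.node 1 (.leaf 386) (.node 1 (.leaf 584) (.leaf 1568))) (.node 2 (.node 1 (.leaf 363) (.leaf 848)) (.node 1 (.leaf 767) (.leaf 590)))) (.node 3 (.node 1 (.leaf 503) (.node 1 (.leaf 602) (.leaf 1286))) (.node 2 (.node 1 (.leaf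 459) (.leaf 787)) (.node 1 (.leaf 658) (.leaf 907)))))) (.node 14 (.node 7 (.node 3 (.node 1 (.leaf 1736) (.node 1 (.leaf 912) (.leaf 1014))) (.node 2 (.node 1 (.leaf 154) (.leaf 512)) (.node 1 (.leaf 1476) (.leaf 225)))) (.node 3 (.node 1 (.leaf 587) (.node 1 (.leaf 1199) (.leaf 204))) (.node 2 (.node 1 (.leaf 1551) (.leaf 368)) (.node 1 (.leaf 1485) (.leaf 179))))) (.node 7 (.node 3 (.node 1 (.leaf 643) (.node 1 (.leaf 1271) (.leaf 528))) (.node 2 (.node 1 (.leaf 1665) (.leaf 1761)) (.node 1 (.leaf 1415) (.leaf 81)))) (.node 3 (.node 1 (.leaf 669) (.node 1 (.leaf 234) (.leaf 733))) (.node 2 (.node 1 (.leaf 144) (.leaf 1535)) (.node 1 (.leaf 904) (.leaf 1235))))))))) (.node 111 (.node 55 (.node 27 (.node 13 (.node 6 (.node 3 (.node 1 (.leaf 1594) (.node 1 (.leaf 688) (.leaf 1698))) (.node 1 (.leaf 1577) (.node 1 (.leaf 1205) (.leaf 1495)))) (.node 3 (.node 1 (.leaf 775) (.node 1 (.leaf 1442)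 (.leaf 1251))) (.node 2 (.node 1 (.leaf 203) (.leaf 1293)) (.node 1 (.leaf 1745) (.leaf 1437))))) (.node 7 (.node 3 (.node 1 (.leaf 612) (.node 1 (.leaf 275) (.leaf 613))) (.node 2 (.node 1 (.leaf 653) (.leaf 1116)) (.node 1 (.leaf 609) (.leaf 155)))) (.node 3 (.node 1 (.leaf 603) (.node 1 (.leaf 1341) (.leaf 355))) (.node 2 (.node 1 (.leaf 747) (.leaf 497)) (.node 1 (.leaf 1037) (.leaf 1288)))))) (.node 14 (.node 7 (.node 3 (.node 1 (.leaf 576) (.node 1 (.leaf 1283) (.leaf 1573))) (.node 2 (.node 1 (.leaf 908) (.leaf 1649)) (.node 1 (.leaf 1138) (.leaf 1588)))) (.node 3 (.node 1 (.leaf 277) (.node 1 (.leaf 115) (.leaf 1504))) (.node 2 (.node 1 (.leaf 92) (.leaf 1201)) (.node 1 (.leaf 1464) (.leaf 147))))) (.node 7 (.node 3 (.node 1 (.leaf 1686) (.node 1 (.leaf 1159) (.leaf 507))) (.node 2 (.node 1 (.leaf 108) (.leaf 64)) (.node 1 (.leaf 693) (.leaf 382)))) (.node 3 (.node 1 (.leaf 878) (.node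 1 (.leaf 374) (.leaf 395))) (.node 2 (.node 1 (.leaf 1191) (.leaf 1298)) (.node 1 (.leaf 951) (.leaf 1769))))))) (.node 28 (.node 14 (.node 7 (.node 3 (.node 1 (.leaf 255) (.node 1 (.leaf 655) (.leaf 235))) (.node 2 (.node 1 (.leaf 1453) (.leaf 475)) (.node 1 (.leaf 254) (.leaf 665)))) (.node 3 (.node 1 (.leaf 283) (.node 1 (.leaf 867) (.leaf 1353))) (.node 2 (.node 1 (.leaf 265) (.leaf 212)) (.node 1 (.leaf 1220) (.leaf 1431))))) (.node 7 (.node 3 (.node 1 (.leaf 53) (.node 1 (.leaf 93) (.leaf 1278))) (.node 2 (.node 1 (.leaf 804) (.leaf 540)) (.node 1 (.leaf 1394) (.leaf 1503)))) (.node 3 (.node 1 (.leaf 1527) (.node 1 (.leaf 1644) (.leaf 1463))) (.node 2 (.node 1 (.leaf 984) (.leaf 1750)) (.node 1 (.leaf 228) (.leaf 146)))))) (.node 14 (.node 7 (.node 3 (.node 1 (.leaf 1179) (.node 1 (.leaf 1563) (.leaf 1017))) (.node 2 (.node 1 (.leaf 1264) (.leaf 1000)) (.node 1 (.leaf 967) (.leaf 296))))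 (.node 3 (.node 1 (.leaf 490) (.node 1 (.leaf 1384) (.leaf 789))) (.node 2 (.node 1 (.leaf 152) (.leaf 232)) (.node 1 (.leaf 690) (.leaf 695))))) (.node 7 (.node 3 (.node 1 (.leaf 644) (.node 1 (.leaf 32) (.leaf 498))) (.node 2 (.node 1 (.leaf 1190) (.leaf 1604)) (.node 1 (.leaf 1489) (.leaf 831)))) (.node 3 (.node 1 (.leaf 1229) (.node 1 (.leaf 1774) (.leaf 860))) (.node 2 (.node 1 (.leaf 357) (.leaf 1098)) (.node 1 (.leaf 1273) (.leaf 1178)))))))) (.node 56 (.node 28 (.node 14 (.node 7 (.node 3 (.node 1 (.leaf 1313) (.node 1 (.leaf 414) (.leaf 468))) (.node 2 (.node 1 (.leaf 1004) (.leaf 477)) (.node 1 (.leaf 384) (.leaf 206)))) (.node 3 (.node 1 (.leaf 1333) (.node 1 (.leaf 293) (.leaf 1312))) (.node 2 (.node 1 (.leaf 1289) (.leaf 160)) (.node 1 (.leaf 629) (.leaf 863))))) (.node 7 (.node 3 (.node 1 (.leaf 943) (.node 1 (.leaf 531) (.leaf 1269))) (.node 2 (.node 1 (.leaf 1695) (.leaf 1110))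 (.node 1 (.leaf 1083) (.leaf 1554)))) (.node 3 (.node 1 (.leaf 67) (.node 1 (.leaf 84) (.leaf 827))) (.node 2 (.node 1 (.leaf 106) (.leaf 1128)) (.node 1 (.leaf 1448) (.leaf 1521)))))) (.node 14 (.node 7 (.node 3 (.node 1 (.leaf 533) (.node 1 (.leaf 1142) (.leaf 1163))) (.node 2 (.node 1 (.leaf 1576) (.leaf 1566)) (.node 1 (.leaf 1600) (.leaf 1597)))) (.node 3 (.node 1 (.leaf 842) (.node 1 (.leaf 1514) (.leaf 1587))) (.node 2 (.node 1 (.leaf 1281) (.leaf 1217)) (.node 1 (.leaf 1738) (.leaf 1414))))) (.node 7 (.node 3 (.node 1 (.leaf 1567) (.node 1 (.leaf 1707) (.leaf 872))) (.node 2 (.node 1 (.leaf 1671) (.leaf 135)) (.node 1 (.leaf 1659) (.leaf 1657)))) (.node 3 (.node 1 (.leaf 1354) (.node 1 (.leaf 136) (.leaf 163))) (.node 2 (.node 1 (.leaf 788) (.leaf 141)) (.node 1 (.leaf 1676) (.leaf 1680))))))) (.node 28 (.node 14 (.node 7 (.node 3 (.node 1 (.leaf 437) (.node 1 (.leaf 1108) (.leaf 1645)))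 (.node 2 (.node 1 (.leaf 807) (.leaf 817)) (.node 1 (.leaf 96) (.leaf 325)))) (.node 3 (.node 1 (.leaf 48) (.node 1 (.leaf 570) (.leaf 1540))) (.node 2 (.node 1 (.leaf 724) (.leaf 183)) (.node 1 (.leaf 117) (.leaf 1221))))) (.node 7 (.node 3 (.node 1 (.leaf 1626) (.node 1 (.leaf 242) (.leaf 49))) (.node 2 (.node 1 (.leaf 1579) (.leaf 1305)) (.node 1 (.leaf 1266) (.leaf 1335)))) (.node 3 (.node 1 (.leaf 1542) (.node 1 (.leaf 780) (.leaf 987))) (.node 2 (.node 1 (.leaf 1593) (.leaf 429)) (.node 1 (.leaf 221) (.leaf 36)))))) (.node 14 (.node 7 (.node 3 (.node 1 (.leaf 375) (.node 1 (.leaf 1457) (.leaf 1501))) (.node 2 (.node 1 (.leaf 103) (.leaf 227)) (.node 1 (.leaf 1462) (.leaf 1512)))) (.node 3 (.node 1 (.leaf 961) (.node 1 (.leaf 433) (.leaf 1086))) (.node 2 (.node 1 (.leaf 558) (.leaf 471)) (.node 1 (.leaf 1487) (.leaf 1558))))) (.node 7 (.node 3 (.node 1 (.leaf 1629) (.node 1 (.leaf 1734)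 (.leaf 1690))) (.node 2 (.node 1 (.leaf 687) (.leaf 520)) (.node 1 (.leaf 715) (.leaf 112)))) (.node 3 (.node 1 (.leaf 192) (.node 1 (.leaf 72) (.leaf 1740))) (.node 2 (.node 1 (.leaf 1065) (.leaf 1066)) (.node 1 (.leaf 1342) (.leaf 798))))))))))) (.node 445 (.node 222 (.node 111 (.node 55 (.node 27 (.node 13 (.node 6 (.node 3 (.node 1 (.leaf 834) (.node 1 (.leaf 564) (.leaf 710))) (.node 1 (.leaf 443) (.node 1 (.leaf 1084) (.leaf 666)))) (.node 3 (.node 1 (.leaf 1307) (.node 1 (.leaf 1444) (.leaf 1616))) (.node 2 (.node 1 (.leaf 899) (.leaf 990)) (.node 1 (.leaf 542) (.leaf 1515))))) (.node 7 (.node 3 (.node 1 (.leaf 1327) (.node 1 (.leaf 1261) (.leaf 853))) (.node 2 (.node 1 (.leaf 127) (.leaf 1592)) (.node 1 (.leaf 1747) (.leaf 560)))) (.node 3 (.node 1 (.leaf 1212) (.node 1 (.leaf 1181) (.leaf 1100))) (.node 2 (.node 1 (.leaf 566) (.leaf 917)) (.node 1 (.leaf 549) (.leaf 1006)))))) (.node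 14 (.node 7 (.node 3 (.node 1 (.leaf 1708) (.node 1 (.leaf 342) (.leaf 131))) (.node 2 (.node 1 (.leaf 646) (.leaf 1541)) (.node 1 (.leaf 58) (.leaf 1640)))) (.node 3 (.node 1 (.leaf 9) (.node 1 (.leaf 1605) (.leaf 1378))) (.node 2 (.node 1 (.leaf 851) (.leaf 1067)) (.node 1 (.leaf 178) (.leaf 1702))))) (.node 7 (.node 3 (.node 1 (.leaf 379) (.node 1 (.leaf 1165) (.leaf 571))) (.node 2 (.node 1 (.leaf 736) (.leaf 97)) (.node 1 (.leaf 1474) (.leaf 1013)))) (.node 3 (.node 1 (.leaf 41) (.node 1 (.leaf 149) (.leaf 189))) (.node 2 (.node 1 (.leaf 1056) (.leaf 1421)) (.node 1 (.leaf 331) (.leaf 597))))))) (.node 28 (.node 14 (.node 7 (.node 3 (.node 1 (.leaf 1443) (.node 1 (.leaf 495) (.leaf 1317))) (.node 2 (.node 1 (.leaf 1392) (.leaf 548)) (.node 1 (.leaf 499) (.leaf 1705)))) (.node 3 (.node 1 (.leaf 1328) (.node 1 (.leaf 535) (.leaf 518))) (.node 2 (.node 1 (.leaf 1585) (.leaf 985)) (.node 1 (.leaf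 607) (.leaf 1366))))) (.node 7 (.node 3 (.node 1 (.leaf 79) (.node 1 (.leaf 474) (.leaf 428))) (.node 2 (.node 1 (.leaf 800) (.leaf 1136)) (.node 1 (.leaf 1739) (.leaf 1282)))) (.node 3 (.node 1 (.leaf 360) (.node 1 (.leaf 676) (.leaf 65))) (.node 2 (.node 1 (.leaf 1344) (.leaf 364)) (.node 1 (.leaf 1215) (.leaf 514)))))) (.node 14 (.node 7 (.node 3 (.node 1 (.leaf 1598) (.node 1 (.leaf 821) (.leaf 1623))) (.node 2 (.node 1 (.leaf 85) (.leaf 1467)) (.node 1 (.leaf 1419) (.leaf 636)))) (.node 3 (.node 1 (.leaf 240) (.node 1 (.leaf 889) (.leaf 948))) (.node 2 (.node 1 (.leaf 794) (.leaf 816)) (.node 1 (.leaf 1582) (.leaf 187))))) (.node 7 (.node 3 (.node 1 (.leaf 1365) (.node 1 (.leaf 1290) (.leaf 611))) (.node 2 (.node 1 (.leaf 466) (.leaf 776)) (.node 1 (.leaf 465) (.leaf 976)))) (.node 3 (.node 1 (.leaf 661) (.node 1 (.leaf 1543) (.leaf 526))) (.node 2 (.node 1 (.leaf 729) (.leaf 1662)) (.node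 1 (.leaf 983) (.leaf 977)))))))) (.node 55 (.node 27 (.node 13 (.node 6 (.node 3 (.node 1 (.leaf 513) (.node 1 (.leaf 703) (.leaf 779))) (.node 1 (.leaf 592) (.node 1 (.leaf 843) (.leaf 1345)))) (.node 3 (.node 1 (.leaf 1348) (.node 1 (.leaf 1658) (.leaf 1360))) (.node 2 (.node 1 (.leaf 1183) (.leaf 438)) (.node 1 (.leaf 455) (.leaf 76))))) (.node 7 (.node 3 (.node 1 (.leaf 21) (.node 1 (.leaf 1166) (.leaf 210))) (.node 2 (.node 1 (.leaf 1175) (.leaf 1556)) (.node 1 (.leaf 1525) (.leaf 1015)))) (.node 3 (.node 1 (.leaf 1643) (.node 1 (.leaf 802) (.leaf 1043))) (.node 2 (.node 1 (.leaf 7) (.leaf 1052)) (.node 1 (.leaf 50) (.leaf 877)))))) (.node 14 (.node 7 (.node 3 (.node 1 (.leaf 876) (.node 1 (.leaf 1677) (.leaf 1268))) (.node 2 (.node 1 (.leaf 426) (.leaf 101)) (.node 1 (.leaf 1210) (.leaf 1694)))) (.node 3 (.node 1 (.leaf 1301) (.node 1 (.leaf 1054) (.leaf 755))) (.node 2 (.node 1 (.leaf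 852) (.leaf 588)) (.node 1 (.leaf 1447) (.leaf 741))))) (.node 7 (.node 3 (.node 1 (.leaf 434) (.node 1 (.leaf 482) (.leaf 740))) (.node 2 (.node 1 (.leaf 903) (.leaf 567)) (.node 1 (.leaf 150) (.leaf 1162)))) (.node 3 (.node 1 (.leaf 792) (.node 1 (.leaf 1091) (.leaf 623))) (.node 2 (.node 1 (.leaf 13) (.leaf 744)) (.node 1 (.leaf 1018) (.leaf 143))))))) (.node 28 (.node 14 (.node 7 (.node 3 (.node 1 (.leaf 270) (.node 1 (.leaf 1744) (.leaf 1143))) (.node 2 (.node 1 (.leaf 1417) (.leaf 850)) (.node 1 (.leaf 37) (.leaf 1434)))) (.node 3 (.node 1 (.leaf 4) (.node 1 (.leaf 28) (.leaf 118))) (.node 2 (.node 1 (.leaf 244) (.leaf 786)) (.node 1 (.leaf 1131) (.leaf 1195))))) (.node 7 (.node 3 (.node 1 (.leaf 1725) (.node 1 (.leaf 699) (.leaf 478))) (.node 2 (.node 1 (.leaf 1428) (.leaf 1670)) (.node 1 (.leaf 1276) (.leaf 1538)))) (.node 3 (.node 1 (.leaf 1497) (.node 1 (.leaf 999) (.leaf 1412))) (.node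 2 (.node 1 (.leaf 1507) (.leaf 633)) (.node 1 (.leaf 756) (.leaf 598)))))) (.node 14 (.node 7 (.node 3 (.node 1 (.leaf 1549) (.node 1 (.leaf 1741) (.leaf 1277))) (.node 2 (.node 1 (.leaf 936) (.leaf 280)) (.node 1 (.leaf 423) (.leaf 320)))) (.node 3 (.node 1 (.leaf 1133) (.node 1 (.leaf 19) (.leaf 1399))) (.node 2 (.node 1 (.leaf 841) (.leaf 720)) (.node 1 (.leaf 1249) (.leaf 895))))) (.node 7 (.node 3 (.node 1 (.leaf 214) (.node 1 (.leaf 1727) (.leaf 930))) (.node 2 (.node 1 (.leaf 608) (.leaf 931)) (.node 1 (.leaf 1339) (.leaf 1023)))) (.node 3 (.node 1 (.leaf 1407) (.node 1 (.leaf 1513) (.leaf 1673))) (.node 2 (.node 1 (.leaf 737) (.leaf 193)) (.node 1 (.leaf 750) (.leaf 327))))))))) (.node 111 (.node 55 (.node 27 (.node 13 (.node 6 (.node 3 (.node 1 (.leaf 359) (.node 1 (.leaf 267) (.leaf 1253))) (.node 1 (.leaf 223) (.node 1 (.leaf 1206) (.leaf 1561)))) (.node 3 (.node 1 (.leaf 1320) (.node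 1 (.leaf 199) (.leaf 854))) (.node 2 (.node 1 (.leaf 900) (.leaf 14)) (.node 1 (.leaf 1105) (.leaf 523))))) (.node 7 (.node 3 (.node 1 (.leaf 1606) (.node 1 (.leaf 25) (.leaf 706))) (.node 2 (.node 1 (.leaf 1299) (.leaf 388)) (.node 1 (.leaf 380) (.leaf 1628)))) (.node 3 (.node 1 (.leaf 1591) (.node 1 (.leaf 1082) (.leaf 3))) (.node 2 (.node 1 (.leaf 339) (.leaf 949)) (.node 1 (.leaf 230) (.leaf 920)))))) (.node 14 (.node 7 (.node 3 (.node 1 (.leaf 1132) (.node 1 (.leaf 1372) (.leaf 39))) (.node 2 (.node 1 (.leaf 34) (.leaf 760)) (.node 1 (.leaf 26) (.leaf 217)))) (.node 3 (.node 1 (.leaf 1075) (.node 1 (.leaf 1184) (.leaf 1167))) (.node 2 (.node 1 (.leaf 1664) (.leaf 1200)) (.node 1 (.leaf 1070) (.leaf 1076))))) (.node 7 (.node 3 (.node 1 (.leaf 728) (.node 1 (.leaf 836) (.leaf 1146))) (.node 2 (.node 1 (.leaf 1053) (.leaf 1672)) (.node 1 (.leaf 1324) (.leaf 1706)))) (.node 3 (.node 1 (.leaf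 1430) (.node 1 (.leaf 12) (.leaf 329))) (.node 2 (.node 1 (.leaf 957) (.leaf 1590)) (.node 1 (.leaf 1652) (.leaf 1284))))))) (.node 28 (.node 14 (.node 7 (.node 3 (.node 1 (.leaf 18) (.node 1 (.leaf 945) (.leaf 1603))) (.node 2 (.node 1 (.leaf 1029) (.leaf 980)) (.node 1 (.leaf 1469) (.leaf 545)))) (.node 3 (.node 1 (.leaf 1391) (.node 1 (.leaf 1064) (.leaf 1710))) (.node 2 (.node 1 (.leaf 538) (.leaf 1031)) (.node 1 (.leaf 1275) (.leaf 1228))))) (.node 7 (.node 3 (.node 1 (.leaf 975) (.node 1 (.leaf 1684) (.leaf 1668))) (.node 2 (.node 1 (.leaf 745) (.leaf 219)) (.node 1 (.leaf 334) (.leaf 1636)))) (.node 3 (.node 1 (.leaf 66) (.node 1 (.leaf 445) (.leaf 778))) (.node 2 (.node 1 (.leaf 113) (.leaf 1666)) (.node 1 (.leaf 913) (.leaf 1044)))))) (.node 14 (.node 7 (.node 3 (.node 1 (.leaf 1382) (.node 1 (.leaf 1731) (.leaf 918))) (.node 2 (.node 1 (.leaf 44) (.leaf 845)) (.node 1 (.leaf 1045) (.leaf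 1375)))) (.node 3 (.node 1 (.leaf 813) (.node 1 (.leaf 1719) (.leaf 24))) (.node 2 (.node 1 (.leaf 328) (.leaf 839)) (.node 1 (.leaf 1400) (.leaf 105))))) (.node 7 (.node 3 (.node 1 (.leaf 418) (.node 1 (.leaf 1704) (.leaf 973))) (.node 2 (.node 1 (.leaf 925) (.leaf 1630)) (.node 1 (.leaf 121) (.leaf 1332)))) (.node 3 (.node 1 (.leaf 132) (.node 1 (.leaf 1080) (.leaf 1207))) (.node 2 (.node 1 (.leaf 35) (.leaf 1087)) (.node 1 (.leaf 1119) (.leaf 338)))))))) (.node 56 (.node 28 (.node 14 (.node 7 (.node 3 (.node 1 (.leaf 1478) (.node 1 (.leaf 871) (.leaf 1222))) (.node 2 (.node 1 (.leaf 367) (.leaf 1204)) (.node 1 (.leaf 159) (.leaf 1048)))) (.node 3 (.node 1 (.leaf 286) (.node 1 (.leaf 594) (.leaf 1481))) (.node 2 (.node 1 (.leaf 1255) (.leaf 823)) (.node 1 (.leaf 539) (.leaf 205))))) (.node 7 (.node 3 (.node 1 (.leaf 626) (.node 1 (.leaf 1285) (.leaf 998))) (.node 2 (.node 1 (.leaf 279) (.leaf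 801)) (.node 1 (.leaf 1145) (.leaf 1374)))) (.node 3 (.node 1 (.leaf 527) (.node 1 (.leaf 1574) (.leaf 1331))) (.node 2 (.node 1 (.leaf 970) (.leaf 346)) (.node 1 (.leaf 723) (.leaf 1140)))))) (.node 14 (.node 7 (.node 3 (.node 1 (.leaf 249) (.node 1 (.leaf 1584) (.leaf 231))) (.node 2 (.node 1 (.leaf 1696) (.leaf 1258)) (.node 1 (.leaf 982) (.leaf 1256)))) (.node 3 (.node 1 (.leaf 1319) (.node 1 (.leaf 323) (.leaf 1267))) (.node 2 (.node 1 (.leaf 372) (.leaf 1194)) (.node 1 (.leaf 1196) (.leaf 1002))))) (.node 7 (.node 3 (.node 1 (.leaf 966) (.node 1 (.leaf 698) (.leaf 1570))) (.node 2 (.node 1 (.leaf 935) (.leaf 1456)) (.node 1 (.leaf 1151) (.leaf 1208)))) (.node 3 (.node 1 (.leaf 1170) (.node 1 (.leaf 1322) (.leaf 89))) (.node 2 (.node 1 (.leaf 1518) (.leaf 1309)) (.node 1 (.leaf 258) (.leaf 27))))))) (.node 28 (.node 14 (.node 7 (.node 3 (.node 1 (.leaf 1081) (.node 1 (.leaf 622) (.leaf 1595)))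 (.node 2 (.node 1 (.leaf 578) (.leaf 838)) (.node 1 (.leaf 333) (.leaf 509)))) (.node 3 (.node 1 (.leaf 962) (.node 1 (.leaf 1436) (.leaf 401))) (.node 2 (.node 1 (.leaf 200) (.leaf 1262)) (.node 1 (.leaf 621) (.leaf 151))))) (.node 7 (.node 3 (.node 1 (.leaf 969) (.node 1 (.leaf 1177) (.leaf 1186))) (.node 2 (.node 1 (.leaf 1334) (.leaf 1216)) (.node 1 (.leaf 1559) (.leaf 207)))) (.node 3 (.node 1 (.leaf 1526) (.node 1 (.leaf 1550) (.leaf 1321))) (.node 2 (.node 1 (.leaf 734) (.leaf 696)) (.node 1 (.leaf 793) (.leaf 313)))))) (.node 14 (.node 7 (.node 3 (.node 1 (.leaf 1367) (.node 1 (.leaf 630) (.leaf 875))) (.node 2 (.node 1 (.leaf 272) (.leaf 1539)) (.node 1 (.leaf 618) (.leaf 400)))) (.node 3 (.node 1 (.leaf 782) (.node 1 (.leaf 1227) (.leaf 1038))) (.node 2 (.node 1 (.leaf 1699) (.leaf 273)) (.node 1 (.leaf 926) (.leaf 310))))) (.node 7 (.node 3 (.node 1 (.leaf 1433) (.node 1 (.leaf 910)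 (.leaf 819))) (.node 2 (.node 1 (.leaf 491) (.leaf 209)) (.node 1 (.leaf 1451) (.leaf 1232)))) (.node 3 (.node 1 (.leaf 181) (.node 1 (.leaf 314) (.leaf 1257))) (.node 2 (.node 1 (.leaf 1624) (.leaf 432)) (.node 1 (.leaf 435) (.leaf 387)))))))))) (.node 223 (.node 111 (.node 55 (.node 27 (.node 13 (.node 6 (.node 3 (.node 1 (.leaf 933) (.node 1 (.leaf 292) (.leaf 1363))) (.node 1 (.leaf 1248) (.node 1 (.leaf 239) (.leaf 197)))) (.node 3 (.node 1 (.leaf 1247) (.node 1 (.leaf 128) (.leaf 1762))) (.node 2 (.node 1 (.leaf 1650) (.leaf 319)) (.node 1 (.leaf 784) (.leaf 213))))) (.node 7 (.node 3 (.node 1 (.leaf 790) (.node 1 (.leaf 1197) (.leaf 958))) (.node 2 (.node 1 (.leaf 202) (.leaf 166)) (.node 1 (.leaf 1537) (.leaf 1654)))) (.node 3 (.node 1 (.leaf 826) (.node 1 (.leaf 1709) (.leaf 1074))) (.node 2 (.node 1 (.leaf 1022) (.leaf 1653)) (.node 1 (.leaf 1642) (.leaf 1723)))))) (.node 14 (.node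 7 (.node 3 (.node 1 (.leaf 1461) (.node 1 (.leaf 1026) (.leaf 988))) (.node 2 (.node 1 (.leaf 1575) (.leaf 1468)) (.node 1 (.leaf 1742) (.leaf 253)))) (.node 3 (.node 1 (.leaf 1356) (.node 1 (.leaf 1427) (.leaf 23))) (.node 2 (.node 1 (.leaf 377) (.leaf 425)) (.node 1 (.leaf 1381) (.leaf 799))))) (.node 7 (.node 3 (.node 1 (.leaf 1270) (.node 1 (.leaf 1611) (.leaf 730))) (.node 2 (.node 1 (.leaf 1150) (.leaf 422)) (.node 1 (.leaf 1118) (.leaf 752)))) (.node 3 (.node 1 (.leaf 1681) (.node 1 (.leaf 337) (.leaf 1063))) (.node 2 (.node 1 (.leaf 1099) (.leaf 595)) (.node 1 (.leaf 33) (.leaf 811))))))) (.node 28 (.node 14 (.node 7 (.node 3 (.node 1 (.leaf 1368) (.node 1 (.leaf 1383) (.leaf 559))) (.node 2 (.node 1 (.leaf 1522) (.leaf 561)) (.node 1 (.leaf 170) (.leaf 865)))) (.node 3 (.node 1 (.leaf 771) (.node 1 (.leaf 287) (.leaf 389))) (.node 2 (.node 1 (.leaf 247) (.leaf 1032)) (.node 1 (.leaf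 1135) (.leaf 1519))))) (.node 7 (.node 3 (.node 1 (.leaf 691) (.node 1 (.leaf 54) (.leaf 185))) (.node 2 (.node 1 (.leaf 361) (.leaf 738)) (.node 1 (.leaf 1490) (.leaf 1565)))) (.node 3 (.node 1 (.leaf 1323) (.node 1 (.leaf 743) (.leaf 1202))) (.node 2 (.node 1 (.leaf 59) (.leaf 974)) (.node 1 (.leaf 43) (.leaf 391)))))) (.node 14 (.node 7 (.node 3 (.node 1 (.leaf 370) (.node 1 (.leaf 1529) (.leaf 483))) (.node 2 (.node 1 (.leaf 301) (.leaf 330)) (.node 1 (.leaf 1767) (.leaf 806)))) (.node 3 (.node 1 (.leaf 336) (.node 1 (.leaf 1596) (.leaf 1770))) (.node 2 (.node 1 (.leaf 366) (.leaf 1171)) (.node 1 (.leaf 1714) (.leaf 1713))))) (.node 7 (.node 3 (.node 1 (.leaf 1245) (.node 1 (.leaf 1244) (.leaf 589))) (.node 2 (.node 1 (.leaf 1458) (.leaf 508)) (.node 1 (.leaf 61) (.leaf 914)))) (.node 3 (.node 1 (.leaf 1155) (.node 1 (.leaf 1446) (.leaf 1726))) (.node 2 (.node 1 (.leaf 161) (.leaf 365)) (.node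 1 (.leaf 1338) (.leaf 307)))))))) (.node 56 (.node 28 (.node 14 (.node 7 (.node 3 (.node 1 (.leaf 652) (.node 1 (.leaf 1477) (.leaf 586))) (.node 2 (.node 1 (.leaf 1617) (.leaf 481)) (.node 1 (.leaf 610) (.leaf 651)))) (.node 3 (.node 1 (.leaf 719) (.node 1 (.leaf 1027) (.leaf 1388))) (.node 2 (.node 1 (.leaf 1134) (.leaf 1534)) (.node 1 (.leaf 198) (.leaf 47))))) (.node 7 (.node 3 (.node 1 (.leaf 1697) (.node 1 (.leaf 172) (.leaf 1484))) (.node 2 (.node 1 (.leaf 1308) (.leaf 316)) (.node 1 (.leaf 761) (.leaf 73)))) (.node 3 (.node 1 (.leaf 405) (.node 1 (.leaf 208) (.leaf 1016))) (.node 2 (.node 1 (.leaf 640) (.leaf 442)) (.node 1 (.leaf 1019) (.leaf 46)))))) (.node 14 (.node 7 (.node 3 (.node 1 (.leaf 1355) (.node 1 (.leaf 266) (.leaf 1046))) (.node 2 (.node 1 (.leaf 479) (.leaf 694)) (.node 1 (.leaf 861) (.leaf 8)))) (.node 3 (.node 1 (.leaf 1336) (.node 1 (.leaf 751) (.leaf 620))) (.node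 2 (.node 1 (.leaf 460) (.leaf 1164)) (.node 1 (.leaf 606) (.leaf 1669))))) (.node 7 (.node 3 (.node 1 (.leaf 345) (.node 1 (.leaf 83) (.leaf 1361))) (.node 2 (.node 1 (.leaf 677) (.leaf 1062)) (.node 1 (.leaf 1172) (.leaf 488)))) (.node 3 (.node 1 (.leaf 565) (.node 1 (.leaf 1078) (.leaf 1358))) (.node 2 (.node 1 (.leaf 956) (.leaf 1057)) (.node 1 (.leaf 1499) (.leaf 162))))))) (.node 28 (.node 14 (.node 7 (.node 3 (.node 1 (.leaf 1475) (.node 1 (.leaf 1764) (.leaf 5))) (.node 2 (.node 1 (.leaf 1025) (.leaf 891)) (.node 1 (.leaf 1517) (.leaf 1390)))) (.node 3 (.node 1 (.leaf 705) (.node 1 (.leaf 591) (.leaf 2))) (.node 2 (.node 1 (.leaf 675) (.leaf 504)) (.node 1 (.leaf 805) (.leaf 708))))) (.node 7 (.node 3 (.node 1 (.leaf 759) (.node 1 (.leaf 1638) (.leaf 216))) (.node 2 (.node 1 (.leaf 1721) (.leaf 1350)) (.node 1 (.leaf 704) (.leaf 577)))) (.node 3 (.node 1 (.leaf 1010) (.node 1 (.leaf 959)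 (.leaf 1028))) (.node 2 (.node 1 (.leaf 714) (.leaf 281)) (.node 1 (.leaf 126) (.leaf 923)))))) (.node 14 (.node 7 (.node 3 (.node 1 (.leaf 1691) (.node 1 (.leaf 340) (.leaf 1393))) (.node 2 (.node 1 (.leaf 1479) (.leaf 552)) (.node 1 (.leaf 569) (.leaf 722)))) (.node 3 (.node 1 (.leaf 1185) (.node 1 (.leaf 1398) (.leaf 1732))) (.node 2 (.node 1 (.leaf 148) (.leaf 1047)) (.node 1 (.leaf 1648) (.leaf 1423))))) (.node 7 (.node 3 (.node 1 (.leaf 828) (.node 1 (.leaf 1069) (.leaf 224))) (.node 2 (.node 1 (.leaf 373) (.leaf 289)) (.node 1 (.leaf 1552) (.leaf 369)))) (.node 3 (.node 1 (.leaf 844) (.node 1 (.leaf 1147) (.leaf 1379))) (.node 2 (.node 1 (.leaf 1346) (.leaf 1380)) (.node 1 (.leaf 1494) (.leaf 1161))))))))) (.node 111 (.node 55 (.node 27 (.node 13 (.node 6 (.node 3 (.node 1 (.leaf 326) (.node 1 (.leaf 446) (.leaf 754))) (.node 1 (.leaf 1547) (.node 1 (.leaf 1137) (.leaf 1389)))) (.node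 3 (.node 1 (.leaf 157) (.node 1 (.leaf 1373) (.leaf 873))) (.node 2 (.node 1 (.leaf 1470) (.leaf 31)) (.node 1 (.leaf 1483) (.leaf 881))))) (.node 7 (.node 3 (.node 1 (.leaf 1279) (.node 1 (.leaf 404) (.leaf 243))) (.node 2 (.node 1 (.leaf 605) (.leaf 57)) (.node 1 (.leaf 6) (.leaf 1192)))) (.node 3 (.node 1 (.leaf 1416) (.node 1 (.leaf 1751) (.leaf 1112))) (.node 2 (.node 1 (.leaf 679) (.leaf 615)) (.node 1 (.leaf 1615) (.leaf 1397)))))) (.node 14 (.node 7 (.node 3 (.node 1 (.leaf 88) (.node 1 (.leaf 1486) (.leaf 1619))) (.node 2 (.node 1 (.leaf 638) (.leaf 1682)) (.node 1 (.leaf 727) (.leaf 905)))) (.node 3 (.node 1 (.leaf 1129) (.node 1 (.leaf 462) (.leaf 1121))) (.node 2 (.node 1 (.leaf 1722) (.leaf 927)) (.node 1 (.leaf 1039) (.leaf 1125))))) (.node 7 (.node 3 (.node 1 (.leaf 63) (.node 1 (.leaf 1092) (.leaf 554))) (.node 2 (.node 1 (.leaf 837) (.leaf 56)) (.node 1 (.leaf 1226) (.leaf 288))))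 (.node 3 (.node 1 (.leaf 713) (.node 1 (.leaf 145) (.leaf 1130))) (.node 2 (.node 1 (.leaf 1703) (.leaf 1203)) (.node 1 (.leaf 840) (.leaf 441))))))) (.node 28 (.node 14 (.node 7 (.node 3 (.node 1 (.leaf 1395) (.node 1 (.leaf 1625) (.leaf 686))) (.node 2 (.node 1 (.leaf 581) (.leaf 1396)) (.node 1 (.leaf 909) (.leaf 138)))) (.node 3 (.node 1 (.leaf 294) (.node 1 (.leaf 634) (.leaf 1234))) (.node 2 (.node 1 (.leaf 1096) (.leaf 1746)) (.node 1 (.leaf 1351) (.leaf 1452))))) (.node 7 (.node 3 (.node 1 (.leaf 968) (.node 1 (.leaf 1036) (.leaf 1103))) (.node 2 (.node 1 (.leaf 996) (.leaf 91)) (.node 1 (.leaf 1716) (.leaf 335)))) (.node 3 (.node 1 (.leaf 1152) (.node 1 (.leaf 1370) (.leaf 1766))) (.node 2 (.node 1 (.leaf 573) (.leaf 473)) (.node 1 (.leaf 986) (.leaf 1377)))))) (.node 14 (.node 7 (.node 3 (.node 1 (.leaf 1011) (.node 1 (.leaf 1647) (.leaf 1646))) (.node 2 (.node 1 (.leaf 777) (.leaf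 1077)) (.node 1 (.leaf 709) (.leaf 1030)))) (.node 3 (.node 1 (.leaf 1007) (.node 1 (.leaf 1072) (.leaf 1730))) (.node 2 (.node 1 (.leaf 628) (.leaf 1009)) (.node 1 (.leaf 1413) (.leaf 1445))))) (.node 7 (.node 3 (.node 1 (.leaf 1651) (.node 1 (.leaf 1124) (.leaf 1524))) (.node 2 (.node 1 (.leaf 1188) (.leaf 1371)) (.node 1 (.leaf 238) (.leaf 1079)))) (.node 3 (.node 1 (.leaf 553) (.node 1 (.leaf 1473) (.leaf 306))) (.node 2 (.node 1 (.leaf 245) (.leaf 222)) (.node 1 (.leaf 1148) (.leaf 10)))))))) (.node 56 (.node 28 (.node 14 (.node 7 (.node 3 (.node 1 (.leaf 783) (.node 1 (.leaf 80) (.leaf 107))) (.node 2 (.node 1 (.leaf 625) (.leaf 341)) (.node 1 (.leaf 716) (.leaf 220)))) (.node 3 (.node 1 (.leaf 1631) (.node 1 (.leaf 55) (.leaf 627))) (.node 2 (.node 1 (.leaf 1280) (.leaf 515)) (.node 1 (.leaf 1482) (.leaf 211))))) (.node 7 (.node 3 (.node 1 (.leaf 1491) (.node 1 (.leaf 1187) (.leaf 1359)))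 (.node 2 (.node 1 (.leaf 1660) (.leaf 822)) (.node 1 (.leaf 1127) (.leaf 354)))) (.node 3 (.node 1 (.leaf 494) (.node 1 (.leaf 932) (.leaf 774))) (.node 2 (.node 1 (.leaf 256) (.leaf 94)) (.node 1 (.leaf 994) (.leaf 1655)))))) (.node 14 (.node 7 (.node 3 (.node 1 (.leaf 467) (.node 1 (.leaf 129) (.leaf 1422))) (.node 2 (.node 1 (.leaf 1102) (.leaf 298)) (.node 1 (.leaf 431) (.leaf 1198)))) (.node 3 (.node 1 (.leaf 104) (.node 1 (.leaf 746) (.leaf 1295))) (.node 2 (.node 1 (.leaf 424) (.leaf 1362)) (.node 1 (.leaf 1688) (.leaf 1663))))) (.node 7 (.node 3 (.node 1 (.leaf 1528) (.node 1 (.leaf 1310) (.leaf 795))) (.node 2 (.node 1 (.leaf 830) (.leaf 1357)) (.node 1 (.leaf 1620) (.leaf 862)))) (.node 3 (.node 1 (.leaf 641) (.node 1 (.leaf 1560) (.leaf 299))) (.node 2 (.node 1 (.leaf 1687) (.leaf 1633)) (.node 1 (.leaf 866) (.leaf 248))))))) (.node 28 (.node 14 (.node 7 (.node 3 (.node 1 (.leaf 519)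 (.node 1 (.leaf 572) (.leaf 75))) (.node 2 (.node 1 (.leaf 322) (.leaf 1656)) (.node 1 (.leaf 1425) (.leaf 1302)))) (.node 3 (.node 1 (.leaf 1418) (.node 1 (.leaf 1408) (.leaf 762))) (.node 2 (.node 1 (.leaf 546) (.leaf 297)) (.node 1 (.leaf 893) (.leaf 142))))) (.node 7 (.node 3 (.node 1 (.leaf 20) (.node 1 (.leaf 667) (.leaf 1055))) (.node 2 (.node 1 (.leaf 15) (.leaf 40)) (.node 1 (.leaf 924) (.leaf 1115)))) (.node 3 (.node 1 (.leaf 1753) (.node 1 (.leaf 803) (.leaf 1749))) (.node 2 (.node 1 (.leaf 98) (.leaf 250)) (.node 1 (.leaf 11) (.leaf 701)))))) (.node 14 (.node 7 (.node 3 (.node 1 (.leaf 229) (.node 1 (.leaf 95) (.leaf 188))) (.node 2 (.node 1 (.leaf 409) (.leaf 1757)) (.node 1 (.leaf 305) (.leaf 1459)))) (.node 3 (.node 1 (.leaf 1005) (.node 1 (.leaf 1104) (.leaf 1471))) (.node 2 (.node 1 (.leaf 742) (.leaf 1498)) (.node 1 (.leaf 351) (.leaf 1424))))) (.node 7 (.node 3 (.node 1 (.leaf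 1496) (.node 1 (.leaf 1545) (.leaf 1765))) (.node 2 (.node 1 (.leaf 712) (.leaf 1772)) (.node 1 (.leaf 344) (.leaf 511)))) (.node 3 (.node 1 (.leaf 600) (.node 1 (.leaf 960) (.leaf 1756))) (.node 2 (.node 1 (.leaf 218) (.leaf 60)) (.node 1 (.leaf 303) (.leaf 847))))))))))))

/-- A graph automorphism outside the group. -/
def sigTab : Tab :=
  (.node 891 (.node 445 (.node 222 (.node 111 (.node 55 (.node 27 (.node 13 (.node 6 (.node 3 (.node 1 (.leaf 0) (.node 1 (.leaf 1024) (.leaf 479))) (.node 1 (.leaf 1443) (.node 1 (.leaf 1289) (.leaf 1604)))) (.node 3 (.node 1 (.leaf 220) (.node 1 (.leaf 247) (.leaf 1488))) (.node 2 (.node 1 (.leaf 790) (.leaf 1168)) (.node 1 (.leaf 1703) (.leaf 541))))) (.node 7 (.node 3 (.node 1 (.leaf 810) (.node 1 (.leaf 1481) (.leaf 700))) (.node 2 (.node 1 (.leaf 547) (.leaf 42)) (.node 1 (.leaf 556) (.leaf 1372)))) (.node 3 (.node 1 (.leaf 1539) (.node 1 (.leaf 493)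 (.leaf 1124))) (.node 2 (.node 1 (.leaf 1294) (.leaf 336)) (.node 1 (.leaf 262) (.leaf 881)))))) (.node 14 (.node 7 (.node 3 (.node 1 (.leaf 678) (.node 1 (.leaf 1047) (.leaf 434))) (.node 2 (.node 1 (.leaf 825) (.leaf 113)) (.node 1 (.leaf 829) (.leaf 440)))) (.node 3 (.node 1 (.leaf 1144) (.node 1 (.leaf 1174) (.leaf 1545))) (.node 2 (.node 1 (.leaf 844) (.leaf 1537)) (.node 1 (.leaf 1026) (.leaf 1546))))) (.node 7 (.node 3 (.node 1 (.leaf 171) (.node 1 (.leaf 17) (.leaf 1053))) (.node 2 (.node 1 (.leaf 339) (.leaf 54)) (.node 1 (.leaf 537) (.leaf 697)))) (.node 3 (.node 1 (.leaf 1480) (.node 1 (.leaf 945) (.leaf 811))) (.node 2 (.node 1 (.leaf 246) (.leaf 1043)) (.node 1 (.leaf 175) (.leaf 45))))))) (.node 28 (.node 14 (.node 7 (.node 3 (.node 1 (.leaf 380) (.node 1 (.leaf 1403) (.leaf 801))) (.node 2 (.node 1 (.leaf 1333) (.leaf 831)) (.node 1 (.leaf 1216) (.leaf 921)))) (.node 3 (.node 1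 (.leaf 1490) (.node 1 (.leaf 503) (.leaf 631))) (.node 2 (.node 1 (.leaf 738) (.leaf 832)) (.node 1 (.leaf 75) (.leaf 1347))))) (.node 7 (.node 3 (.node 1 (.leaf 163) (.node 1 (.leaf 111) (.leaf 134))) (.node 2 (.node 1 (.leaf 1102) (.leaf 1085)) (.node 1 (.leaf 371) (.leaf 67)))) (.node 3 (.node 1 (.leaf 128) (.node 1 (.leaf 120) (.leaf 136))) (.node 2 (.node 1 (.leaf 1616) (.leaf 1171)) (.node 1 (.leaf 1615) (.leaf 1234)))))) (.node 14 (.node 7 (.node 3 (.node 1 (.leaf 692) (.node 1 (.leaf 1060) (.leaf 967))) (.node 2 (.node 1 (.leaf 1502) (.leaf 87)) (.node 1 (.leaf 88) (.leaf 1428)))) (.node 3 (.node 1 (.leaf 802) (.node 1 (.leaf 715) (.leaf 1420))) (.node 2 (.node 1 (.leaf 529) (.leaf 1186)) (.node 1 (.leaf 635) (.leaf 1152))))) (.node 7 (.node 3 (.node 1 (.leaf 1399) (.node 1 (.leaf 1712) (.leaf 1247))) (.node 2 (.node 1 (.leaf 1369) (.leaf 705)) (.node 1 (.leaf 486) (.leaf 444)))) (.node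 3 (.node 1 (.leaf 733) (.node 1 (.leaf 1657) (.leaf 106))) (.node 2 (.node 1 (.leaf 107) (.leaf 183)) (.node 1 (.leaf 1749) (.leaf 141)))))))) (.node 55 (.node 27 (.node 13 (.node 6 (.node 3 (.node 1 (.leaf 70) (.node 1 (.leaf 1226) (.leaf 31))) (.node 1 (.leaf 241) (.node 1 (.leaf 634) (.leaf 1305)))) (.node 3 (.node 1 (.leaf 184) (.node 1 (.leaf 1609) (.leaf 164))) (.node 2 (.node 1 (.leaf 77) (.leaf 1594)) (.node 1 (.leaf 757) (.leaf 211))))) (.node 7 (.node 3 (.node 1 (.leaf 384) (.node 1 (.leaf 578) (.leaf 866))) (.node 2 (.node 1 (.leaf 1422) (.leaf 76)) (.node 1 (.leaf 1261) (.leaf 130)))) (.node 3 (.node 1 (.leaf 418) (.node 1 (.leaf 902) (.leaf 1126))) (.node 2 (.node 1 (.leaf 71) (.leaf 402)) (.node 1 (.leaf 78) (.leaf 190)))))) (.node 14 (.node 7 (.node 3 (.node 1 (.leaf 1416) (.node 1 (.leaf 1134) (.leaf 1217))) (.node 2 (.node 1 (.leaf 110) (.leaf 1297)) (.node 1 (.leaf 1533) (.leaf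 1743)))) (.node 3 (.node 1 (.leaf 1360) (.node 1 (.leaf 146) (.leaf 1438))) (.node 2 (.node 1 (.leaf 918) (.leaf 362)) (.node 1 (.leaf 1284) (.leaf 842))))) (.node 7 (.node 3 (.node 1 (.leaf 654) (.node 1 (.leaf 501) (.leaf 775))) (.node 2 (.node 1 (.leaf 466) (.leaf 575)) (.node 1 (.leaf 1558) (.leaf 798)))) (.node 3 (.node 1 (.leaf 170) (.node 1 (.leaf 672) (.leaf 376))) (.node 2 (.node 1 (.leaf 285) (.leaf 69)) (.node 1 (.leaf 119) (.leaf 986))))))) (.node 28 (.node 14 (.node 7 (.node 3 (.node 1 (.leaf 488) (.node 1 (.leaf 863) (.leaf 1715))) (.node 2 (.node 1 (.leaf 1772) (.leaf 159)) (.node 1 (.leaf 41) (.leaf 273)))) (.node 3 (.node 1 (.leaf 1008) (.node 1 (.leaf 329) (.leaf 53))) (.node 2 (.node 1 (.leaf 1115) (.leaf 1122)) (.node 1 (.leaf 702) (.leaf 396))))) (.node 7 (.node 3 (.node 1 (.leaf 1254) (.node 1 (.leaf 320) (.leaf 830))) (.node 2 (.node 1 (.leaf 108) (.leaf 117)) (.node 1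 (.leaf 1648) (.leaf 1050)))) (.node 3 (.node 1 (.leaf 1563) (.node 1 (.leaf 409) (.leaf 1474))) (.node 2 (.node 1 (.leaf 137) (.leaf 284)) (.node 1 (.leaf 1119) (.leaf 1516)))))) (.node 14 (.node 7 (.node 3 (.node 1 (.leaf 1290) (.node 1 (.leaf 1320) (.leaf 433))) (.node 2 (.node 1 (.leaf 993) (.leaf 1313)) (.node 1 (.leaf 438) (.leaf 304)))) (.node 3 (.node 1 (.leaf 1303) (.node 1 (.leaf 358) (.leaf 1750))) (.node 2 (.node 1 (.leaf 280) (.leaf 1696)) (.node 1 (.leaf 507) (.leaf 1729))))) (.node 7 (.node 3 (.node 1 (.leaf 208) (.node 1 (.leaf 1023) (.leaf 1554))) (.node 2 (.node 1 (.leaf 123) (.leaf 1661)) (.node 1 (.leaf 914) (.leaf 1028)))) (.node 3 (.node 1 (.leaf 1406) (.node 1 (.leaf 1207) (.leaf 1302))) (.node 2 (.node 1 (.leaf 218) (.leaf 500)) (.node 1 (.leaf 6) (.leaf 1279))))))))) (.node 111 (.node 55 (.node 27 (.node 13 (.node 6 (.node 3 (.node 1 (.leaf 533) (.node 1 (.leaf 313) (.leaf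 1211))) (.node 1 (.leaf 1110) (.node 1 (.leaf 612) (.leaf 625)))) (.node 3 (.node 1 (.leaf 1257) (.node 1 (.leaf 1658) (.leaf 1162))) (.node 2 (.node 1 (.leaf 681) (.leaf 1306)) (.node 1 (.leaf 896) (.leaf 234))))) (.node 7 (.node 3 (.node 1 (.leaf 893) (.node 1 (.leaf 1711) (.leaf 1327))) (.node 2 (.node 1 (.leaf 1252) (.leaf 1352)) (.node 1 (.leaf 240) (.leaf 114)))) (.node 3 (.node 1 (.leaf 1498) (.node 1 (.leaf 1521) (.leaf 377))) (.node 2 (.node 1 (.leaf 245) (.leaf 51)) (.node 1 (.leaf 7) (.leaf 637)))))) (.node 14 (.node 7 (.node 3 (.node 1 (.leaf 356) (.node 1 (.leaf 250) (.leaf 251))) (.node 2 (.node 1 (.leaf 734) (.leaf 1304)) (.node 1 (.leaf 794) (.leaf 1722)))) (.node 3 (.node 1 (.leaf 256) (.node 1 (.leaf 1767) (.leaf 1525))) (.node 2 (.node 1 (.leaf 1683) (.leaf 1771)) (.node 1 (.leaf 452) (.leaf 25))))) (.node 7 (.node 3 (.node 1 (.leaf 994) (.node 1 (.leaf 1300) (.leaf 268)))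 (.node 2 (.node 1 (.leaf 1088) (.leaf 971)) (.node 1 (.leaf 265) (.leaf 487)))) (.node 3 (.node 1 (.leaf 1453) (.node 1 (.leaf 930) (.leaf 938))) (.node 2 (.node 1 (.leaf 172) (.leaf 1573)) (.node 1 (.leaf 275) (.leaf 661))))))) (.node 28 (.node 14 (.node 7 (.node 3 (.node 1 (.leaf 972) (.node 1 (.leaf 516) (.leaf 512))) (.node 2 (.node 1 (.leaf 204) (.leaf 1773)) (.node 1 (.leaf 323) (.leaf 517)))) (.node 3 (.node 1 (.leaf 191) (.node 1 (.leaf 162) (.leaf 989))) (.node 2 (.node 1 (.leaf 770) (.leaf 588)) (.node 1 (.leaf 1389) (.leaf 1013))))) (.node 7 (.node 3 (.node 1 (.leaf 291) (.node 1 (.leaf 1575) (.leaf 1551))) (.node 2 (.node 1 (.leaf 310) (.leaf 1155)) (.node 1 (.leaf 579) (.leaf 1354)))) (.node 3 (.node 1 (.leaf 1761) (.node 1 (.leaf 367) (.leaf 766))) (.node 2 (.node 1 (.leaf 1003) (.leaf 963)) (.node 1 (.leaf 1283) (.leaf 200)))))) (.node 14 (.node 7 (.node 3 (.node 1 (.leaf 847)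 (.node 1 (.leaf 1544) (.leaf 940))) (.node 2 (.node 1 (.leaf 308) (.leaf 593)) (.node 1 (.leaf 294) (.leaf 1446)))) (.node 3 (.node 1 (.leaf 765) (.node 1 (.leaf 223) (.leaf 764))) (.node 2 (.node 1 (.leaf 436) (.leaf 451)) (.node 1 (.leaf 776) (.leaf 1341))))) (.node 7 (.node 3 (.node 1 (.leaf 1755) (.node 1 (.leaf 181) (.leaf 904))) (.node 2 (.node 1 (.leaf 997) (.leaf 282)) (.node 1 (.leaf 688) (.leaf 742)))) (.node 3 (.node 1 (.leaf 1412) (.node 1 (.leaf 1436) (.leaf 363))) (.node 2 (.node 1 (.leaf 174) (.leaf 1385)) (.node 1 (.leaf 1127) (.leaf 427)))))))) (.node 56 (.node 28 (.node 14 (.node 7 (.node 3 (.node 1 (.leaf 1036) (.node 1 (.leaf 571) (.leaf 1668))) (.node 2 (.node 1 (.leaf 24) (.leaf 1637)) (.node 1 (.leaf 1281) (.leaf 44)))) (.node 3 (.node 1 (.leaf 442) (.node 1 (.leaf 617) (.leaf 704))) (.node 2 (.node 1 (.leaf 476) (.leaf 1492)) (.node 1 (.leaf 1476) (.leaf 346))))) (.node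 7 (.node 3 (.node 1 (.leaf 347) (.node 1 (.leaf 1394) (.leaf 1044))) (.node 2 (.node 1 (.leaf 350) (.leaf 1665)) (.node 1 (.leaf 352) (.leaf 1346)))) (.node 3 (.node 1 (.leaf 1555) (.node 1 (.leaf 761) (.leaf 249))) (.node 2 (.node 1 (.leaf 763) (.leaf 202)) (.node 1 (.leaf 890) (.leaf 1113)))))) (.node 14 (.node 7 (.node 3 (.node 1 (.leaf 1374) (.node 1 (.leaf 149) (.leaf 328))) (.node 2 (.node 1 (.leaf 1441) (.leaf 414)) (.node 1 (.leaf 366) (.leaf 299)))) (.node 3 (.node 1 (.leaf 1032) (.node 1 (.leaf 1325) (.leaf 1731))) (.node 2 (.node 1 (.leaf 74) (.leaf 372)) (.node 1 (.leaf 1405) (.leaf 1159))))) (.node 7 (.node 3 (.node 1 (.leaf 505) (.node 1 (.leaf 161) (.leaf 244))) (.node 2 (.node 1 (.leaf 381) (.leaf 1421)) (.node 1 (.leaf 55) (.leaf 378)))) (.node 3 (.node 1 (.leaf 952) (.node 1 (.leaf 1148) (.leaf 124))) (.node 2 (.node 1 (.leaf 526) (.leaf 1719)) (.node 1 (.leaf 1392) (.leaf 1739)))))))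 (.node 28 (.node 14 (.node 7 (.node 3 (.node 1 (.leaf 1140) (.node 1 (.leaf 1189) (.leaf 504))) (.node 2 (.node 1 (.leaf 604) (.leaf 1424)) (.node 1 (.leaf 691) (.leaf 1631)))) (.node 3 (.node 1 (.leaf 179) (.node 1 (.leaf 1423) (.leaf 1361))) (.node 2 (.node 1 (.leaf 1500) (.leaf 609)) (.node 1 (.leaf 1059) (.leaf 135))))) (.node 7 (.node 3 (.node 1 (.leaf 574) (.node 1 (.leaf 1311) (.leaf 1212))) (.node 2 (.node 1 (.leaf 1451) (.leaf 958)) (.node 1 (.leaf 1253) (.leaf 188)))) (.node 3 (.node 1 (.leaf 1340) (.node 1 (.leaf 1114) (.leaf 669))) (.node 2 (.node 1 (.leaf 1084) (.leaf 365)) (.node 1 (.leaf 880) (.leaf 416)))))) (.node 14 (.node 7 (.node 3 (.node 1 (.leaf 1072) (.node 1 (.leaf 131) (.leaf 995))) (.node 2 (.node 1 (.leaf 1623) (.leaf 481)) (.node 1 (.leaf 837) (.leaf 737)))) (.node 3 (.node 1 (.leaf 1547) (.node 1 (.leaf 1675) (.leaf 562))) (.node 2 (.node 1 (.leaf 332) (.leaf 670))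 (.node 1 (.leaf 1535) (.leaf 870))))) (.node 7 (.node 3 (.node 1 (.leaf 796) (.node 1 (.leaf 1021) (.leaf 196))) (.node 2 (.node 1 (.leaf 29) (.leaf 1066)) (.node 1 (.leaf 315) (.leaf 1181)))) (.node 3 (.node 1 (.leaf 199) (.node 1 (.leaf 607) (.leaf 33))) (.node 2 (.node 1 (.leaf 1649) (.leaf 340)) (.node 1 (.leaf 443) (.leaf 103)))))))))) (.node 223 (.node 111 (.node 55 (.node 27 (.node 13 (.node 6 (.node 3 (.node 1 (.leaf 1518) (.node 1 (.leaf 1633) (.leaf 684))) (.node 1 (.leaf 641) (.node 1 (.leaf 642) (.leaf 926)))) (.node 3 (.node 1 (.leaf 316) (.node 1 (.leaf 261) (.leaf 666))) (.node 2 (.node 1 (.leaf 1669) (.leaf 1460)) (.node 1 (.leaf 1351) (.leaf 1330))))) (.node 7 (.node 3 (.node 1 (.leaf 838) (.node 1 (.leaf 1172) (.leaf 1491))) (.node 2 (.node 1 (.leaf 1098) (.leaf 1101)) (.node 1 (.leaf 1260) (.leaf 603)))) (.node 3 (.node 1 (.leaf 689) (.node 1 (.leaf 155) (.leaf 586))) (.node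 2 (.node 1 (.leaf 871) (.leaf 895)) (.node 1 (.leaf 653) (.leaf 962)))))) (.node 14 (.node 7 (.node 3 (.node 1 (.leaf 619) (.node 1 (.leaf 992) (.leaf 1626))) (.node 2 (.node 1 (.leaf 1310) (.leaf 343)) (.node 1 (.leaf 477) (.leaf 1073)))) (.node 3 (.node 1 (.leaf 2) (.node 1 (.leaf 1143) (.leaf 421))) (.node 2 (.node 1 (.leaf 1612) (.leaf 1735)) (.node 1 (.leaf 762) (.leaf 1007))))) (.node 7 (.node 3 (.node 1 (.leaf 102) (.node 1 (.leaf 269) (.leaf 166))) (.node 2 (.node 1 (.leaf 836) (.leaf 559)) (.node 1 (.leaf 1071) (.leaf 1015)))) (.node 3 (.node 1 (.leaf 21) (.node 1 (.leaf 1039) (.leaf 573))) (.node 2 (.node 1 (.leaf 939) (.leaf 818)) (.node 1 (.leaf 1163) (.leaf 1470))))))) (.node 28 (.node 14 (.node 7 (.node 3 (.node 1 (.leaf 219) (.node 1 (.leaf 153) (.leaf 1674))) (.node 2 (.node 1 (.leaf 63) (.leaf 391)) (.node 1 (.leaf 375) (.leaf 1077)))) (.node 3 (.node 1 (.leaf 206) (.node 1 (.leaf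 1479) (.leaf 1690))) (.node 2 (.node 1 (.leaf 720) (.leaf 1096)) (.node 1 (.leaf 279) (.leaf 990))))) (.node 7 (.node 3 (.node 1 (.leaf 1464) (.node 1 (.leaf 903) (.leaf 278))) (.node 2 (.node 1 (.leaf 283) (.leaf 1342)) (.node 1 (.leaf 1000) (.leaf 928)))) (.node 3 (.node 1 (.leaf 1524) (.node 1 (.leaf 522) (.leaf 1745))) (.node 2 (.node 1 (.leaf 982) (.leaf 525)) (.node 1 (.leaf 385) (.leaf 1454)))))) (.node 14 (.node 7 (.node 3 (.node 1 (.leaf 1744) (.node 1 (.leaf 93) (.leaf 1528))) (.node 2 (.node 1 (.leaf 1548) (.leaf 532)) (.node 1 (.leaf 222) (.leaf 534)))) (.node 3 (.node 1 (.leaf 535) (.node 1 (.leaf 976) (.leaf 46))) (.node 2 (.node 1 (.leaf 1245) (.leaf 819)) (.node 1 (.leaf 1652) (.leaf 12))))) (.node 7 (.node 3 (.node 1 (.leaf 1410) (.node 1 (.leaf 1440) (.leaf 1213))) (.node 2 (.node 1 (.leaf 808) (.leaf 546)) (.node 1 (.leaf 16) (.leaf 1628)))) (.node 3 (.node 1 (.leaf 713) (.node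 1 (.leaf 1051) (.leaf 1069))) (.node 2 (.node 1 (.leaf 1602) (.leaf 1056)) (.node 1 (.leaf 1240) (.leaf 664)))))))) (.node 56 (.node 28 (.node 14 (.node 7 (.node 3 (.node 1 (.leaf 18) (.node 1 (.leaf 839) (.leaf 865))) (.node 2 (.node 1 (.leaf 490) (.leaf 1129)) (.node 1 (.leaf 1371) (.leaf 426)))) (.node 3 (.node 1 (.leaf 563) (.node 1 (.leaf 1640) (.leaf 565))) (.node 2 (.node 1 (.leaf 1685) (.leaf 1506)) (.node 1 (.leaf 1725) (.leaf 1467))))) (.node 7 (.node 3 (.node 1 (.leaf 1646) (.node 1 (.leaf 334) (.leaf 630))) (.node 2 (.node 1 (.leaf 495) (.leaf 403)) (.node 1 (.leaf 156) (.leaf 1465)))) (.node 3 (.node 1 (.leaf 1457) (.node 1 (.leaf 125) (.leaf 296))) (.node 2 (.node 1 (.leaf 959) (.leaf 908)) (.node 1 (.leaf 792) (.leaf 719)))))) (.node 14 (.node 7 (.node 3 (.node 1 (.leaf 1709) (.node 1 (.leaf 1153) (.leaf 467))) (.node 2 (.node 1 (.leaf 730) (.leaf 288)) (.node 1 (.leaf 1650) (.leaf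 1746)))) (.node 3 (.node 1 (.leaf 1367) (.node 1 (.leaf 1630) (.leaf 309))) (.node 2 (.node 1 (.leaf 594) (.leaf 620)) (.node 1 (.leaf 1653) (.leaf 1243))))) (.node 7 (.node 3 (.node 1 (.leaf 1639) (.node 1 (.leaf 784) (.leaf 853))) (.node 2 (.node 1 (.leaf 1578) (.leaf 639)) (.node 1 (.leaf 464) (.leaf 392)))) (.node 3 (.node 1 (.leaf 739) (.node 1 (.leaf 1133) (.leaf 439))) (.node 2 (.node 1 (.leaf 1231) (.leaf 400)) (.node 1 (.leaf 782) (.leaf 1265))))))) (.node 28 (.node 14 (.node 7 (.node 3 (.node 1 (.leaf 226) (.node 1 (.leaf 613) (.leaf 695))) (.node 2 (.node 1 (.leaf 615) (.leaf 708)) (.node 1 (.leaf 341) (.leaf 1627)))) (.node 3 (.node 1 (.leaf 472) (.node 1 (.leaf 595) (.leaf 1195))) (.node 2 (.node 1 (.leaf 1404) (.leaf 1220)) (.node 1 (.leaf 1030) (.leaf 227))))) (.node 7 (.node 3 (.node 1 (.leaf 1204) (.node 1 (.leaf 1357) (.leaf 721))) (.node 2 (.node 1 (.leaf 1206) (.leaf 572))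 (.node 1 (.leaf 64) (.leaf 1625)))) (.node 3 (.node 1 (.leaf 1600) (.node 1 (.leaf 115) (.leaf 95))) (.node 2 (.node 1 (.leaf 1494) (.leaf 248)) (.node 1 (.leaf 931) (.leaf 602)))))) (.node 14 (.node 7 (.node 3 (.node 1 (.leaf 640) (.node 1 (.leaf 448) (.leaf 449))) (.node 2 (.node 1 (.leaf 674) (.leaf 1241)) (.node 1 (.leaf 1489) (.leaf 797)))) (.node 3 (.node 1 (.leaf 1379) (.node 1 (.leaf 964) (.leaf 1089))) (.node 2 (.node 1 (.leaf 787) (.leaf 1402)) (.node 1 (.leaf 1183) (.leaf 470))))) (.node 7 (.node 3 (.node 1 (.leaf 152) (.node 1 (.leaf 1682) (.leaf 1058))) (.node 2 (.node 1 (.leaf 1766) (.leaf 1702)) (.node 1 (.leaf 1398) (.leaf 1584)))) (.node 3 (.node 1 (.leaf 276) (.node 1 (.leaf 662) (.leaf 1705))) (.node 2 (.node 1 (.leaf 555) (.leaf 860)) (.node 1 (.leaf 453) (.leaf 872))))))))) (.node 111 (.node 55 (.node 27 (.node 13 (.node 6 (.node 3 (.node 1 (.leaf 1215) (.node 1 (.leaf 412)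 (.leaf 428))) (.node 1 (.leaf 833) (.node 1 (.leaf 160) (.leaf 732)))) (.node 3 (.node 1 (.leaf 643) (.node 1 (.leaf 1317) (.leaf 1208))) (.node 2 (.node 1 (.leaf 748) (.leaf 27)) (.node 1 (.leaf 1125) (.leaf 1458))))) (.node 7 (.node 3 (.node 1 (.leaf 231) (.node 1 (.leaf 682) (.leaf 683))) (.node 2 (.node 1 (.leaf 447) (.leaf 897)) (.node 1 (.leaf 1314) (.leaf 991)))) (.node 3 (.node 1 (.leaf 324) (.node 1 (.leaf 465) (.leaf 1466))) (.node 2 (.node 1 (.leaf 394) (.leaf 83)) (.node 1 (.leaf 1688) (.leaf 1581)))))) (.node 14 (.node 7 (.node 3 (.node 1 (.leaf 614) (.node 1 (.leaf 1780) (.leaf 47))) (.node 2 (.node 1 (.leaf 1617) (.leaf 1613)) (.node 1 (.leaf 15) (.leaf 909)))) (.node 3 (.node 1 (.leaf 178) (.node 1 (.leaf 1622) (.leaf 342))) (.node 2 (.node 1 (.leaf 101) (.leaf 706)) (.node 1 (.leaf 973) (.leaf 616))))) (.node 7 (.node 3 (.node 1 (.leaf 1611) (.node 1 (.leaf 717) (.leaf 785)))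 (.node 2 (.node 1 (.leaf 846) (.leaf 549)) (.node 1 (.leaf 1710) (.leaf 91)))) (.node 3 (.node 1 (.leaf 1386) (.node 1 (.leaf 710) (.leaf 1677))) (.node 2 (.node 1 (.leaf 583) (.leaf 510)) (.node 1 (.leaf 628) (.leaf 1718))))))) (.node 28 (.node 14 (.node 7 (.node 3 (.node 1 (.leaf 1596) (.node 1 (.leaf 1590) (.leaf 1738))) (.node 2 (.node 1 (.leaf 1057) (.leaf 1713)) (.node 1 (.leaf 984) (.leaf 774)))) (.node 3 (.node 1 (.leaf 587) (.node 1 (.leaf 1108) (.leaf 673))) (.node 2 (.node 1 (.leaf 104) (.leaf 252)) (.node 1 (.leaf 1052) (.leaf 795))))) (.node 7 (.node 3 (.node 1 (.leaf 423) (.node 1 (.leaf 65) (.leaf 605))) (.node 2 (.node 1 (.leaf 740) (.leaf 1166)) (.node 1 (.leaf 325) (.leaf 1355)))) (.node 3 (.node 1 (.leaf 1295) (.node 1 (.leaf 1006) (.leaf 1270))) (.node 2 (.node 1 (.leaf 1154) (.leaf 677)) (.node 1 (.leaf 1331) (.leaf 750)))))) (.node 14 (.node 7 (.node 3 (.node 1 (.leaf 1391)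 (.node 1 (.leaf 987) (.leaf 1376))) (.node 2 (.node 1 (.leaf 1507) (.leaf 1726)) (.node 1 (.leaf 977) (.leaf 122)))) (.node 3 (.node 1 (.leaf 1393) (.node 1 (.leaf 1448) (.leaf 1176))) (.node 2 (.node 1 (.leaf 355) (.leaf 484)) (.node 1 (.leaf 357) (.leaf 314))))) (.node 7 (.node 3 (.node 1 (.leaf 312) (.node 1 (.leaf 300) (.leaf 809))) (.node 2 (.node 1 (.leaf 1076) (.leaf 1505)) (.node 1 (.leaf 287) (.leaf 1415)))) (.node 3 (.node 1 (.leaf 1618) (.node 1 (.leaf 1332) (.leaf 729))) (.node 2 (.node 1 (.leaf 154) (.leaf 317)) (.node 1 (.leaf 1414) (.leaf 1322)))))))) (.node 56 (.node 28 (.node 14 (.node 7 (.node 3 (.node 1 (.leaf 1459) (.node 1 (.leaf 1444) (.leaf 1225))) (.node 2 (.node 1 (.leaf 610) (.leaf 783)) (.node 1 (.leaf 599) (.leaf 711)))) (.node 3 (.node 1 (.leaf 923) (.node 1 (.leaf 650) (.leaf 886))) (.node 2 (.node 1 (.leaf 1064) (.leaf 9)) (.node 1 (.leaf 1117) (.leaf 582))))) (.node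 7 (.node 3 (.node 1 (.leaf 1692) (.node 1 (.leaf 254) (.leaf 736))) (.node 2 (.node 1 (.leaf 431) (.leaf 646)) (.node 1 (.leaf 158) (.leaf 1017)))) (.node 3 (.node 1 (.leaf 1728) (.node 1 (.leaf 57) (.leaf 90))) (.node 2 (.node 1 (.leaf 803) (.leaf 804)) (.node 1 (.leaf 1517) (.leaf 1574)))))) (.node 14 (.node 7 (.node 3 (.node 1 (.leaf 1667) (.node 1 (.leaf 545) (.leaf 767))) (.node 2 (.node 1 (.leaf 13) (.leaf 50)) (.node 1 (.leaf 1082) (.leaf 1359)))) (.node 3 (.node 1 (.leaf 1293) (.node 1 (.leaf 1733) (.leaf 1636))) (.node 2 (.node 1 (.leaf 1223) (.leaf 497)) (.node 1 (.leaf 539) (.leaf 1645))))) (.node 7 (.node 3 (.node 1 (.leaf 956) (.node 1 (.leaf 1037) (.leaf 1741))) (.node 2 (.node 1 (.leaf 1161) (.leaf 30)) (.node 1 (.leaf 1164) (.leaf 1209)))) (.node 3 (.node 1 (.leaf 1737) (.node 1 (.leaf 32) (.leaf 182))) (.node 2 (.node 1 (.leaf 59) (.leaf 66)) (.node 1 (.leaf 671) (.leaf 1196)))))))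 (.node 28 (.node 14 (.node 7 (.node 3 (.node 1 (.leaf 912) (.node 1 (.leaf 489) (.leaf 422))) (.node 2 (.node 1 (.leaf 458) (.leaf 557)) (.node 1 (.leaf 1635) (.leaf 1764)))) (.node 3 (.node 1 (.leaf 151) (.node 1 (.leaf 1644) (.leaf 37))) (.node 2 (.node 1 (.leaf 1165) (.leaf 712)) (.node 1 (.leaf 305) (.leaf 1263))))) (.node 7 (.node 3 (.node 1 (.leaf 961) (.node 1 (.leaf 1765) (.leaf 1169))) (.node 2 (.node 1 (.leaf 1717) (.leaf 600)) (.node 1 (.leaf 1282) (.leaf 1137)))) (.node 3 (.node 1 (.leaf 887) (.node 1 (.leaf 898) (.leaf 1383))) (.node 2 (.node 1 (.leaf 1323) (.leaf 665)) (.node 1 (.leaf 1572) (.leaf 1769)))))) (.node 14 (.node 7 (.node 3 (.node 1 (.leaf 167) (.node 1 (.leaf 1523) (.leaf 558))) (.node 2 (.node 1 (.leaf 126) (.leaf 1673)) (.node 1 (.leaf 1259) (.leaf 1224)))) (.node 3 (.node 1 (.leaf 430) (.node 1 (.leaf 468) (.leaf 667))) (.node 2 (.node 1 (.leaf 1397) (.leaf 1287))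 (.node 1 (.leaf 1601) (.leaf 1565))))) (.node 7 (.node 3 (.node 1 (.leaf 1239) (.node 1 (.leaf 1063) (.leaf 1286))) (.node 2 (.node 1 (.leaf 415) (.leaf 26)) (.node 1 (.leaf 1632) (.leaf 1605)))) (.node 3 (.node 1 (.leaf 1222) (.node 1 (.leaf 1701) (.leaf 788))) (.node 2 (.node 1 (.leaf 856) (.leaf 1334)) (.node 1 (.leaf 955) (.leaf 359))))))))))) (.node 445 (.node 222 (.node 111 (.node 55 (.node 27 (.node 13 (.node 6 (.node 3 (.node 1 (.leaf 1264) (.node 1 (.leaf 924) (.leaf 235))) (.node 1 (.leaf 894) (.node 1 (.leaf 469) (.leaf 233)))) (.node 3 (.node 1 (.leaf 685) (.node 1 (.leaf 857) (.leaf 960))) (.node 2 (.node 1 (.leaf 1776) (.leaf 1002)) (.node 1 (.leaf 132) (.leaf 515))))) (.node 7 (.node 3 (.node 1 (.leaf 321) (.node 1 (.leaf 1699) (.leaf 1775))) (.node 2 (.node 1 (.leaf 1700) (.leaf 581)) (.node 1 (.leaf 701) (.leaf 1593)))) (.node 3 (.node 1 (.leaf 1468) (.node 1 (.leaf 835) (.leaf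 1087))) (.node 2 (.node 1 (.leaf 213) (.leaf 1538)) (.node 1 (.leaf 1607) (.leaf 1185)))))) (.node 14 (.node 7 (.node 3 (.node 1 (.leaf 148) (.node 1 (.leaf 1522) (.leaf 1210))) (.node 2 (.node 1 (.leaf 61) (.leaf 1704)) (.node 1 (.leaf 786) (.leaf 892)))) (.node 3 (.node 1 (.leaf 1349) (.node 1 (.leaf 450) (.leaf 1643))) (.node 2 (.node 1 (.leaf 520) (.leaf 1566)) (.node 1 (.leaf 271) (.leaf 638))))) (.node 7 (.node 3 (.node 1 (.leaf 943) (.node 1 (.leaf 1200) (.leaf 1187))) (.node 2 (.node 1 (.leaf 1714) (.leaf 1094)) (.node 1 (.leaf 941) (.leaf 272)))) (.node 3 (.node 1 (.leaf 496) (.node 1 (.leaf 307) (.leaf 937))) (.node 2 (.node 1 (.leaf 1663) (.leaf 932)) (.node 1 (.leaf 1689) (.leaf 49))))))) (.node 28 (.node 14 (.node 7 (.node 3 (.node 1 (.leaf 1135) (.node 1 (.leaf 1638) (.leaf 1513))) (.node 2 (.node 1 (.leaf 1335) (.leaf 1132)) (.node 1 (.leaf 1568) (.leaf 382)))) (.node 3 (.node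 1 (.leaf 953) (.node 1 (.leaf 954) (.leaf 889))) (.node 2 (.node 1 (.leaf 821) (.leaf 1659)) (.node 1 (.leaf 407) (.leaf 580))))) (.node 7 (.node 3 (.node 1 (.leaf 899) (.node 1 (.leaf 849) (.leaf 471))) (.node 2 (.node 1 (.leaf 302) (.leaf 648)) (.node 1 (.leaf 1130) (.leaf 1121)))) (.node 3 (.node 1 (.leaf 85) (.node 1 (.leaf 1272) (.leaf 1409))) (.node 2 (.node 1 (.leaf 1445) (.leaf 267)) (.node 1 (.leaf 277) (.leaf 707)))))) (.node 14 (.node 7 (.node 3 (.node 1 (.leaf 1531) (.node 1 (.leaf 1499) (.leaf 536))) (.node 2 (.node 1 (.leaf 756) (.leaf 1536)) (.node 1 (.leaf 1350) (.leaf 1557)))) (.node 3 (.node 1 (.leaf 981) (.node 1 (.leaf 524) (.leaf 1107))) (.node 2 (.node 1 (.leaf 728) (.leaf 1188)) (.node 1 (.leaf 165) (.leaf 752))))) (.node 7 (.node 3 (.node 1 (.leaf 1078) (.node 1 (.leaf 286) (.leaf 513))) (.node 2 (.node 1 (.leaf 687) (.leaf 473)) (.node 1 (.leaf 197) (.leaf 263)))) (.node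 3 (.node 1 (.leaf 419) (.node 1 (.leaf 1106) (.leaf 322))) (.node 2 (.node 1 (.leaf 1693) (.leaf 999)) (.node 1 (.leaf 519) (.leaf 1083)))))))) (.node 55 (.node 27 (.node 13 (.node 6 (.node 3 (.node 1 (.leaf 901) (.node 1 (.leaf 301) (.leaf 1760))) (.node 1 (.leaf 1214) (.node 1 (.leaf 745) (.leaf 485)))) (.node 3 (.node 1 (.leaf 173) (.node 1 (.leaf 1754) (.leaf 1608))) (.node 2 (.node 1 (.leaf 1447) (.leaf 1120)) (.node 1 (.leaf 290) (.leaf 1343))))) (.node 7 (.node 3 (.node 1 (.leaf 492) (.node 1 (.leaf 1042) (.leaf 799))) (.node 2 (.node 1 (.leaf 1570) (.leaf 1019)) (.node 1 (.leaf 1278) (.leaf 432)))) (.node 3 (.node 1 (.leaf 1597) (.node 1 (.leaf 209) (.leaf 1))) (.node 2 (.node 1 (.leaf 1401) (.leaf 39)) (.node 1 (.leaf 1390) (.leaf 214)))))) (.node 14 (.node 7 (.node 3 (.node 1 (.leaf 1411) (.node 1 (.leaf 624) (.leaf 1742))) (.node 2 (.node 1 (.leaf 368) (.leaf 1510)) (.node 1 (.leaf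 1139) (.leaf 1035)))) (.node 3 (.node 1 (.leaf 333) (.node 1 (.leaf 822) (.leaf 1442))) (.node 2 (.node 1 (.leaf 494) (.leaf 1606)) (.node 1 (.leaf 1642) (.leaf 1016))))) (.node 7 (.node 3 (.node 1 (.leaf 52) (.node 1 (.leaf 349) (.leaf 1045))) (.node 2 (.node 1 (.leaf 1681) (.leaf 28)) (.node 1 (.leaf 1167) (.leaf 1138)))) (.node 3 (.node 1 (.leaf 186) (.node 1 (.leaf 550) (.leaf 735))) (.node 2 (.node 1 (.leaf 43) (.leaf 1707)) (.node 1 (.leaf 1268) (.leaf 553))))))) (.node 28 (.node 14 (.node 7 (.node 3 (.node 1 (.leaf 726) (.node 1 (.leaf 656) (.leaf 401))) (.node 2 (.node 1 (.leaf 84) (.leaf 1770)) (.node 1 (.leaf 1552) (.leaf 878)))) (.node 3 (.node 1 (.leaf 789) (.node 1 (.leaf 1542) (.leaf 435))) (.node 2 (.node 1 (.leaf 1373) (.leaf 1530)) (.node 1 (.leaf 551) (.leaf 1292))))) (.node 7 (.node 3 (.node 1 (.leaf 491) (.node 1 (.leaf 417) (.leaf 478))) (.node 2 (.node 1 (.leaf 1275) (.leaf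 1075)) (.node 1 (.leaf 768) (.leaf 506)))) (.node 3 (.node 1 (.leaf 988) (.node 1 (.leaf 1079) (.leaf 1559))) (.node 2 (.node 1 (.leaf 1561) (.leaf 812)) (.node 1 (.leaf 1001) (.leaf 413)))))) (.node 14 (.node 7 (.node 3 (.node 1 (.leaf 73) (.node 1 (.leaf 1235) (.leaf 913))) (.node 2 (.node 1 (.leaf 266) (.leaf 649)) (.node 1 (.leaf 1109) (.leaf 1329)))) (.node 3 (.node 1 (.leaf 1487) (.node 1 (.leaf 1141) (.leaf 936))) (.node 2 (.node 1 (.leaf 1504) (.leaf 511)) (.node 1 (.leaf 1097) (.leaf 461))))) (.node 7 (.node 3 (.node 1 (.leaf 1526) (.node 1 (.leaf 1277) (.leaf 462))) (.node 2 (.node 1 (.leaf 72) (.leaf 1589)) (.node 1 (.leaf 1461) (.leaf 1326)))) (.node 3 (.node 1 (.leaf 996) (.node 1 (.leaf 983) (.leaf 731))) (.node 2 (.node 1 (.leaf 1090) (.leaf 225)) (.node 1 (.leaf 1111) (.leaf 1288))))))))) (.node 111 (.node 55 (.node 27 (.node 13 (.node 6 (.node 3 (.node 1 (.leaf 360) (.node 1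 (.leaf 411) (.leaf 176))) (.node 1 (.leaf 1307) (.node 1 (.leaf 791) (.leaf 1280)))) (.node 3 (.node 1 (.leaf 192) (.node 1 (.leaf 1012) (.leaf 966))) (.node 2 (.node 1 (.leaf 177) (.leaf 1233)) (.node 1 (.leaf 22) (.leaf 679))))) (.node 7 (.node 3 (.node 1 (.leaf 133) (.node 1 (.leaf 331) (.leaf 1128))) (.node 2 (.node 1 (.leaf 560) (.leaf 965)) (.node 1 (.leaf 1678) (.leaf 950)))) (.node 3 (.node 1 (.leaf 606) (.node 1 (.leaf 139) (.leaf 946))) (.node 2 (.node 1 (.leaf 1199) (.leaf 855)) (.node 1 (.leaf 1049) (.leaf 1034)))))) (.node 14 (.node 7 (.node 3 (.node 1 (.leaf 389) (.node 1 (.leaf 1093) (.leaf 1364))) (.node 2 (.node 1 (.leaf 480) (.leaf 34)) (.node 1 (.leaf 1571) (.leaf 1732)))) (.node 3 (.node 1 (.leaf 1147) (.node 1 (.leaf 383) (.leaf 1230))) (.node 2 (.node 1 (.leaf 1150) (.leaf 1336)) (.node 1 (.leaf 96) (.leaf 585))))) (.node 7 (.node 3 (.node 1 (.leaf 747) (.node 1 (.leaf 295)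 (.leaf 1540))) (.node 2 (.node 1 (.leaf 1417) (.leaf 1158)) (.node 1 (.leaf 374) (.leaf 1641)))) (.node 3 (.node 1 (.leaf 824) (.node 1 (.leaf 230) (.leaf 498))) (.node 2 (.node 1 (.leaf 826) (.leaf 845)) (.node 1 (.leaf 741) (.leaf 1048))))))) (.node 28 (.node 14 (.node 7 (.node 3 (.node 1 (.leaf 10) (.node 1 (.leaf 851) (.leaf 1375))) (.node 2 (.node 1 (.leaf 80) (.leaf 459)) (.node 1 (.leaf 1173) (.leaf 35)))) (.node 3 (.node 1 (.leaf 1483) (.node 1 (.leaf 760) (.leaf 1527))) (.node 2 (.node 1 (.leaf 1433) (.leaf 1368)) (.node 1 (.leaf 1358) (.leaf 437))))) (.node 7 (.node 3 (.node 1 (.leaf 1501) (.node 1 (.leaf 652) (.leaf 1634))) (.node 2 (.node 1 (.leaf 917) (.leaf 94)) (.node 1 (.leaf 934) (.leaf 985)))) (.node 3 (.node 1 (.leaf 390) (.node 1 (.leaf 1276) (.leaf 1274))) (.node 2 (.node 1 (.leaf 1569) (.leaf 1193)) (.node 1 (.leaf 1221) (.leaf 621)))))) (.node 14 (.node 7 (.node 3 (.node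 1 (.leaf 834) (.node 1 (.leaf 1419) (.leaf 1541))) (.node 2 (.node 1 (.leaf 1136) (.leaf 933)) (.node 1 (.leaf 1201) (.leaf 1273)))) (.node 3 (.node 1 (.leaf 1686) (.node 1 (.leaf 626) (.leaf 1426))) (.node 2 (.node 1 (.leaf 629) (.leaf 216)) (.node 1 (.leaf 676) (.leaf 827))))) (.node 7 (.node 3 (.node 1 (.leaf 920) (.node 1 (.leaf 224) (.leaf 405))) (.node 2 (.node 1 (.leaf 544) (.leaf 1005)) (.node 1 (.leaf 668) (.leaf 60)))) (.node 3 (.node 1 (.leaf 140) (.node 1 (.leaf 1299) (.leaf 1519))) (.node 2 (.node 1 (.leaf 623) (.leaf 1194)) (.node 1 (.leaf 884) (.leaf 817)))))))) (.node 56 (.node 28 (.node 14 (.node 7 (.node 3 (.node 1 (.leaf 869) (.node 1 (.leaf 781) (.leaf 112))) (.node 2 (.node 1 (.leaf 1721) (.leaf 1238)) (.node 1 (.leaf 1396) (.leaf 1149)))) (.node 3 (.node 1 (.leaf 608) (.node 1 (.leaf 1232) (.leaf 1123))) (.node 2 (.node 1 (.leaf 82) (.leaf 1086)) (.node 1 (.leaf 1324) (.leaf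 1255))))) (.node 7 (.node 3 (.node 1 (.leaf 1228) (.node 1 (.leaf 877) (.leaf 554))) (.node 2 (.node 1 (.leaf 644) (.leaf 1576)) (.node 1 (.leaf 597) (.leaf 1408)))) (.node 3 (.node 1 (.leaf 538) (.node 1 (.leaf 1425) (.leaf 99))) (.node 2 (.node 1 (.leaf 1655) (.leaf 1249)) (.node 1 (.leaf 1427) (.leaf 1400)))))) (.node 14 (.node 7 (.node 3 (.node 1 (.leaf 238) (.node 1 (.leaf 408) (.leaf 180))) (.node 2 (.node 1 (.leaf 1237) (.leaf 1256)) (.node 1 (.leaf 228) (.leaf 1258)))) (.node 3 (.node 1 (.leaf 868) (.node 1 (.leaf 463) (.leaf 129))) (.node 2 (.node 1 (.leaf 1262) (.leaf 848)) (.node 1 (.leaf 891) (.leaf 611))))) (.node 7 (.node 3 (.node 1 (.leaf 1595) (.node 1 (.leaf 1450) (.leaf 1055))) (.node 2 (.node 1 (.leaf 1431) (.leaf 746)) (.node 1 (.leaf 1482) (.leaf 968)))) (.node 3 (.node 1 (.leaf 1202) (.node 1 (.leaf 1191) (.leaf 1074))) (.node 2 (.node 1 (.leaf 1190) (.leaf 1100)) (.node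 1 (.leaf 1020) (.leaf 221))))))) (.node 28 (.node 14 (.node 7 (.node 3 (.node 1 (.leaf 1118) (.node 1 (.leaf 338) (.leaf 854))) (.node 2 (.node 1 (.leaf 303) (.leaf 150)) (.node 1 (.leaf 1629) (.leaf 879)))) (.node 3 (.node 1 (.leaf 874) (.node 1 (.leaf 1112) (.leaf 4))) (.node 2 (.node 1 (.leaf 194) (.leaf 1291)) (.node 1 (.leaf 1070) (.leaf 814))))) (.node 7 (.node 3 (.node 1 (.leaf 23) (.node 1 (.leaf 744) (.leaf 1695))) (.node 2 (.node 1 (.leaf 142) (.leaf 1779)) (.node 1 (.leaf 1218) (.leaf 264)))) (.node 3 (.node 1 (.leaf 1387) (.node 1 (.leaf 217) (.leaf 201))) (.node 2 (.node 1 (.leaf 253) (.leaf 116)) (.node 1 (.leaf 232) (.leaf 1116)))))) (.node 14 (.node 7 (.node 3 (.node 1 (.leaf 1511) (.node 1 (.leaf 1727) (.leaf 475))) (.node 2 (.node 1 (.leaf 404) (.leaf 1740)) (.node 1 (.leaf 198) (.leaf 686)))) (.node 3 (.node 1 (.leaf 1452) (.node 1 (.leaf 1520) (.leaf 675))) (.node 2 (.node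 1 (.leaf 1592) (.leaf 1462)) (.node 1 (.leaf 195) (.leaf 1621))))) (.node 7 (.node 3 (.node 1 (.leaf 778) (.node 1 (.leaf 859) (.leaf 1236))) (.node 2 (.node 1 (.leaf 369) (.leaf 1105)) (.node 1 (.leaf 237) (.leaf 1328)))) (.node 3 (.node 1 (.leaf 1091) (.node 1 (.leaf 457) (.leaf 749))) (.node 2 (.node 1 (.leaf 773) (.leaf 58)) (.node 1 (.leaf 888) (.leaf 949)))))))))) (.node 223 (.node 111 (.node 55 (.node 27 (.node 13 (.node 6 (.node 3 (.node 1 (.leaf 1151) (.node 1 (.leaf 1366) (.leaf 1344))) (.node 1 (.leaf 1697) (.node 1 (.leaf 410) (.leaf 318)))) (.node 3 (.node 1 (.leaf 518) (.node 1 (.leaf 1014) (.leaf 1338))) (.node 2 (.node 1 (.leaf 1435) (.leaf 353)) (.node 1 (.leaf 68) (.leaf 1439))))) (.node 7 (.node 3 (.node 1 (.leaf 925) (.node 1 (.leaf 979) (.leaf 456))) (.node 2 (.node 1 (.leaf 239) (.leaf 1495)) (.node 1 (.leaf 297) (.leaf 743)))) (.node 3 (.node 1 (.leaf 1486) (.node 1 (.leaf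 627) (.leaf 1180))) (.node 2 (.node 1 (.leaf 813) (.leaf 145)) (.node 1 (.leaf 398) (.leaf 1720)))))) (.node 14 (.node 7 (.node 3 (.node 1 (.leaf 1762) (.node 1 (.leaf 1142) (.leaf 1497))) (.node 2 (.node 1 (.leaf 1337) (.leaf 591)) (.node 1 (.leaf 1179) (.leaf 100)))) (.node 3 (.node 1 (.leaf 1587) (.node 1 (.leaf 561) (.leaf 19))) (.node 2 (.node 1 (.leaf 1067) (.leaf 361)) (.node 1 (.leaf 1170) (.leaf 753))))) (.node 7 (.node 3 (.node 1 (.leaf 1706) (.node 1 (.leaf 1647) (.leaf 647))) (.node 2 (.node 1 (.leaf 1380) (.leaf 1603)) (.node 1 (.leaf 1680) (.leaf 858)))) (.node 3 (.node 1 (.leaf 1477) (.node 1 (.leaf 330) (.leaf 716))) (.node 2 (.node 1 (.leaf 1301) (.leaf 1484)) (.node 1 (.leaf 289) (.leaf 1027))))))) (.node 28 (.node 14 (.node 7 (.node 3 (.node 1 (.leaf 751) (.node 1 (.leaf 387) (.leaf 758))) (.node 2 (.node 1 (.leaf 348) (.leaf 1660)) (.node 1 (.leaf 1229) (.leaf 873)))) (.node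 3 (.node 1 (.leaf 659) (.node 1 (.leaf 97) (.leaf 1251))) (.node 2 (.node 1 (.leaf 1025) (.leaf 651)) (.node 1 (.leaf 56) (.leaf 622))))) (.node 7 (.node 3 (.node 1 (.leaf 373) (.node 1 (.leaf 215) (.leaf 1543))) (.node 2 (.node 1 (.leaf 1244) (.leaf 969)) (.node 1 (.leaf 542) (.leaf 1029)))) (.node 3 (.node 1 (.leaf 326) (.node 1 (.leaf 1475) (.leaf 777))) (.node 2 (.node 1 (.leaf 771) (.leaf 138)) (.node 1 (.leaf 1157) (.leaf 1514)))))) (.node 14 (.node 7 (.node 3 (.node 1 (.leaf 1197) (.node 1 (.leaf 92) (.leaf 379))) (.node 2 (.node 1 (.leaf 127) (.leaf 397)) (.node 1 (.leaf 393) (.leaf 1246)))) (.node 3 (.node 1 (.leaf 1205) (.node 1 (.leaf 1250) (.leaf 89))) (.node 2 (.node 1 (.leaf 1429) (.leaf 1671)) (.node 1 (.leaf 1269) (.leaf 1591))))) (.node 7 (.node 3 (.node 1 (.leaf 1178) (.node 1 (.leaf 1734) (.leaf 1345))) (.node 2 (.node 1 (.leaf 327) (.leaf 1534)) (.node 1 (.leaf 147) (.leaf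 1348)))) (.node 3 (.node 1 (.leaf 543) (.node 1 (.leaf 364) (.leaf 1038))) (.node 2 (.node 1 (.leaf 3) (.leaf 780)) (.node 1 (.leaf 970) (.leaf 311)))))))) (.node 56 (.node 28 (.node 14 (.node 7 (.node 3 (.node 1 (.leaf 1011) (.node 1 (.leaf 759) (.leaf 1698))) (.node 2 (.node 1 (.leaf 1267) (.leaf 406)) (.node 1 (.leaf 1315) (.leaf 270)))) (.node 3 (.node 1 (.leaf 527) (.node 1 (.leaf 1509) (.leaf 1463))) (.node 2 (.node 1 (.leaf 577) (.leaf 680)) (.node 1 (.leaf 779) (.leaf 455))))) (.node 7 (.node 3 (.node 1 (.leaf 1104) (.node 1 (.leaf 1319) (.leaf 1456))) (.node 2 (.node 1 (.leaf 514) (.leaf 576)) (.node 1 (.leaf 690) (.leaf 569)))) (.node 3 (.node 1 (.leaf 911) (.node 1 (.leaf 1469) (.leaf 499))) (.node 2 (.node 1 (.leaf 1471) (.leaf 1532)) (.node 1 (.leaf 1473) (.leaf 189)))))) (.node 14 (.node 7 (.node 3 (.node 1 (.leaf 1413) (.node 1 (.leaf 345) (.leaf 1384))) (.node 2 (.node 1 (.leaf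 1512) (.leaf 508)) (.node 1 (.leaf 48) (.leaf 14)))) (.node 3 (.node 1 (.leaf 1271) (.node 1 (.leaf 1175) (.leaf 1388))) (.node 2 (.node 1 (.leaf 1684) (.leaf 1356)) (.node 1 (.leaf 1092) (.leaf 8))))) (.node 7 (.node 3 (.node 1 (.leaf 645) (.node 1 (.leaf 62) (.leaf 460))) (.node 2 (.node 1 (.leaf 344) (.leaf 1550)) (.node 1 (.leaf 636) (.leaf 1353)))) (.node 3 (.node 1 (.leaf 1496) (.node 1 (.leaf 1365) (.leaf 242))) (.node 2 (.node 1 (.leaf 975) (.leaf 399)) (.node 1 (.leaf 1182) (.leaf 86))))))) (.node 28 (.node 14 (.node 7 (.node 3 (.node 1 (.leaf 1654) (.node 1 (.leaf 1095) (.leaf 769))) (.node 2 (.node 1 (.leaf 567) (.leaf 754)) (.node 1 (.leaf 1515) (.leaf 1455)))) (.node 3 (.node 1 (.leaf 1033) (.node 1 (.leaf 1308) (.leaf 1478))) (.node 2 (.node 1 (.leaf 948) (.leaf 1418)) (.node 1 (.leaf 1508) (.leaf 193))))) (.node 7 (.node 3 (.node 1 (.leaf 805) (.node 1 (.leaf 445) (.leaf 1219)))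 (.node 2 (.node 1 (.leaf 1316) (.leaf 243)) (.node 1 (.leaf 919) (.leaf 864)))) (.node 3 (.node 1 (.leaf 521) (.node 1 (.leaf 258) (.leaf 1099))) (.node 2 (.node 1 (.leaf 1177) (.leaf 530)) (.node 1 (.leaf 1724) (.leaf 1068)))))) (.node 14 (.node 7 (.node 3 (.node 1 (.leaf 974) (.node 1 (.leaf 1472) (.leaf 143))) (.node 2 (.node 1 (.leaf 1437) (.leaf 429)) (.node 1 (.leaf 978) (.leaf 38)))) (.node 3 (.node 1 (.leaf 915) (.node 1 (.leaf 20) (.leaf 1156))) (.node 2 (.node 1 (.leaf 1198) (.leaf 1065)) (.node 1 (.leaf 1407) (.leaf 306))))) (.node 7 (.node 3 (.node 1 (.leaf 36) (.node 1 (.leaf 40) (.leaf 424))) (.node 2 (.node 1 (.leaf 531) (.leaf 1564)) (.node 1 (.leaf 1493) (.leaf 293)))) (.node 3 (.node 1 (.leaf 1062) (.node 1 (.leaf 1553) (.leaf 210))) (.node 2 (.node 1 (.leaf 354) (.leaf 1556)) (.node 1 (.leaf 980) (.leaf 157))))))))) (.node 111 (.node 55 (.node 27 (.node 13 (.node 6 (.node 3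 (.node 1 (.leaf 1080) (.node 1 (.leaf 1723) (.leaf 1081))) (.node 1 (.leaf 1708) (.node 1 (.leaf 187) (.leaf 1549)))) (.node 3 (.node 1 (.leaf 876) (.node 1 (.leaf 929) (.leaf 1585))) (.node 2 (.node 1 (.leaf 951) (.leaf 1192)) (.node 1 (.leaf 1018) (.leaf 1145))))) (.node 7 (.node 3 (.node 1 (.leaf 861) (.node 1 (.leaf 274) (.leaf 806))) (.node 2 (.node 1 (.leaf 292) (.leaf 1242)) (.node 1 (.leaf 1676) (.leaf 601)))) (.node 3 (.node 1 (.leaf 1620) (.node 1 (.leaf 1580) (.leaf 694))) (.node 2 (.node 1 (.leaf 1599) (.leaf 1583)) (.node 1 (.leaf 660) (.leaf 1567)))))) (.node 14 (.node 7 (.node 3 (.node 1 (.leaf 1586) (.node 1 (.leaf 1370) (.leaf 1747))) (.node 2 (.node 1 (.leaf 1103) (.leaf 724)) (.node 1 (.leaf 1432) (.leaf 1318)))) (.node 3 (.node 1 (.leaf 910) (.node 1 (.leaf 121) (.leaf 1266))) (.node 2 (.node 1 (.leaf 723) (.leaf 1022)) (.node 1 (.leaf 1691) (.leaf 1582))))) (.node 7 (.node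 3 (.node 1 (.leaf 633) (.node 1 (.leaf 875) (.leaf 552))) (.node 2 (.node 1 (.leaf 1381) (.leaf 5)) (.node 1 (.leaf 883) (.leaf 1040)))) (.node 3 (.node 1 (.leaf 916) (.node 1 (.leaf 1010) (.leaf 118))) (.node 2 (.node 1 (.leaf 1752) (.leaf 709)) (.node 1 (.leaf 482) (.leaf 699))))))) (.node 28 (.node 14 (.node 7 (.node 3 (.node 1 (.leaf 1687) (.node 1 (.leaf 81) (.leaf 79))) (.node 2 (.node 1 (.leaf 698) (.leaf 772)) (.node 1 (.leaf 1753) (.leaf 1579)))) (.node 3 (.node 1 (.leaf 1321) (.node 1 (.leaf 703) (.leaf 420))) (.node 2 (.node 1 (.leaf 1774) (.leaf 632)) (.node 1 (.leaf 474) (.leaf 618))))) (.node 7 (.node 3 (.node 1 (.leaf 548) (.node 1 (.leaf 1285) (.leaf 592))) (.node 2 (.node 1 (.leaf 395) (.leaf 882)) (.node 1 (.leaf 446) (.leaf 1184)))) (.node 3 (.node 1 (.leaf 840) (.node 1 (.leaf 816) (.leaf 337))) (.node 2 (.node 1 (.leaf 947) (.leaf 598)) (.node 1 (.leaf 564) (.leaf 1160))))))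 (.node 14 (.node 7 (.node 3 (.node 1 (.leaf 1041) (.node 1 (.leaf 927) (.leaf 843))) (.node 2 (.node 1 (.leaf 820) (.leaf 570)) (.node 1 (.leaf 1378) (.leaf 185)))) (.node 3 (.node 1 (.leaf 441) (.node 1 (.leaf 589) (.leaf 1651))) (.node 2 (.node 1 (.leaf 540) (.leaf 596)) (.node 1 (.leaf 1503) (.leaf 1248))))) (.node 7 (.node 3 (.node 1 (.leaf 1656) (.node 1 (.leaf 105) (.leaf 229))) (.node 2 (.node 1 (.leaf 957) (.leaf 1395)) (.node 1 (.leaf 212) (.leaf 1662)))) (.node 3 (.node 1 (.leaf 942) (.node 1 (.leaf 1664) (.leaf 351))) (.node 2 (.node 1 (.leaf 1666) (.leaf 807)) (.node 1 (.leaf 335) (.leaf 454)))))))) (.node 56 (.node 28 (.node 14 (.node 7 (.node 3 (.node 1 (.leaf 1670) (.node 1 (.leaf 1430) (.leaf 1672))) (.node 2 (.node 1 (.leaf 867) (.leaf 502)) (.node 1 (.leaf 425) (.leaf 1577)))) (.node 3 (.node 1 (.leaf 718) (.node 1 (.leaf 1131) (.leaf 1716))) (.node 2 (.node 1 (.leaf 1382) (.leaf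 1046)) (.node 1 (.leaf 655) (.leaf 259))))) (.node 7 (.node 3 (.node 1 (.leaf 1485) (.node 1 (.leaf 566) (.leaf 1203))) (.node 2 (.node 1 (.leaf 1614) (.leaf 693)) (.node 1 (.leaf 944) (.leaf 509)))) (.node 3 (.node 1 (.leaf 1598) (.node 1 (.leaf 793) (.leaf 998))) (.node 2 (.node 1 (.leaf 1694) (.leaf 1296)) (.node 1 (.leaf 205) (.leaf 1339)))))) (.node 14 (.node 7 (.node 3 (.node 1 (.leaf 1449) (.node 1 (.leaf 905) (.leaf 907))) (.node 2 (.node 1 (.leaf 885) (.leaf 658)) (.node 1 (.leaf 11) (.leaf 922)))) (.node 3 (.node 1 (.leaf 663) (.node 1 (.leaf 1377) (.leaf 1054))) (.node 2 (.node 1 (.leaf 1562) (.leaf 584)) (.node 1 (.leaf 714) (.leaf 236))))) (.node 7 (.node 3 (.node 1 (.leaf 98) (.node 1 (.leaf 727) (.leaf 935))) (.node 2 (.node 1 (.leaf 168) (.leaf 1679)) (.node 1 (.leaf 852) (.leaf 722)))) (.node 3 (.node 1 (.leaf 386) (.node 1 (.leaf 1362) (.leaf 1227))) (.node 2 (.node 1 (.leaf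 255) (.leaf 1560)) (.node 1 (.leaf 1529) (.leaf 568))))))) (.node 28 (.node 14 (.node 7 (.node 3 (.node 1 (.leaf 755) (.node 1 (.leaf 1309) (.leaf 800))) (.node 2 (.node 1 (.leaf 207) (.leaf 1730)) (.node 1 (.leaf 370) (.leaf 1146)))) (.node 3 (.node 1 (.leaf 815) (.node 1 (.leaf 1434) (.leaf 483))) (.node 2 (.node 1 (.leaf 1736) (.leaf 828)) (.node 1 (.leaf 725) (.leaf 388))))) (.node 7 (.node 3 (.node 1 (.leaf 1312) (.node 1 (.leaf 823) (.leaf 1031))) (.node 2 (.node 1 (.leaf 144) (.leaf 528)) (.node 1 (.leaf 523) (.leaf 590)))) (.node 3 (.node 1 (.leaf 1588) (.node 1 (.leaf 1748) (.leaf 109))) (.node 2 (.node 1 (.leaf 203) (.leaf 1751)) (.node 1 (.leaf 1610) (.leaf 1619)))))) (.node 14 (.node 7 (.node 3 (.node 1 (.leaf 1009) (.node 1 (.leaf 319) (.leaf 1757))) (.node 2 (.node 1 (.leaf 1756) (.leaf 1777)) (.node 1 (.leaf 1781) (.leaf 1004)))) (.node 3 (.node 1 (.leaf 298) (.node 1 (.leaf 1363)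 (.leaf 1763))) (.node 2 (.node 1 (.leaf 841) (.leaf 850)) (.node 1 (.leaf 657) (.leaf 257))))) (.node 7 (.node 3 (.node 1 (.leaf 1768) (.node 1 (.leaf 862) (.leaf 1061))) (.node 2 (.node 1 (.leaf 260) (.leaf 169)) (.node 1 (.leaf 281) (.leaf 1624)))) (.node 3 (.node 1 (.leaf 906) (.node 1 (.leaf 900) (.leaf 1758))) (.node 2 (.node 1 (.leaf 1778) (.leaf 1298)) (.node 1 (.leaf 696) (.leaf 1759))))))))))))

/-- Its fixed points. -/
def sigFix : List Nat :=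
  [0, 87, 88, 106, 107, 130, 146, 208, 218, 234, 240, 245, 250, 251, 256, 275, 291, 308, 346, 347, 350, 352, 366, 372, 416, 443, 477, 522, 525, 532, 534, 535, 546, 563, 565, 594, 613, 615, 640, 662, 682, 683, 706, 740, 750, 783, 803, 804, 894, 953, 954, 981, 999, 1019, 1035, 1045, 1075, 1079, 1097, 1111, 1128, 1147, 1150, 1158, 1173, 1193, 1201, 1232, 1249, 1256, 1258, 1262, 1291, 1328, 1380, 1429, 1469, 1471, 1473, 1496, 1553, 1556, 1580, 1583, 1586, 1651, 1656, 1662, 1664, 1666, 1670, 1672, 1694, 1730, 1736, 1748, 1751, 1763, 1768, 1778]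

/-- The conjugates of the generators by it. -/
def sigImages : List (List Nat) :=
  [[1, 0, 1, 0, 4, 5, 1, 2, 3, 2, 1, 4, 3, 2, 3, 1, 2, 1, 4, 1, 5, 0, 3, 2, 1, 5, 0, 4, 1, 0, 1, 3, 5, 3], [3, 1, 6, 0, 2, 6, 4, 3, 4, 2, 5, 3, 2, 1, 0, 1, 5, 1, 2, 3, 4, 2, 3, 2, 3, 1, 1, 4, 5, 1, 2, 3, 2, 1, 3, 4, 3, 2, 1, 3, 5, 4, 2, 6, 3, 4, 6, 1, 2, 1, 3, 2, 4, 5, 3, 2, 1, 5, 4], [1, 3, 4, 3, 2, 1, 0, 1, 3, 2, 3, 5, 1, 0, 1, 2, 4, 3, 1, 4], [1, 3, 2, 3, 2, 4, 3, 2, 1, 5, 1, 0, 1, 2, 3, 5, 2, 4, 3, 4, 6, 2, 0, 6, 1, 3], [1, 3, 2, 3, 2, 4, 3, 2, 1, 5, 1, 0, 1, 2, 3, 6, 2, 0, 4, 3, 2, 6, 5, 1], [0, 1, 0, 1, 0, 4, 5, 1, 2, 3, 2, 4, 3, 2, 1, 0, 1, 2, 3, 2, 0, 4, 3, 5, 0, 2, 1, 5, 0, 1, 0, 4, 1], [4, 1, 3, 4, 2, 1, 0, 1, 5, 3, 2, 3, 1, 0, 1, 2, 3, 4, 3, 1, 4, 3, 2, 3, 6, 5, 1, 0, 1, 2, 1, 0, 3, 2, 5, 4, 3, 6, 2, 4, 0, 3, 1, 2, 4, 0, 1, 3, 4, 2, 4, 5, 6, 3, 4]]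

/-- Points with listed neighbours. -/
def rowPts : List Nat :=
  [0, 1, 7, 21, 28, 37, 58, 72, 100, 155, 194, 196, 202, 205, 212, 217, 257, 282, 315, 323, 393, 396, 404, 420, 436, 455, 463, 512, 513, 607, 612, 638, 644, 682, 687, 692, 738, 765, 854, 874, 880, 902, 923, 934, 966, 989, 1005, 1015, 1021, 1062, 1119, 1121, 1146, 1156, 1260, 1266, 1267, 1282, 1372, 1417, 1439, 1493, 1530, 1576, 1592, 1595, 1605, 1626, 1698, 1701]

/-- Their neighbour masks. -/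
def rowTab : Tab :=
  (.node 891 (.node 445 (.node 222 (.node 111 (.node 55 (.node 27 (.node 13 (.node 6 (.node 3 (.node 1 (.leaf 0x338007f20c00000000007f00000000008000804eeb80200d31802000000000000000000000000006781e72000040000000000000080181fc0d83ce8a80048c000e3fe382258640c000000000000000000000079c81e600100200000000000000703c0fe0611c474e00140c40003f3fc23904d00262800000000000000079803a00600000000000e787fe047474601cc5000cff9d4744250000000001d034530000000247ffe3ae88d25039ffd11100000034694c00001a7ffba44444ff88800001a694800027fd111f10000d240007a2390008000691000000800000000000) (.node 1 (.leaf 0x369909f19201040000002ac8080000010801401a33c01e82cc400000a000008000000000000000022c552d600630000000000000200264078440610d4004704403803c2010b1010301000000000000000000054b5859a00818f00000000000028047683c10020231c00010180000f01010c04ec5805002000000000000166805805978000000070077c08020239c1a00a002f808b23b58c3c00000002c034ac60000042726011476a98c05e48eeede400003073b10000163111bb3b3c877664000187368001e20eef0ec8000db800c1d86c00780006ce01000740002000000)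 (.leaf 0))) (.node 1 (.leaf 0) (.node 1 (.leaf 0) (.leaf 0)))) (.node 3 (.node 1 (.leaf 0) (.node 1 (.leaf 0x80408800364d11c481008440004200400c00831c9a09810519025b02100804082204c06000800800015528a5816000448049094048028047082fd88292072788800904140016180220019400000045004000400085000940434114301040844041080b4408ec814081672017042880081809008e10010264010026c6a0004000842133480452160524100048540a1a2020c0048920040220c46036142404801481100250002200cc4008c048801080242512a41115423880aa3d018c4090e100c908ad0c8910d71805c80680b04284c824041c8a434205c1448881005100) (.leaf 0))) (.node 2 (.node 1 (.leaf 0) (.leaf 0)) (.node 1 (.leaf 0) (.leaf 0))))) (.node 7 (.node 3 (.node 1 (.leaf 0) (.node 1 (.leaf 0) (.leaf 0))) (.node 2 (.node 1 (.leaf 0) (.leaf 0)) (.node 1 (.leaf 0) (.leaf 0)))) (.node 3 (.node 1 (.leaf 0) (.node 1 (.leaf 0x100401600314809ce018081a0012801000414061219043101404000818894928200003e5d888e218060000810108101b10880f0930358800c1c00e327a01440c8000330044080001100044040dc61a81c2140110388080030001e68040f8640400250000e1b72667b288440098449900c8024000020000008004cd800620402b0100ec004398004272cc000222c90044108c00621800802810981000121281048480313880023624c84006a60001200006001040c80002c8ce13812d0011208020012808011000004b008110b02401229061b82e0154752541de291909000)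 (.leaf 0))) (.node 2 (.node 1 (.leaf 0) (.leaf 0)) (.node 1 (.leaf 0) (.leaf 0)))))) (.node 14 (.node 7 (.node 3 (.node 1 (.leaf 0) (.node 1 (.leaf 0x3504c40b040204444010000d568844024108001000320061000000100a0000200200e1c2464008025280029140828420092229010202a0008008a00246120008790020a810100581b011e1220000b50fc017021d9812080c008060c80088123c00011d00040000408096800040c2a459c0801454412120a2a8105158d05a088804108091008980190d040000040849100811236740046ad92243222080003006cc179c05740020821e84202e605cb1a8a329088115051007402487120c100c38095880a000100500c104128084411081286581010400985000438a086c8600) (.leaf 0))) (.node 2 (.node 1 (.leaf 0) (.leaf 0)) (.node 1 (.leaf 0) (.leaf 0)))) (.node 3 (.node 1 (.leaf 0) (.node 1 (.leaf 0) (.leaf 0))) (.node 2 (.node 1 (.leaf 0x209c00d402000220040000800d128300301400088056008804011008002038804464a0aa420008020910001b0c2420a12180b244182490110626291c009440492021080c020107814e761a68778c0408a22100800818c2081214410262014944500841424310200689040000a000e2dc65820246408004a00804b00828288840c81804b802200790400100800882000a81c00208f0002104001075102a0801a053000c10c02003a0e2c981400002040842841c800009a805e04428acf184918403014889154824800090a4126a8e045821e30006008c4388e01144228144)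 (.leaf 0)) (.node 1 (.leaf 0) (.leaf 0))))) (.node 7 (.node 3 (.node 1 (.leaf 0) (.node 1 (.leaf 0) (.leaf 0))) (.node 2 (.node 1 (.leaf 0) (.leaf 0)) (.node 1 (.leaf 0) (.leaf 0)))) (.node 3 (.node 1 (.leaf 0) (.node 1 (.leaf 0) (.leaf 0))) (.node 2 (.node 1 (.leaf 0) (.leaf 0)) (.node 1 (.leaf 0) (.leaf 0))))))) (.node 28 (.node 14 (.node 7 (.node 3 (.node 1 (.leaf 0) (.node 1 (.leaf 0) (.leaf 0))) (.node 2 (.node 1 (.leaf 0xc25049218200f10880b10a9001500114401082f48a30a940198004020820280000d00891432500010301ac8b1443044101000200802028086100090200488003044c000668110200ca1600100001b081a0224202180408286033027c40009004d00202588000010801001030427022090a14228401c910582012a84d1008b03052612166a019286008184800910208063cd2c2314016410d01864914c8011004009ad0420901c000028c8a213000820a72282828032c024020102490c0a3500628b1e8a0d11848091500c160183040000208002280ab01a1940089280) (.leaf 0)) (.node 1 (.leaf 0) (.leaf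 0)))) (.node 3 (.node 1 (.leaf 0) (.node 1 (.leaf 0) (.leaf 0))) (.node 2 (.node 1 (.leaf 0) (.leaf 0)) (.node 1 (.leaf 0) (.leaf 0))))) (.node 7 (.node 3 (.node 1 (.leaf 0) (.node 1 (.leaf 0) (.leaf 0))) (.node 2 (.node 1 (.leaf 0x1204200102f44b0d11580006009886010502a28000010048482618a804640020100098434003218b00000080388528120d104550181812049180800400062046006a0d220a8180d4810852048084045400c1508d400810088888102e4501802d0b5808281041890211061002820064031000048402044032922004870d46380527220000020010ca4080211a5a8440482a002832000c060085ca048c848272140501448011204a200116c0111100004c0502844a804241d8202003200607205365024044c00c09012204809004942488a0431a05a88c6a0140112220e8a1) (.leaf 0)) (.node 1 (.leaf 0) (.leaf 0)))) (.node 3 (.node 1 (.leaf 0) (.node 1 (.leaf 0) (.leaf 0))) (.node 2 (.node 1 (.leaf 0) (.leaf 0)) (.node 1 (.leaf 0) (.leaf 0)))))) (.node 14 (.node 7 (.node 3 (.node 1 (.leaf 0) (.node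 1 (.leaf 0) (.leaf 0))) (.node 2 (.node 1 (.leaf 0) (.leaf 0)) (.node 1 (.leaf 0) (.leaf 0)))) (.node 3 (.node 1 (.leaf 0) (.node 1 (.leaf 0) (.leaf 0))) (.node 2 (.node 1 (.leaf 0) (.leaf 0)) (.node 1 (.leaf 0) (.leaf 0))))) (.node 7 (.node 3 (.node 1 (.leaf 0) (.node 1 (.leaf 0) (.leaf 0))) (.node 2 (.node 1 (.leaf 0x108000620010ad4c8002080011b2000084144d01001040092800a190a40c878089381018ce8120100480200287180d6000306600a0c34c8800180800103d30080008240020420c00814148070702080004326384202c264d048780002000031c8009a2000c0420009c083100b4424980138000104100220401084a24083c2151026d5203448002124020b40248354080b2b1a64614ab08c240881c000008402c0081000084210980802b1800c8002863800210b2010005880102086e0be04110c6d0408144802041800471c1044472912c22c0a5b009880a144d820200434) (.leaf 0)) (.node 1 (.leaf 0) (.leaf 0)))) (.node 3 (.node 1 (.leaf 0) (.node 1 (.leaf 0) (.leaf 0))) (.node 2 (.node 1 (.leaf 0) (.leaf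 0)) (.node 1 (.leaf 0) (.leaf 0)))))))) (.node 55 (.node 27 (.node 13 (.node 6 (.node 3 (.node 1 (.leaf 0) (.node 1 (.leaf 0) (.leaf 0))) (.node 1 (.leaf 0) (.node 1 (.leaf 0) (.leaf 0)))) (.node 3 (.node 1 (.leaf 0) (.node 1 (.leaf 0) (.leaf 0))) (.node 2 (.node 1 (.leaf 0) (.leaf 0)) (.node 1 (.leaf 0) (.leaf 0))))) (.node 7 (.node 3 (.node 1 (.leaf 0) (.node 1 (.leaf 0) (.leaf 0))) (.node 2 (.node 1 (.leaf 0) (.leaf 0)) (.node 1 (.leaf 0) (.leaf 0)))) (.node 3 (.node 1 (.leaf 0) (.node 1 (.leaf 0) (.leaf 0))) (.node 2 (.node 1 (.leaf 0) (.leaf 0)) (.node 1 (.leaf 0) (.leaf 0)))))) (.node 14 (.node 7 (.node 3 (.node 1 (.leaf 0) (.node 1 (.leaf 0) (.leaf 0))) (.node 2 (.node 1 (.leaf 0) (.leaf 0)) (.node 1 (.leaf 0) (.leaf 0)))) (.node 3 (.node 1 (.leaf 0) (.node 1 (.leaf 0) (.leaf 0))) (.node 2 (.node 1 (.leaf 0) (.leaf 0)) (.node 1 (.leaf 0) (.leaf 0))))) (.node 7 (.node 3 (.node 1 (.leaf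 0) (.node 1 (.leaf 0) (.leaf 0))) (.node 2 (.node 1 (.leaf 0x21240400a319848c00030000b022428282034a0811840010440020a4201480051924801011140e0a2482281044012840100202002240902b08000c0528084901891958c060800228020038400042b02a2c24206168210a010041292e1b809b01634213220686100c0428480800180242c10c00440c09492c420c00000108a400306564a31200820112081b0108400900085d02180065ba608130041223003a41440012422418210640020018030610700a0cc0001002c80c2c03068a13204944b0100c8e34223800022902200a011040c6411808000431117d0098342a851) (.leaf 0)) (.node 1 (.leaf 0) (.leaf 0)))) (.node 3 (.node 1 (.leaf 0) (.node 1 (.leaf 0) (.leaf 0))) (.node 2 (.node 1 (.leaf 0) (.leaf 0)) (.node 1 (.leaf 0) (.leaf 0))))))) (.node 28 (.node 14 (.node 7 (.node 3 (.node 1 (.leaf 0) (.node 1 (.leaf 0) (.leaf 0))) (.node 2 (.node 1 (.leaf 0) (.leaf 0)) (.node 1 (.leaf 0) (.leaf 0)))) (.node 3 (.node 1 (.leaf 0) (.node 1 (.leaf 0) (.leaf 0))) (.node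 2 (.node 1 (.leaf 0) (.leaf 0)) (.node 1 (.leaf 0) (.leaf 0))))) (.node 7 (.node 3 (.node 1 (.leaf 0) (.node 1 (.leaf 0) (.leaf 0))) (.node 2 (.node 1 (.leaf 0) (.leaf 0)) (.node 1 (.leaf 0) (.leaf 0)))) (.node 3 (.node 1 (.leaf 0) (.node 1 (.leaf 0) (.leaf 0))) (.node 2 (.node 1 (.leaf 0) (.leaf 0)) (.node 1 (.leaf 0) (.leaf 0)))))) (.node 14 (.node 7 (.node 3 (.node 1 (.leaf 0x100010001405004831011030c9108a413300d36200844a0040e0a10118008049a610009a20061214d0960040040006230050c0012418118314380600040248230863508104188080409809000920000d0302028021039a2200e7194900499462202003b40d01a8a601a512a100112043804014c101004044008114210120281238801222108004ab1088636044009a019800240a61421140522a2300072608405060200840c810c000e08841e20c590800006600ada0c3140012800018c0244f42012000381204020684204810ac80b3a180401a218404240841b8101409) (.node 1 (.leaf 0) (.leaf 0x80608000809221f04802300804242400841060291004014580c96908189300247314684140800408d6e50a01020005024241510418200801000d020240100249448ad0612212808c00005310881434204c4012000101b0064a34809110100469a2002040ac004a008a400e12a0116680006956400400900301042118c4014004664a0050204019860402c0802102402060208122c8908208880130020289459144908103720000eb02060a030c91a1c0400392400288110e04022500210a06481283200004048468c810700826070562430a40614404412a8a8285000ec1)))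 (.node 2 (.node 1 (.leaf 0) (.leaf 0)) (.node 1 (.leaf 0) (.leaf 0)))) (.node 3 (.node 1 (.leaf 0) (.node 1 (.leaf 0x20f254c01c89422000222248201f2e38130207a20014812010004822000230400046802020e0204900e546000001400b07000910000087004005b02100880c800001430803a40c40002002e8ac000d0000a00015a0093402004006004001e000068302b000080400080b0c340286f4248ed20298001194602040526f049004502195a000e0e200082040844020a00d5000030014033048250e884706628850840000620254a00464030104020002124070422000018361e008035840170344322158b915c801120051354040064001180844a13c90001a10474ba2881bc13) (.leaf 0))) (.node 2 (.node 1 (.leaf 0) (.leaf 0x22602000080a10288428804f80a00800204800303284900ac002000800806a4321800809696e010840040c300040a49c0520060408080227432836422a8e6c4010080b06208010c48008105206a12c0ec1506424222014147828414001008200424aa90b0003800051a60540080080a00d2011082242c010338a09021406180004a2200c2018ec8c22180502208100c320021a80c20823406a81841c010052200808aca00000c080004aa4006108a04840c0084450ac252b481004d28449a3a8000010041a128600a208a411241c0216c54800222308050102510200404131))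 (.node 1 (.leaf 0) (.leaf 0))))) (.node 7 (.node 3 (.node 1 (.leaf 0) (.node 1 (.leaf 0) (.leaf 0))) (.node 2 (.node 1 (.leaf 0) (.leaf 0x20805281240c02680e00a882446008900440009854e8000420103080050440a0258320824403050a21047441000828550101842190d000001846460014108000a080c19058230d1840ab30280488d00401a2004040611b00084022280cc024800a32a2d00408904881c8a24a4280c0002010010691198013c0928082441224041882d1048150181a88a14140a280c1811080801002111902001003011a10aa2409c00844848311288010c820150c8560c595109004e45182010b2200520200602010002ae004481151121000a9260d0051602006840250001dce8006048)) (.node 1 (.leaf 0) (.leaf 0)))) (.node 3 (.node 1 (.leaf 0) (.node 1 (.leaf 0) (.leaf 0x121840240a54292708084608002182140401c03200042018b0445494418041a8400160c02341828c02208040d0400610a6200001010c0020b508900200066185010518028b820a044809000054852c0126010582003b06000006000802427d01a01054386200871404501011016d2408640000850001404550400a00450424082408404810524300110001c98e0000b504d3505182078001a40800228c404663b88103d44402486918d05204480060e4282982a02015001104034052d0180002320290800008100210c2610545560e8c138009a45000484020d4180051044)))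 (.node 2 (.node 1 (.leaf 0) (.leaf 0)) (.node 1 (.leaf 0) (.leaf 0))))))))) (.node 111 (.node 55 (.node 27 (.node 13 (.node 6 (.node 3 (.node 1 (.leaf 0) (.node 1 (.leaf 0) (.leaf 0))) (.node 1 (.leaf 0) (.node 1 (.leaf 0) (.leaf 0)))) (.node 3 (.node 1 (.leaf 0) (.node 1 (.leaf 0) (.leaf 0))) (.node 2 (.node 1 (.leaf 0) (.leaf 0)) (.node 1 (.leaf 0) (.leaf 0))))) (.node 7 (.node 3 (.node 1 (.leaf 0) (.node 1 (.leaf 0) (.leaf 0))) (.node 2 (.node 1 (.leaf 0) (.leaf 0)) (.node 1 (.leaf 0) (.leaf 0)))) (.node 3 (.node 1 (.leaf 0) (.node 1 (.leaf 0) (.leaf 0))) (.node 2 (.node 1 (.leaf 0) (.leaf 0)) (.node 1 (.leaf 0) (.leaf 0)))))) (.node 14 (.node 7 (.node 3 (.node 1 (.leaf 0) (.node 1 (.leaf 0) (.leaf 0))) (.node 2 (.node 1 (.leaf 0) (.leaf 0)) (.node 1 (.leaf 0) (.leaf 0)))) (.node 3 (.node 1 (.leaf 0) (.node 1 (.leaf 0x8c0080270a9208102080601a204a000543001200e0840d41501ca011c015413009901411042220018158d000020092181002006300000004062a8c4108100040602420024080207000086101886068f5008d0ba000002004880000c40580220bd0105582a8400083c330192880e80118028053609c41212014a2210024070888c204880881800d4c75928000408a00050048200860ce0c4240803d28253016028528204080112060000541402a4220d004080a22000a188191c64028c84085000b0889286a1a010802005665a3000054180000070501c3b4c04828a22752)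 (.leaf 0))) (.node 2 (.node 1 (.leaf 0) (.leaf 0)) (.node 1 (.leaf 0) (.leaf 0))))) (.node 7 (.node 3 (.node 1 (.leaf 0) (.node 1 (.leaf 0) (.leaf 0))) (.node 2 (.node 1 (.leaf 0) (.leaf 0)) (.node 1 (.leaf 0) (.leaf 0)))) (.node 3 (.node 1 (.leaf 0) (.node 1 (.leaf 0) (.leaf 0))) (.node 2 (.node 1 (.leaf 0) (.leaf 0)) (.node 1 (.leaf 0) (.leaf 0))))))) (.node 28 (.node 14 (.node 7 (.node 3 (.node 1 (.leaf 0) (.node 1 (.leaf 0) (.leaf 0))) (.node 2 (.node 1 (.leaf 0) (.leaf 0)) (.node 1 (.leaf 0x18008059c0201182241002c220a14920000010e1083c0a22a312124092604040018412884a41622020b098811400e6e0004010000409c303c00241081120050009450850200060400000584237905013808081010818601109494136006802d1802878094544224024090c2400644702010a4220619000203ec50418250806402162c0211230a2024a0500190404204483020006404044a8009010420000112e230a612006a0141002340442081343b2200001086803152940c4002a010440520620848aa416909348b450000022a8c1108218181854a40204010008404131)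 (.leaf 0)))) (.node 3 (.node 1 (.leaf 0) (.node 1 (.leaf 0) (.leaf 0))) (.node 2 (.node 1 (.leaf 0) (.leaf 0)) (.node 1 (.leaf 0) (.leaf 0))))) (.node 7 (.node 3 (.node 1 (.leaf 0) (.node 1 (.leaf 0) (.leaf 0))) (.node 2 (.node 1 (.leaf 0) (.leaf 0)) (.node 1 (.leaf 0) (.leaf 0)))) (.node 3 (.node 1 (.leaf 0) (.node 1 (.leaf 0) (.leaf 0))) (.node 2 (.node 1 (.leaf 0) (.leaf 0)) (.node 1 (.leaf 0) (.leaf 0)))))) (.node 14 (.node 7 (.node 3 (.node 1 (.leaf 0) (.node 1 (.leaf 0) (.leaf 0))) (.node 2 (.node 1 (.leaf 0) (.leaf 0)) (.node 1 (.leaf 0) (.leaf 0)))) (.node 3 (.node 1 (.leaf 0) (.node 1 (.leaf 0) (.leaf 0))) (.node 2 (.node 1 (.leaf 0x32040660880c019a0ac0dac260054020c41814c0b0849c4c000162880b90b810202620f037809a28000219a801005008a5001164020001702040020b50031281241d0002080222400c382d101054224d580288802081d08200001840c11608081008110010800271820222800c24060209440020200521080448040d82a010810828840a8040008c0890020c2599804009800484410000110140c0400060100900000084212052b20801000040040b04582001028140c04340991604080303445040146141a6805a152892128591002524c816d00008b058402225c66d2af9)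 (.leaf 0)) (.node 1 (.leaf 0) (.leaf 0))))) (.node 7 (.node 3 (.node 1 (.leaf 0) (.node 1 (.leaf 0) (.leaf 0))) (.node 2 (.node 1 (.leaf 0) (.leaf 0x2e0022384102001100140e40011410241208010200c1223c034189497049188c009222423020a200c04242903540563200530a24018300c88801822c5332c7000d58080000888c02005200020004094a484505005844101288310010408484019e0200b88820818250dca4804400009100904225a001144c54883052a130a20014081c10048612913264040100020d01002101181000040444a024900502000139505200219000052c00ea2841c0084a82851082048248202304091c2c12200108208009248105428400c9a00015934ac41e00600204100a1d82502042409)) (.node 1 (.leaf 0) (.leaf 0)))) (.node 3 (.node 1 (.leaf 0) (.node 1 (.leaf 0) (.leaf 0))) (.node 2 (.node 1 (.leaf 0) (.leaf 0)) (.node 1 (.leaf 0) (.leaf 0)))))))) (.node 56 (.node 28 (.node 14 (.node 7 (.node 3 (.node 1 (.leaf 0) (.node 1 (.leaf 0) (.leaf 0))) (.node 2 (.node 1 (.leaf 0) (.leaf 0)) (.node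 1 (.leaf 0) (.leaf 0)))) (.node 3 (.node 1 (.leaf 0) (.node 1 (.leaf 0) (.leaf 0))) (.node 2 (.node 1 (.leaf 0) (.leaf 0)) (.node 1 (.leaf 0) (.leaf 0))))) (.node 7 (.node 3 (.node 1 (.leaf 0) (.node 1 (.leaf 0) (.leaf 0))) (.node 2 (.node 1 (.leaf 0) (.leaf 0)) (.node 1 (.leaf 0) (.leaf 0)))) (.node 3 (.node 1 (.leaf 0) (.node 1 (.leaf 0) (.leaf 0))) (.node 2 (.node 1 (.leaf 0) (.leaf 0)) (.node 1 (.leaf 0) (.leaf 0)))))) (.node 14 (.node 7 (.node 3 (.node 1 (.leaf 0) (.node 1 (.leaf 0) (.leaf 0))) (.node 2 (.node 1 (.leaf 0) (.leaf 0)) (.node 1 (.leaf 0) (.leaf 0)))) (.node 3 (.node 1 (.leaf 0) (.node 1 (.leaf 0) (.leaf 0))) (.node 2 (.node 1 (.leaf 0) (.leaf 0)) (.node 1 (.leaf 0) (.leaf 0))))) (.node 7 (.node 3 (.node 1 (.leaf 0) (.node 1 (.leaf 0) (.leaf 0))) (.node 2 (.node 1 (.leaf 0) (.leaf 0)) (.node 1 (.leaf 0) (.leaf 0)))) (.node 3 (.node 1 (.leaf 0) (.node 1 (.leaf 0) (.leaf 0)))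 (.node 2 (.node 1 (.leaf 0) (.leaf 0)) (.node 1 (.leaf 0) (.leaf 0))))))) (.node 28 (.node 14 (.node 7 (.node 3 (.node 1 (.leaf 0) (.node 1 (.leaf 0) (.leaf 0))) (.node 2 (.node 1 (.leaf 0) (.leaf 0x30082000a6001020c10000122c45a1042217028225c41100016380800360d00408a800008a0aa4021541022a10200a24081312102460120100000002c0091c845c502c04709210140000c6cc22a000200810023cc400010029051f254048481894430054008130801c1042302d16b60022022880001849202043a00602d8400c624822002a6300501404a1111264080100050a01288a0006827400c020a40c0c080210011044648312a4330800104428123088080c4b84064e1200064d01a380903040400d00850601268236047b0824251002203004002411099423064006)) (.node 1 (.leaf 0) (.leaf 0)))) (.node 3 (.node 1 (.leaf 0x3508b002040282401048601032a4828000008014042200010203a08401f22808601024102c000100285090962488024861854823058203054990c200005086800841008000100900000230300254079841401d66198084042510e90600101a06806200026920010808900682000402408482a0008281e00648048010000d6c81b4208cc024020130025c0ca010000858c819d0009c80f552001698292311041288487444021901090a284080040316800580010a0a142904d08a820431081140a0a002108210007308100b7a98d7480004400248214b490242300955014a05)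 (.node 1 (.leaf 0) (.leaf 0))) (.node 2 (.node 1 (.leaf 0) (.leaf 0)) (.node 1 (.leaf 0) (.leaf 0))))) (.node 7 (.node 3 (.node 1 (.leaf 0) (.node 1 (.leaf 0x4a5408211100540b0102a848481404410080540004060cf60020654d83a0802410009808002880a80691434920880020662022004001280098148005210408950247aa5f1168a0e0200251310ce1c580053021744080a2082113d43004010020c0e814210c008241a0160000200014095089120a19410aaaaa484802239011104a105040100210000012a04228a0601880e0000318080a1028100054581004224000304036000486816314901055402b000440020c242015440832086284981a01d00a0000342006150276300866040106690509103200200080108a205) (.leaf 0))) (.node 2 (.node 1 (.leaf 0) (.leaf 0)) (.node 1 (.leaf 0) (.leaf 0)))) (.node 3 (.node 1 (.leaf 0) (.node 1 (.leaf 0) (.leaf 0))) (.node 2 (.node 1 (.leaf 0) (.leaf 0)) (.node 1 (.leaf 0) (.leaf 0)))))) (.node 14 (.node 7 (.node 3 (.node 1 (.leaf 0) (.node 1 (.leaf 0) (.leaf 0))) (.node 2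 (.node 1 (.leaf 0x90004c8c010202140400a0b4102000880204a1415029b0050808a88819a800050010113004c898c824148040800012261304080803286a38010d110a9890a411400080d0202dca10182862001303025500c810b084c2c042c476401030288420c29a1822010114881208c01800a08c020200108680800884ca288c20ae1102008839222a465000a03003220810104b40042084800006c0012720091002842058854582004023200500402e118024203401020806092238009084501442e008425451010410c098265a4026400428a080206100584c7a0e080240504840409) (.leaf 0)) (.node 1 (.leaf 0) (.leaf 0)))) (.node 3 (.node 1 (.leaf 0) (.node 1 (.leaf 0) (.leaf 0))) (.node 2 (.node 1 (.leaf 0) (.leaf 0)) (.node 1 (.leaf 0) (.leaf 0))))) (.node 7 (.node 3 (.node 1 (.leaf 0) (.node 1 (.leaf 0) (.leaf 0))) (.node 2 (.node 1 (.leaf 0) (.leaf 0)) (.node 1 (.leaf 0x28080d1808012600308c5484621600843088c44462070083a08914b22480462004041880480132000880810801e34848160381218681a2c080200209122888204075104020a1302894505c1000094490802113916041440002ce40800045008212000800001100811214880120a008002031282021c04a62106610440f2406022002110a004806108300000040034884020100901224c8a41110880286040906220001200882080c00050c682cefa631082451304284840002460005c116564821040b23140410900090800c43240129208824452644e454e22041110093d)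 (.leaf 0)))) (.node 3 (.node 1 (.leaf 0) (.node 1 (.leaf 0) (.leaf 0))) (.node 2 (.node 1 (.leaf 0) (.leaf 0)) (.node 1 (.leaf 0) (.leaf 0)))))))))) (.node 223 (.node 111 (.node 55 (.node 27 (.node 13 (.node 6 (.node 3 (.node 1 (.leaf 0) (.node 1 (.leaf 0) (.leaf 0))) (.node 1 (.leaf 0) (.node 1 (.leaf 0) (.leaf 0)))) (.node 3 (.node 1 (.leaf 0) (.node 1 (.leaf 0) (.leaf 0))) (.node 2 (.node 1 (.leaf 0) (.leaf 0x602480004260a21a201146000820fe00200020a74589a01000f0820115e3430004000a404228100221001024940d060203c14085048a00322481100140408448040419b06945c206018000028800611400a124494a0020204004d00c00402004406169c080d6120a9202794402408040801c0010020069901043fc800900a000732001404c040048d01085808040283837048c063002180c8c44641220040512106600020cc30de20226040420c5062a219ee070042006073018098822610010106e0c048b8c66002000d08304068401004a00091001220000080450a3241)) (.node 1 (.leaf 0) (.leaf 0))))) (.node 7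 (.node 3 (.node 1 (.leaf 0) (.node 1 (.leaf 0) (.leaf 0))) (.node 2 (.node 1 (.leaf 0) (.leaf 0)) (.node 1 (.leaf 0x320012300120020004204002312e11084480418c480000003831008031101003030066206447984064010004810120b83208842008839800103a20c0ca8848820027710900050466400036012408656c03280b1086b009700c11080002094caa409006804084441044404201c20c46800020c01d8520810210a802101190050104188005400082003000508088221045400200630300340c004028300a05c9485040832a5c04c0469088c3540a0080058c80032000988620425581a460246337100881882180a8f640218312801190c0564a0a004c00080109082b08808c01) (.leaf 0)))) (.node 3 (.node 1 (.leaf 0) (.node 1 (.leaf 0) (.leaf 0))) (.node 2 (.node 1 (.leaf 0) (.leaf 0)) (.node 1 (.leaf 0) (.leaf 0)))))) (.node 14 (.node 7 (.node 3 (.node 1 (.leaf 0) (.node 1 (.leaf 0) (.leaf 0))) (.node 2 (.node 1 (.leaf 0) (.leaf 0)) (.node 1 (.leaf 0) (.leaf 0)))) (.node 3 (.node 1 (.leaf 0) (.node 1 (.leaf 0)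 (.leaf 0))) (.node 2 (.node 1 (.leaf 0) (.leaf 0)) (.node 1 (.leaf 0) (.leaf 0))))) (.node 7 (.node 3 (.node 1 (.leaf 0) (.node 1 (.leaf 0) (.leaf 0))) (.node 2 (.node 1 (.leaf 0) (.leaf 0)) (.node 1 (.leaf 0) (.leaf 0)))) (.node 3 (.node 1 (.leaf 0) (.node 1 (.leaf 0) (.leaf 0))) (.node 2 (.node 1 (.leaf 0) (.leaf 0)) (.node 1 (.leaf 0) (.leaf 0))))))) (.node 28 (.node 14 (.node 7 (.node 3 (.node 1 (.leaf 0) (.node 1 (.leaf 0) (.leaf 0))) (.node 2 (.node 1 (.leaf 0) (.leaf 0)) (.node 1 (.leaf 0) (.leaf 0)))) (.node 3 (.node 1 (.leaf 0) (.node 1 (.leaf 0) (.leaf 0))) (.node 2 (.node 1 (.leaf 0) (.leaf 0)) (.node 1 (.leaf 0x61a0c4000aa20580c0421110113400239416420444201211014000805010814d2660a5041400100300361006091c60a01c08416f2242008105201090050165108040204200080a1093221a20c81288021010e00001000022889000010011100065e0c2c43004681241041122020458128087000d896008c800c6930600400025080280285c0050000004104822080474356204102c0486163992e88104002a9a320420306c34021c4880008150004684c24142460624280429412446180450a901004801004314040968a0c4405408d003a08c419440c301080840c081205)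 (.leaf 0x30a5ac847801804630200030c220405466d8320004410292903408068a038648903200860a01080400000000196421204008000807d2121010800004400b04160008c7218061408000b21b84020000310400900002000000c56003004869404208989901a1008710800704469202059029805a814013725c00006440130020b80040600005b0a10e012144237148048c22240008026e007288000108800041c06004840488450a22cca0b0088584138410401e8800dc0300c84186e1240d18702040100820b00fa020011f5c0033c000818000c02021967150020120080803))))) (.node 7 (.node 3 (.node 1 (.leaf 0) (.node 1 (.leaf 0) (.leaf 0))) (.node 2 (.node 1 (.leaf 0) (.leaf 0)) (.node 1 (.leaf 0) (.leaf 0)))) (.node 3 (.node 1 (.leaf 0) (.node 1 (.leaf 0) (.leaf 0))) (.node 2 (.node 1 (.leaf 0) (.leaf 0)) (.node 1 (.leaf 0) (.leaf 0)))))) (.node 14 (.node 7 (.node 3 (.node 1 (.leaf 0) (.node 1 (.leaf 0) (.leaf 0))) (.node 2 (.node 1 (.leaf 0) (.leaf 0)) (.node 1 (.leaf 0) (.leaf 0)))) (.node 3 (.node 1 (.leaf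 0) (.node 1 (.leaf 0) (.leaf 0))) (.node 2 (.node 1 (.leaf 0) (.leaf 0)) (.node 1 (.leaf 0) (.leaf 0))))) (.node 7 (.node 3 (.node 1 (.leaf 0) (.node 1 (.leaf 0) (.leaf 0))) (.node 2 (.node 1 (.leaf 0) (.leaf 0)) (.node 1 (.leaf 0) (.leaf 0)))) (.node 3 (.node 1 (.leaf 0) (.node 1 (.leaf 0) (.leaf 0))) (.node 2 (.node 1 (.leaf 0) (.leaf 0)) (.node 1 (.leaf 0) (.leaf 0)))))))) (.node 56 (.node 28 (.node 14 (.node 7 (.node 3 (.node 1 (.leaf 0) (.node 1 (.leaf 0) (.leaf 0))) (.node 2 (.node 1 (.leaf 0) (.leaf 0)) (.node 1 (.leaf 0) (.leaf 0)))) (.node 3 (.node 1 (.leaf 0) (.node 1 (.leaf 0) (.leaf 0))) (.node 2 (.node 1 (.leaf 0) (.leaf 0)) (.node 1 (.leaf 0) (.leaf 0))))) (.node 7 (.node 3 (.node 1 (.leaf 0) (.node 1 (.leaf 0) (.leaf 0))) (.node 2 (.node 1 (.leaf 0) (.leaf 0)) (.node 1 (.leaf 0) (.leaf 0)))) (.node 3 (.node 1 (.leaf 0) (.node 1 (.leaf 0) (.leaf 0))) (.node 2 (.node 1 (.leaf 0)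 (.leaf 0)) (.node 1 (.leaf 0) (.leaf 0)))))) (.node 14 (.node 7 (.node 3 (.node 1 (.leaf 0) (.node 1 (.leaf 0) (.leaf 0))) (.node 2 (.node 1 (.leaf 0) (.leaf 0)) (.node 1 (.leaf 0) (.leaf 0)))) (.node 3 (.node 1 (.leaf 0) (.node 1 (.leaf 0) (.leaf 0))) (.node 2 (.node 1 (.leaf 0) (.leaf 0)) (.node 1 (.leaf 0) (.leaf 0))))) (.node 7 (.node 3 (.node 1 (.leaf 0) (.node 1 (.leaf 0) (.leaf 0))) (.node 2 (.node 1 (.leaf 0) (.leaf 0)) (.node 1 (.leaf 0) (.leaf 0)))) (.node 3 (.node 1 (.leaf 0) (.node 1 (.leaf 0) (.leaf 0x200908820a004818081a1640890808048005108130005010847a24b0c28ca8c45a0004043003201404162004100182510025200c041088821105002e47c6434664140282e8081101a0508828580000684840008588000020080441820d021708490000e8987844501a0000018264600308aa92122b3034c8508cab16000034020025000916202091044024808080231890200c0a03828031203104080c50e820e00410052140a084076420100880e512050921b001010489aa0c840890100901904302108d20902110c040404400c202071806804c0840348c500508100809)))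 (.node 2 (.node 1 (.leaf 0) (.leaf 0)) (.node 1 (.leaf 0) (.leaf 0))))))) (.node 28 (.node 14 (.node 7 (.node 3 (.node 1 (.leaf 0x200014c144804108c0064340d401051000011880041000000000f60c3ab041040340048404014aa000e0761084400304a0e12220844002689804a9328689005000269000828480c08102048d52d00100100b915480402104c4e14420410c0ec002800201000000500011c4100812000088000060604003874808240014a0c0400120470d28505b03a340c8c080282c0062b821100311501a90200000d50a0046a42998200001066102c284102b500080a6a0a527522481640801200b4040c091c80000600e4036080ae2a2b1c89f102400090601222f0000980cc6000d003) (.node 1 (.leaf 0) (.leaf 0))) (.node 2 (.node 1 (.leaf 0) (.leaf 0)) (.node 1 (.leaf 0) (.leaf 0)))) (.node 3 (.node 1 (.leaf 0) (.node 1 (.leaf 0) (.leaf 0))) (.node 2 (.node 1 (.leaf 0) (.leaf 0)) (.node 1 (.leaf 0) (.leaf 0))))) (.node 7 (.node 3 (.node 1 (.leaf 0) (.node 1 (.leaf 0) (.leaf 0))) (.node 2 (.node 1 (.leaf 0)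 (.leaf 0)) (.node 1 (.leaf 0) (.leaf 0)))) (.node 3 (.node 1 (.leaf 0) (.node 1 (.leaf 0) (.leaf 0))) (.node 2 (.node 1 (.leaf 0) (.leaf 0)) (.node 1 (.leaf 0x22644420108d48441204e02f7108243840184800a080000104a82806008281884a450100800108198d030c30404f5004cc058e1009002000010802462c010c2410462200806319c0c248820c0800801122263470e8901010503282406101400040080814c8001824c06878489c00c26412900c41060204004034a4f048037c4040e1a2cc020008000204980081a000091940102132002504001c2180098031184d004a4003b500100021004001110bb20029012002011ab940e0102c600000d200159440602c109a41103000540a08e1000281280845042a84808008505031) (.leaf 0)))))) (.node 14 (.node 7 (.node 3 (.node 1 (.leaf 0) (.node 1 (.leaf 0) (.leaf 0))) (.node 2 (.node 1 (.leaf 0) (.leaf 0x38d00088120100001040c1c400078005a051d0005808000ca8082000a1618280744db0010c98000450481f40c20800061b4000000d116522000207f0a080e3d387239200188001020008e801c0cfc0bae20102101907a04e180800010c8000001806669000107880200013b0bf580300102040040000067812f0778010400801014108400429806010980000080008030738030802004000c838130000004002601cc20410c024009c148002800001c102401084020c001089285f1000000980024188a40601005e0003005228f0d1850020713896480021004a1145eb7f63))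 (.node 1 (.leaf 0) (.leaf 0)))) (.node 3 (.node 1 (.leaf 0) (.node 1 (.leaf 0) (.leaf 0))) (.node 2 (.node 1 (.leaf 0) (.leaf 0)) (.node 1 (.leaf 0) (.leaf 0))))) (.node 7 (.node 3 (.node 1 (.leaf 0) (.node 1 (.leaf 0) (.leaf 0))) (.node 2 (.node 1 (.leaf 0) (.leaf 0)) (.node 1 (.leaf 0) (.leaf 0)))) (.node 3 (.node 1 (.leaf 0) (.node 1 (.leaf 0) (.leaf 0))) (.node 2 (.node 1 (.leaf 0) (.leaf 0)) (.node 1 (.leaf 0) (.leaf 0))))))))) (.node 111 (.node 55 (.node 27 (.node 13 (.node 6 (.node 3 (.node 1 (.leaf 0) (.node 1 (.leaf 0) (.leaf 0))) (.node 1 (.leaf 0) (.node 1 (.leaf 0) (.leaf 0)))) (.node 3 (.node 1 (.leaf 0) (.node 1 (.leaf 0) (.leaf 0))) (.node 2 (.node 1 (.leaf 0) (.leaf 0)) (.node 1 (.leaf 0) (.leaf 0))))) (.node 7 (.node 3 (.node 1 (.leaf 0) (.node 1 (.leaf 0x26018cf2340110120120042200003c0090000600080005810545481205605183008c5003340420444a160400a10e180a400909002a0804802368e8012800c001e84511048208cf421030218002a2301e140208000a010832c20241138c4222014021c010860109040100085001200e5450a4008a08600c090a09c82010894050125480820221502004202c411810c9621411b21208410ac0018b02184400a0880824005000004c4146300420095360830a00c249808049345051481d02000325924404000d5490c0a810821000330d0904f804000076405514040230220081)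 (.leaf 0))) (.node 2 (.node 1 (.leaf 0) (.leaf 0)) (.node 1 (.leaf 0) (.leaf 0x39d11a8b80c41200120c100d00200885a00068608000126e00c2d3680002558018000010090024209282150006010219400184a02d0054ea00c21381200040402634000a0c8b3b10baa2160020000a100000d2527e290043100109326800ac003804420431064220200000000031480950300103882f7d14000088000fc408c4010400241e0200c0a40284242000110000020176400050be0200000c1000300200820024402104008400000b6a08b8ac083500b81014000c05000000244a943f219812001881821401361f00800320444a738065780056464a00400184e60f)))) (.node 3 (.node 1 (.leaf 0) (.node 1 (.leaf 0) (.leaf 0))) (.node 2 (.node 1 (.leaf 0) (.leaf 0x291c5040408250000008102308082012047505064aa90ad800002222e010a4249d104d04151a0207410009e200041432108c8023008c02008080150000867126423000c5518a2312340830802818120c89304401080829400831220843092001402a80a30501008141500c12022f8e020000308660004841842840211000680502120074000a18040223028060001c0045141060260800308d04842200402024050160c100a00184a88468000506418e013260012342ff82100010008800002caa30c8048080084744f0200c01ca8420480cac042c70c00581882902082022))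 (.node 1 (.leaf 0) (.leaf 0)))))) (.node 14 (.node 7 (.node 3 (.node 1 (.leaf 0) (.node 1 (.leaf 0) (.leaf 0))) (.node 2 (.node 1 (.leaf 0) (.leaf 0)) (.node 1 (.leaf 0) (.leaf 0)))) (.node 3 (.node 1 (.leaf 0) (.node 1 (.leaf 0) (.leaf 0))) (.node 2 (.node 1 (.leaf 0) (.leaf 0)) (.node 1 (.leaf 0) (.leaf 0))))) (.node 7 (.node 3 (.node 1 (.leaf 0) (.node 1 (.leaf 0) (.leaf 0))) (.node 2 (.node 1 (.leaf 0) (.leaf 0)) (.node 1 (.leaf 0) (.leaf 0)))) (.node 3 (.node 1 (.leaf 0) (.node 1 (.leaf 0) (.leaf 0))) (.node 2 (.node 1 (.leaf 0) (.leaf 0)) (.node 1 (.leaf 0) (.leaf 0))))))) (.node 28 (.node 14 (.node 7 (.node 3 (.node 1 (.leaf 0) (.node 1 (.leaf 0) (.leaf 0))) (.node 2 (.node 1 (.leaf 0) (.leaf 0)) (.node 1 (.leaf 0) (.leaf 0)))) (.node 3 (.node 1 (.leaf 0) (.node 1 (.leaf 0) (.leaf 0))) (.node 2 (.node 1 (.leaf 0) (.leaf 0)) (.node 1 (.leaf 0) (.leaf 0))))) (.node 7 (.node 3 (.node 1 (.leaf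 0) (.node 1 (.leaf 0xca0142000520c20806082930a306806050201802b00a2ac290b8300702598104082421590d1da003050804008800600e8a0902802000202031900800900f8a005240821684880a10694202232022030444230031221040010101005486014c0062204c004c00a20220004a8a0001cad131188000802800350220109c060243208c10008089c6214a40a2c210930062033093001a32815922842b0229110985444a004010e00102000486001201020281000804282085048a000462122130600a094208282000124044102a820e070f5226812210054001ec504c008290010) (.leaf 0))) (.node 2 (.node 1 (.leaf 0) (.leaf 0)) (.node 1 (.leaf 0) (.leaf 0)))) (.node 3 (.node 1 (.leaf 0) (.node 1 (.leaf 0) (.leaf 0))) (.node 2 (.node 1 (.leaf 0) (.leaf 0)) (.node 1 (.leaf 0) (.leaf 0)))))) (.node 14 (.node 7 (.node 3 (.node 1 (.leaf 0) (.node 1 (.leaf 0) (.leaf 0))) (.node 2 (.node 1 (.leaf 0) (.leaf 0)) (.node 1 (.leaf 0) (.leaf 0)))) (.node 3 (.node 1 (.leaf 0) (.node 1 (.leaf 0) (.leaf 0))) (.node 2 (.node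 1 (.leaf 0) (.leaf 0)) (.node 1 (.leaf 0) (.leaf 0))))) (.node 7 (.node 3 (.node 1 (.leaf 0x419443302080d022a28035031023024001403012444506c100214084ae202202248220000120403800840c022c20480440285142104008648e80801ec1405308604c20dc4400220280410024006422b026008109042242410400962881b11978600100808040e0865180a300c0a8408058938605001918303831650112b214444021d00088852060360881a10c003880291001801101800a000150422409e460a00028000090800d30050e480000a064090a290418008400030151005c82002634a000119800c4784428040000a843071a2002502c58040242005ac101409) (.node 1 (.leaf 0) (.leaf 0))) (.node 2 (.node 1 (.leaf 0) (.leaf 0)) (.node 1 (.leaf 0) (.leaf 0)))) (.node 3 (.node 1 (.leaf 0) (.node 1 (.leaf 0) (.leaf 0))) (.node 2 (.node 1 (.leaf 0) (.leaf 0)) (.node 1 (.leaf 0) (.leaf 0)))))))) (.node 56 (.node 28 (.node 14 (.node 7 (.node 3 (.node 1 (.leaf 0) (.node 1 (.leaf 0) (.leaf 0))) (.node 2 (.node 1 (.leaf 0) (.leaf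 0)) (.node 1 (.leaf 0) (.leaf 0)))) (.node 3 (.node 1 (.leaf 0) (.node 1 (.leaf 0) (.leaf 0))) (.node 2 (.node 1 (.leaf 0) (.leaf 0)) (.node 1 (.leaf 0) (.leaf 0))))) (.node 7 (.node 3 (.node 1 (.leaf 0) (.node 1 (.leaf 0) (.leaf 0))) (.node 2 (.node 1 (.leaf 0) (.leaf 0)) (.node 1 (.leaf 0) (.leaf 0)))) (.node 3 (.node 1 (.leaf 0) (.node 1 (.leaf 0) (.leaf 0))) (.node 2 (.node 1 (.leaf 0) (.leaf 0)) (.node 1 (.leaf 0) (.leaf 0)))))) (.node 14 (.node 7 (.node 3 (.node 1 (.leaf 0) (.node 1 (.leaf 0) (.leaf 0))) (.node 2 (.node 1 (.leaf 0) (.leaf 0)) (.node 1 (.leaf 0) (.leaf 0)))) (.node 3 (.node 1 (.leaf 0) (.node 1 (.leaf 0) (.leaf 0))) (.node 2 (.node 1 (.leaf 0) (.leaf 0)) (.node 1 (.leaf 0) (.leaf 0))))) (.node 7 (.node 3 (.node 1 (.leaf 0) (.node 1 (.leaf 0) (.leaf 0))) (.node 2 (.node 1 (.leaf 0) (.leaf 0)) (.node 1 (.leaf 0) (.leaf 0)))) (.node 3 (.node 1 (.leaf 0) (.node 1 (.leaf 0) (.leaf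 0))) (.node 2 (.node 1 (.leaf 0) (.leaf 0)) (.node 1 (.leaf 0) (.leaf 0))))))) (.node 28 (.node 14 (.node 7 (.node 3 (.node 1 (.leaf 0) (.node 1 (.leaf 0) (.leaf 0))) (.node 2 (.node 1 (.leaf 0) (.leaf 0)) (.node 1 (.leaf 0) (.leaf 0)))) (.node 3 (.node 1 (.leaf 0) (.node 1 (.leaf 0) (.leaf 0))) (.node 2 (.node 1 (.leaf 0) (.leaf 0)) (.node 1 (.leaf 0) (.leaf 0))))) (.node 7 (.node 3 (.node 1 (.leaf 0) (.node 1 (.leaf 0) (.leaf 0))) (.node 2 (.node 1 (.leaf 0) (.leaf 0)) (.node 1 (.leaf 0x80410d8492206980500831090089a411a1006211540184013800042008720021802d40c4502a01a208040040d08d248c0c00800010ae50000c80101e8800510954d964180102182600843fd94e00440200a4200425a2404061812000202802e002b0060200f1640c12c3c20880100006193421305151528b0004209800440200a400004040a080233283a18018200240a00010410e180250401c0011c8007a06da318000e02030140013c88224024248329000f028488030b004206c1c0222081422822804014140a40028a081010842001404200020504a0d86112042409)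 (.leaf 0)))) (.node 3 (.node 1 (.leaf 0) (.node 1 (.leaf 0) (.leaf 0))) (.node 2 (.node 1 (.leaf 0) (.leaf 0)) (.node 1 (.leaf 0) (.leaf 0)))))) (.node 14 (.node 7 (.node 3 (.node 1 (.leaf 0) (.node 1 (.leaf 0) (.leaf 0))) (.node 2 (.node 1 (.leaf 0) (.leaf 0)) (.node 1 (.leaf 0) (.leaf 0)))) (.node 3 (.node 1 (.leaf 0) (.node 1 (.leaf 0) (.leaf 0))) (.node 2 (.node 1 (.leaf 0) (.leaf 0x2c014c6140004006202a100045443a823404030700a171101112002d400200986923202803401402086bc001100018970100040284120312d010fa100130c0d02109104602cc9043a4840480644c00002082308011321088260191000084c0008345800000006005800d62ec0120225222200c70083205502010485010320f0100800045dc4208b0c42d0c402c4c4820661004404802c8010070400848a5000b110856050d06086308004014f20ca0114101404092a2020a800002220a500081020004812a04c3006c40240610ac04682082010a0090a60181002705104809)) (.node 1 (.leaf 0) (.leaf 0))))) (.node 7 (.node 3 (.node 1 (.leaf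 0) (.node 1 (.leaf 0) (.leaf 0))) (.node 2 (.node 1 (.leaf 0x12403098808ca000e602821800760e00054201881888080459804008021f1a024109400480209040811901008408415908c8135110481484001800956615400601154110100c432701a00d39112a000284190441408010201402200810750007480c14234a8200084651a80083150a00a14509493850604c6802285088223881240ce0204504c40220099ea401402c92600006004c18a80008085010049243f004040c000413850014000088084000084002041c84206b58028c04048104209020001402200c0d1b0a851120500022b56c100020212c8803840020c0c031) (.leaf 0)) (.node 1 (.leaf 0) (.leaf 0)))) (.node 3 (.node 1 (.leaf 0) (.node 1 (.leaf 0) (.leaf 0))) (.node 2 (.node 1 (.leaf 0) (.leaf 0)) (.node 1 (.leaf 0) (.leaf 0))))))))))) (.node 445 (.node 222 (.node 111 (.node 55 (.node 27 (.node 13 (.node 6 (.node 3 (.node 1 (.leaf 0) (.node 1 (.leaf 0) (.leaf 0))) (.node 1 (.leaf 0) (.node 1 (.leaf 0) (.leaf 0)))) (.node 3 (.node 1 (.leaf 0) (.node 1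 (.leaf 0) (.leaf 0))) (.node 2 (.node 1 (.leaf 0) (.leaf 0)) (.node 1 (.leaf 0x37a10860020601241c638031928803022928c0041001432807800104108440004548000246005900021042810801c2044401400825104800e40856010802c100618a032c80002c1043202100d0e64219202482b5449008022014680802580a620508009580a01820100502203120718804020138100280005982180c1a20c4060048220400a00bd06b094a20100c0c0940142a88810809061306000a41901726102422c0480030801206a40020814820c40080160011680151100240b50c74200db449aa504000020000ed121c015c3f1c00411900007820011800860000a) (.leaf 0))))) (.node 7 (.node 3 (.node 1 (.leaf 0) (.node 1 (.leaf 0) (.leaf 0))) (.node 2 (.node 1 (.leaf 0) (.leaf 0)) (.node 1 (.leaf 0) (.leaf 0)))) (.node 3 (.node 1 (.leaf 0) (.node 1 (.leaf 0) (.leaf 0))) (.node 2 (.node 1 (.leaf 0) (.leaf 0)) (.node 1 (.leaf 0) (.leaf 0)))))) (.node 14 (.node 7 (.node 3 (.node 1 (.leaf 0) (.node 1 (.leaf 0) (.leaf 0))) (.node 2 (.node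 1 (.leaf 0) (.leaf 0)) (.node 1 (.leaf 0xc1205402844c0010485524aa484402418404121404800912010c081023100880e060330281008b000010098052821400168c08901041805042c00a51011841202819259956309003a88688240c40042404421f0040220104a80254084052020a40408278301058420a843445190420d30c1048056040002520c501c108805111422640900010002149240688c0626418b040005202d00005184832120220003288800220211050284ac700280801e00713854228401d1496000d40004047008022108c5018b100d0002800e040894204880541208e004080091c8000a406) (.leaf 0)))) (.node 3 (.node 1 (.leaf 0) (.node 1 (.leaf 0) (.leaf 0))) (.node 2 (.node 1 (.leaf 0) (.leaf 0)) (.node 1 (.leaf 0) (.leaf 0))))) (.node 7 (.node 3 (.node 1 (.leaf 0) (.node 1 (.leaf 0) (.leaf 0x2b0cb088108002111b4504002261a2c921050134400084146225031021009204a01005445406a520400170a8404000140060080b0083308b028d13000a42890000404030202408a001004008e4120400a4018142642408010120022515300e2410040426a1128881080041308d160b001642e20000a0060a0520035000a021042109a940911600600481410414082402d514665528e00003800094248810100c1047c0800894e26d01c600100466088740021a05808088493042e214001e5820a2800502383108014014301ac00001d000be0000098d0203200880100818c)))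 (.node 2 (.node 1 (.leaf 0) (.leaf 0)) (.node 1 (.leaf 0) (.leaf 0)))) (.node 3 (.node 1 (.leaf 0) (.node 1 (.leaf 0) (.leaf 0))) (.node 2 (.node 1 (.leaf 0) (.leaf 0)) (.node 1 (.leaf 0) (.leaf 0))))))) (.node 28 (.node 14 (.node 7 (.node 3 (.node 1 (.leaf 0) (.node 1 (.leaf 0) (.leaf 0))) (.node 2 (.node 1 (.leaf 0) (.leaf 0)) (.node 1 (.leaf 0) (.leaf 0)))) (.node 3 (.node 1 (.leaf 0) (.node 1 (.leaf 0) (.leaf 0))) (.node 2 (.node 1 (.leaf 0) (.leaf 0)) (.node 1 (.leaf 0) (.leaf 0))))) (.node 7 (.node 3 (.node 1 (.leaf 0) (.node 1 (.leaf 0) (.leaf 0))) (.node 2 (.node 1 (.leaf 0) (.leaf 0)) (.node 1 (.leaf 0) (.leaf 0x2804446141609c6591411000040202218830450300211400620115558106410800000a0c0c0a020110caa4200150280454a051cb0326460020060094317d052535950a42a8c0003055002150000a289511081b14812280c036804040840112008244c6a0b11001001c01800118e0a00060c68a4014006880a40206428c10214080002002410088a0888023008110f01810010280028000920300b146160401088001860544c1e0142068805310a0428a801c0405883c4200d215a10aa22042c0090020801401a06520848118001a0500080090362401000084084000f00499))))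 (.node 3 (.node 1 (.leaf 0) (.node 1 (.leaf 0) (.leaf 0))) (.node 2 (.node 1 (.leaf 0) (.leaf 0)) (.node 1 (.leaf 0) (.leaf 0)))))) (.node 14 (.node 7 (.node 3 (.node 1 (.leaf 0) (.node 1 (.leaf 0) (.leaf 0))) (.node 2 (.node 1 (.leaf 0) (.leaf 0)) (.node 1 (.leaf 0) (.leaf 0)))) (.node 3 (.node 1 (.leaf 0) (.node 1 (.leaf 0) (.leaf 0))) (.node 2 (.node 1 (.leaf 0) (.leaf 0)) (.node 1 (.leaf 0) (.leaf 0))))) (.node 7 (.node 3 (.node 1 (.leaf 0) (.node 1 (.leaf 0x70b048a0026a000050b32200c0018c9b04062a0001a8c40100129830414688008a2c0039301c02002e08409200019825d900404464020281c82124810100029c0082a020208106100d8181019464a30200c1542002020002a0101c08003020206a0640e008cc7274e000040440b0100a108512e80004850c9050051680e086001089b720500800b24000008011202c3855b2a11890801440001008d028810180000612254c53010007e81808a4c2326004028010018114025514d8b104040000104320300410020363244a14808952880012084200b04200808864009003)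 (.leaf 0))) (.node 2 (.node 1 (.leaf 0) (.leaf 0)) (.node 1 (.leaf 0) (.leaf 0)))) (.node 3 (.node 1 (.leaf 0) (.node 1 (.leaf 0) (.leaf 0))) (.node 2 (.node 1 (.leaf 0) (.leaf 0)) (.node 1 (.leaf 0) (.leaf 0)))))))) (.node 55 (.node 27 (.node 13 (.node 6 (.node 3 (.node 1 (.leaf 0) (.node 1 (.leaf 0) (.leaf 0))) (.node 1 (.leaf 0xc0108d8420448222000012044280004804fc86311001c50080744014c2406400a02199281909111001194c064b022400438a54ea4480040411481028082820819d101f0004844414158240202858210431959092c01011a1224120244c10201a1005020200091c883600c04a00180400430c01a610a820002393482104110845088244c88840200731d426001000084000110478000044893002094402fc060140900080246040051213ca3041c0888000053680160c8060486800611010402108001c086c616280000491a408053001c4121140200408801090d00908409) (.node 1 (.leaf 0) (.leaf 0)))) (.node 3 (.node 1 (.leaf 0) (.node 1 (.leaf 0) (.leaf 0))) (.node 2 (.node 1 (.leaf 0) (.leaf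 0)) (.node 1 (.leaf 0) (.leaf 0))))) (.node 7 (.node 3 (.node 1 (.leaf 0x1a0824281990441426488408120803000060acd0c4a5000002e10645224003c1022084b009400014402c5027aa521644012807101680800a443108310944002cac202ad30010808b35a070082294e2a063041010202650486402400a883108815522180482024000a2030400005010046e4c420022910040002258100810002a20250810410618900030402309864704008000009089040800600644204a40040800620320040e3800a48d0c0212358480300129333004140002501704222007482e00642500200226100cc220100c0c4600328110240802a005c202005852) (.node 1 (.leaf 0) (.leaf 0))) (.node 2 (.node 1 (.leaf 0) (.leaf 0)) (.node 1 (.leaf 0) (.leaf 0x2424024991030a21892490005064080a085380a4601682100d0348180100401990109042284000e744881205860040852023000880445162068c0040424228219420100000300044080140b6420480e06216ac88032307810005945200030102000b202401181018a011448300264440c04312b240002040400dc34801010100008093227210400420211142628184200c249042020091a428290220200714520240043140a8040382cd2222258100b0842ba30008e40211312231080a460a034100202901400800201c104e7302124a100838341040110840c000309ac800))))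 (.node 3 (.node 1 (.leaf 0) (.node 1 (.leaf 0) (.leaf 0))) (.node 2 (.node 1 (.leaf 0) (.leaf 0)) (.node 1 (.leaf 0) (.leaf 0)))))) (.node 14 (.node 7 (.node 3 (.node 1 (.leaf 0) (.node 1 (.leaf 0) (.leaf 0))) (.node 2 (.node 1 (.leaf 0) (.leaf 0)) (.node 1 (.leaf 0) (.leaf 0)))) (.node 3 (.node 1 (.leaf 0) (.node 1 (.leaf 0) (.leaf 0))) (.node 2 (.node 1 (.leaf 0) (.leaf 0)) (.node 1 (.leaf 0) (.leaf 0))))) (.node 7 (.node 3 (.node 1 (.leaf 0) (.node 1 (.leaf 0) (.leaf 0))) (.node 2 (.node 1 (.leaf 0) (.leaf 0)) (.node 1 (.leaf 0) (.leaf 0)))) (.node 3 (.node 1 (.leaf 0) (.node 1 (.leaf 0) (.leaf 0))) (.node 2 (.node 1 (.leaf 0) (.leaf 0)) (.node 1 (.leaf 0) (.leaf 0))))))) (.node 28 (.node 14 (.node 7 (.node 3 (.node 1 (.leaf 0) (.node 1 (.leaf 0) (.leaf 0))) (.node 2 (.node 1 (.leaf 0) (.leaf 0)) (.node 1 (.leaf 0x10008000008c2c2480a3880c1ac20a0840804012a92192869b9300704808240011058100804a0e60182001086141010a61582b4c009105080080200285c4017508b206020a622900840035040291508a2022620a80245d000444221a21261081801200004c8042827021200520026600800107500461290a8180210200680754849ba804891040c02804020812020c239092809106904a80200201480c2400222068400a0040861015603400885502c20142100c2010240620009a04c9229020042264028c3007c0090000040084100087a9900440ca087be2801010000a80)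 (.leaf 0)))) (.node 3 (.node 1 (.leaf 0) (.node 1 (.leaf 0) (.leaf 0))) (.node 2 (.node 1 (.leaf 0) (.leaf 0)) (.node 1 (.leaf 0) (.leaf 0))))) (.node 7 (.node 3 (.node 1 (.leaf 0) (.node 1 (.leaf 0) (.leaf 0))) (.node 2 (.node 1 (.leaf 0) (.leaf 0)) (.node 1 (.leaf 0) (.leaf 0)))) (.node 3 (.node 1 (.leaf 0) (.node 1 (.leaf 0) (.leaf 0))) (.node 2 (.node 1 (.leaf 0) (.leaf 0)) (.node 1 (.leaf 0) (.leaf 0)))))) (.node 14 (.node 7 (.node 3 (.node 1 (.leaf 0) (.node 1 (.leaf 0) (.leaf 0))) (.node 2 (.node 1 (.leaf 0) (.leaf 0)) (.node 1 (.leaf 0) (.leaf 0)))) (.node 3 (.node 1 (.leaf 0) (.node 1 (.leaf 0) (.leaf 0))) (.node 2 (.node 1 (.leaf 0) (.leaf 0)) (.node 1 (.leaf 0) (.leaf 0))))) (.node 7 (.node 3 (.node 1 (.leaf 0) (.node 1 (.leaf 0) (.leaf 0))) (.node 2 (.node 1 (.leaf 0) (.leaf 0)) (.node 1 (.leaf 0) (.leaf 0)))) (.node 3 (.node 1 (.leaf 0) (.node 1 (.leaf 0) (.leaf 0))) (.node 2 (.node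 1 (.leaf 0) (.leaf 0)) (.node 1 (.leaf 0) (.leaf 0))))))))) (.node 111 (.node 55 (.node 27 (.node 13 (.node 6 (.node 3 (.node 1 (.leaf 0) (.node 1 (.leaf 0) (.leaf 0))) (.node 1 (.leaf 0) (.node 1 (.leaf 0) (.leaf 0)))) (.node 3 (.node 1 (.leaf 0x12740004ac00041340416c280000840d0120c230a10222430a24ba4323091000250208221c0c702106b05014210922004200905000ac6000220030c04009828082c820a00020091450020089ac860890c80020090910044441c900228a01847840120140431412c4c180030230a9a2a5200d14c82000d00441020000c480900a231022620284c082040041c643488c2800a9048e011848a918803220036214070984018d0d28051008090814084c00008002c25012a2800a862282109aa00102000b0401a61082401400440004088a60010a0488048806308550050d104809) (.node 1 (.leaf 0) (.leaf 0x262a2940020140c241a24b001c22025080044146014800a000000802da00ec10202a130d2000e1830015a0892b21403200a180a8c40800110000088044ac00a0015a3260e2002240080a1a88540083400c2906188f240411062e6a40050a0051c0482802cf5c0108800220c03292808042048a04188000190480424120443c00e92021012061028008001240aac10056c084100001008810241010113c42d460638885014d48010c00860087146649005220294101101023112c240a02180809501000050482450001041d822020480200094b4001000ce20511412c04021)))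 (.node 2 (.node 1 (.leaf 0) (.leaf 0)) (.node 1 (.leaf 0) (.leaf 0))))) (.node 7 (.node 3 (.node 1 (.leaf 0) (.node 1 (.leaf 0) (.leaf 0))) (.node 2 (.node 1 (.leaf 0) (.leaf 0)) (.node 1 (.leaf 0) (.leaf 0)))) (.node 3 (.node 1 (.leaf 0) (.node 1 (.leaf 0) (.leaf 0))) (.node 2 (.node 1 (.leaf 0) (.leaf 0)) (.node 1 (.leaf 0) (.leaf 0)))))) (.node 14 (.node 7 (.node 3 (.node 1 (.leaf 0) (.node 1 (.leaf 0) (.leaf 0))) (.node 2 (.node 1 (.leaf 0) (.leaf 0)) (.node 1 (.leaf 0) (.leaf 0x88a00e0d282405001081210401840a3094030512e4030580020a1c80886022832124e82200010082100808011263001c125b2c1098814a32201aa00000420a900828e08008001540003530291488000821472292511344301480014099800100032082243042328c0010080018211818531802090000200b0a808418801440095d0000d0b10244343e00680011210c14242020444014e6148c42000e0438800340cc082484488406185051902020c50000480068004e980082001129030c502172000011221a64024083000714080c0264005a0e2d8020008b62d5500080))))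 (.node 3 (.node 1 (.leaf 0) (.node 1 (.leaf 0) (.leaf 0))) (.node 2 (.node 1 (.leaf 0) (.leaf 0)) (.node 1 (.leaf 0) (.leaf 0))))) (.node 7 (.node 3 (.node 1 (.leaf 0) (.node 1 (.leaf 0) (.leaf 0x104c80000932430820442098420c4438584a512f54450658c100a2c49400010400005828044029e211448942413200050264a1040300044010101280091008690c10800061400110201300184050421201601028c1001250000254421844a200000000832004242004280105c3b000132001e3010228d08d92105804441a04080947c069821c42441c0c1091308400a940040a023009598000064203102800030625a208902164281200378005a080020d200203b0800382441a218c54900ca44688000a40809180958000425400052101ea66002052074100220210831108))) (.node 2 (.node 1 (.leaf 0) (.leaf 0)) (.node 1 (.leaf 0) (.leaf 0)))) (.node 3 (.node 1 (.leaf 0) (.node 1 (.leaf 0) (.leaf 0))) (.node 2 (.node 1 (.leaf 0) (.leaf 0)) (.node 1 (.leaf 0) (.leaf 0))))))) (.node 28 (.node 14 (.node 7 (.node 3 (.node 1 (.leaf 0)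 (.node 1 (.leaf 0) (.leaf 0))) (.node 2 (.node 1 (.leaf 0) (.leaf 0)) (.node 1 (.leaf 0) (.leaf 0)))) (.node 3 (.node 1 (.leaf 0) (.node 1 (.leaf 0) (.leaf 0))) (.node 2 (.node 1 (.leaf 0) (.leaf 0)) (.node 1 (.leaf 0) (.leaf 0))))) (.node 7 (.node 3 (.node 1 (.leaf 0) (.node 1 (.leaf 0) (.leaf 0))) (.node 2 (.node 1 (.leaf 0) (.leaf 0)) (.node 1 (.leaf 0) (.leaf 0)))) (.node 3 (.node 1 (.leaf 0) (.node 1 (.leaf 0) (.leaf 0))) (.node 2 (.node 1 (.leaf 0) (.leaf 0)) (.node 1 (.leaf 0) (.leaf 0)))))) (.node 14 (.node 7 (.node 3 (.node 1 (.leaf 0) (.node 1 (.leaf 0) (.leaf 0))) (.node 2 (.node 1 (.leaf 0) (.leaf 0)) (.node 1 (.leaf 0) (.leaf 0)))) (.node 3 (.node 1 (.leaf 0) (.node 1 (.leaf 0) (.leaf 0))) (.node 2 (.node 1 (.leaf 0) (.leaf 0)) (.node 1 (.leaf 0) (.leaf 0))))) (.node 7 (.node 3 (.node 1 (.leaf 0) (.node 1 (.leaf 0) (.leaf 0))) (.node 2 (.node 1 (.leaf 0) (.leaf 0)) (.node 1 (.leaf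 0) (.leaf 0)))) (.node 3 (.node 1 (.leaf 0) (.node 1 (.leaf 0) (.leaf 0))) (.node 2 (.node 1 (.leaf 0) (.leaf 0)) (.node 1 (.leaf 0) (.leaf 0)))))))) (.node 56 (.node 28 (.node 14 (.node 7 (.node 3 (.node 1 (.leaf 0) (.node 1 (.leaf 0) (.leaf 0))) (.node 2 (.node 1 (.leaf 0) (.leaf 0)) (.node 1 (.leaf 0) (.leaf 0)))) (.node 3 (.node 1 (.leaf 0) (.node 1 (.leaf 0) (.leaf 0))) (.node 2 (.node 1 (.leaf 0) (.leaf 0)) (.node 1 (.leaf 0) (.leaf 0))))) (.node 7 (.node 3 (.node 1 (.leaf 0) (.node 1 (.leaf 0) (.leaf 0))) (.node 2 (.node 1 (.leaf 0) (.leaf 0)) (.node 1 (.leaf 0) (.leaf 0)))) (.node 3 (.node 1 (.leaf 0) (.node 1 (.leaf 0) (.leaf 0))) (.node 2 (.node 1 (.leaf 0) (.leaf 0)) (.node 1 (.leaf 0) (.leaf 0)))))) (.node 14 (.node 7 (.node 3 (.node 1 (.leaf 0) (.node 1 (.leaf 0) (.leaf 0))) (.node 2 (.node 1 (.leaf 0) (.leaf 0)) (.node 1 (.leaf 0) (.leaf 0)))) (.node 3 (.node 1 (.leaf 0) (.node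 1 (.leaf 0x80a7f208007a10080290010044318293e40242200200002214004010508004040008c880210c001080309000422008c040c484009804d00249904b28480028a08500869e60060d0480084161205c4882b082008180038019084a24108a000811213303101048a0090089012411c020c482ae8ea0966268a020009022812641c0090a400142009150a3692204200030214400c0a03d08d0c02401000d1410137c00a02cf041100141ca2123160a40232320110230d0080a208c4090802481044ac0102a03c22000100006081066122009082160084e1443050080ca015001) (.leaf 0))) (.node 2 (.node 1 (.leaf 0) (.leaf 0)) (.node 1 (.leaf 0) (.leaf 0))))) (.node 7 (.node 3 (.node 1 (.leaf 0x122a4e6001004815000530411403113f84022000c80481c40006490d840590142608420b8000101000885001082442438800031004001a0128a80048804300cb2050a170a122008143000069020129009800130100305c280b1240056b08aa2a48944a0b28852504120100230c040042101049340002810000e00084c100a302412445d08108ac040e15808020010223002a98c0183ca1004501084112200441a001144000021a110b09280208300d91e141004418904d90f0204885450201217020040461802310548400014250042044225801d47031941230001080301)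 (.node 1 (.leaf 0x11340044004024002820130482108249651089600a042405813b01498000385004428040057008018802a1a0080802008308138054a61d8011029570042810a6400089812d1104002a400048208c19604a0005046000500009e0414a30424b42a2354520540b00396c512005078004810201450120a10082007102d01282908208211108604a40200c542031100a08042041a6220022400464b0000460c205635a90a80002260404c6820021317280c00108420020922064400080442150202800610c41441a18000010011822da03011454c5a29056404480002010360081) (.leaf 0))) (.node 2 (.node 1 (.leaf 0) (.leaf 0)) (.node 1 (.leaf 0) (.leaf 0)))) (.node 3 (.node 1 (.leaf 0) (.node 1 (.leaf 0) (.leaf 0))) (.node 2 (.node 1 (.leaf 0) (.leaf 0)) (.node 1 (.leaf 0) (.leaf 0))))))) (.node 28 (.node 14 (.node 7 (.node 3 (.node 1 (.leaf 0) (.node 1 (.leaf 0) (.leaf 0x2260a0200c70c470c020200f844410452c642c0080400408108845a10018060744086020902c1041006028525e400240202b21a18260200c24642031440460b900c51600608006d32174450001080040301004662303222a00202cad800308080000084029a24010109e8620208047088121110842ba1138801480821002182520d9a132408000020208001a181186d0a2200000000c4122815420121102931a2182424086091042234600c2801200350000028c08835a81c42020448188402105600a8280ab80010084400a820028000800060818810453008133002049a1)))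 (.node 2 (.node 1 (.leaf 0) (.leaf 0)) (.node 1 (.leaf 0) (.leaf 0)))) (.node 3 (.node 1 (.leaf 0) (.node 1 (.leaf 0) (.leaf 0))) (.node 2 (.node 1 (.leaf 0) (.leaf 0)) (.node 1 (.leaf 0) (.leaf 0))))) (.node 7 (.node 3 (.node 1 (.leaf 0) (.node 1 (.leaf 0) (.leaf 0))) (.node 2 (.node 1 (.leaf 0) (.leaf 0)) (.node 1 (.leaf 0) (.leaf 0)))) (.node 3 (.node 1 (.leaf 0) (.node 1 (.leaf 0) (.leaf 0))) (.node 2 (.node 1 (.leaf 0) (.leaf 0)) (.node 1 (.leaf 0) (.leaf 0)))))) (.node 14 (.node 7 (.node 3 (.node 1 (.leaf 0) (.node 1 (.leaf 0) (.leaf 0))) (.node 2 (.node 1 (.leaf 0) (.leaf 0)) (.node 1 (.leaf 0) (.leaf 0)))) (.node 3 (.node 1 (.leaf 0) (.node 1 (.leaf 0) (.leaf 0))) (.node 2 (.node 1 (.leaf 0) (.leaf 0)) (.node 1 (.leaf 0) (.leaf 0))))) (.node 7 (.node 3 (.node 1 (.leaf 0) (.node 1 (.leaf 0) (.leaf 0))) (.node 2 (.node 1 (.leaf 0) (.leaf 0)) (.node 1 (.leaf 0) (.leaf 0)))) (.node 3 (.node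 1 (.leaf 0) (.node 1 (.leaf 0) (.leaf 0))) (.node 2 (.node 1 (.leaf 0) (.leaf 0)) (.node 1 (.leaf 0) (.leaf 0)))))))))) (.node 223 (.node 111 (.node 55 (.node 27 (.node 13 (.node 6 (.node 3 (.node 1 (.leaf 0) (.node 1 (.leaf 0) (.leaf 0))) (.node 1 (.leaf 0) (.node 1 (.leaf 0) (.leaf 0)))) (.node 3 (.node 1 (.leaf 0) (.node 1 (.leaf 0) (.leaf 0))) (.node 2 (.node 1 (.leaf 0) (.leaf 0)) (.node 1 (.leaf 0) (.leaf 0))))) (.node 7 (.node 3 (.node 1 (.leaf 0) (.node 1 (.leaf 0) (.leaf 0))) (.node 2 (.node 1 (.leaf 0) (.leaf 0)) (.node 1 (.leaf 0) (.leaf 0)))) (.node 3 (.node 1 (.leaf 0) (.node 1 (.leaf 0) (.leaf 0))) (.node 2 (.node 1 (.leaf 0) (.leaf 0)) (.node 1 (.leaf 0) (.leaf 0)))))) (.node 14 (.node 7 (.node 3 (.node 1 (.leaf 0) (.node 1 (.leaf 0) (.leaf 0))) (.node 2 (.node 1 (.leaf 0) (.leaf 0)) (.node 1 (.leaf 0) (.leaf 0)))) (.node 3 (.node 1 (.leaf 0) (.node 1 (.leaf 0) (.leaf 0x10484213440084d4c30e080080300902030062b0000cc0488c800a1202c08101a6a500480000520c190221305002a9058840148001038404203002928080014514090106043495806c0244a6c8404012268a8dc2440a0940006004c1881020c3864201429210202153000400821200704b028408310650886c063d201004a060b101093008002058a060492b442108418048c20202024006108020a3200181c285000010825e0d821100c818844202509070004a0100c24004809200862020001015800411949041c0001082028100025c666a0009587205090b3c08b00000)))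 (.node 2 (.node 1 (.leaf 0) (.leaf 0)) (.node 1 (.leaf 0) (.leaf 0))))) (.node 7 (.node 3 (.node 1 (.leaf 0) (.node 1 (.leaf 0) (.leaf 0))) (.node 2 (.node 1 (.leaf 0) (.leaf 0)) (.node 1 (.leaf 0) (.leaf 0)))) (.node 3 (.node 1 (.leaf 0) (.node 1 (.leaf 0) (.leaf 0))) (.node 2 (.node 1 (.leaf 0) (.leaf 0)) (.node 1 (.leaf 0) (.leaf 0))))))) (.node 28 (.node 14 (.node 7 (.node 3 (.node 1 (.leaf 0) (.node 1 (.leaf 0) (.leaf 0))) (.node 2 (.node 1 (.leaf 0) (.leaf 0)) (.node 1 (.leaf 0) (.leaf 0)))) (.node 3 (.node 1 (.leaf 0) (.node 1 (.leaf 0) (.leaf 0))) (.node 2 (.node 1 (.leaf 0) (.leaf 0)) (.node 1 (.leaf 0) (.leaf 0))))) (.node 7 (.node 3 (.node 1 (.leaf 0) (.node 1 (.leaf 0) (.leaf 0))) (.node 2 (.node 1 (.leaf 0) (.leaf 0)) (.node 1 (.leaf 0) (.leaf 0)))) (.node 3 (.node 1 (.leaf 0) (.node 1 (.leaf 0) (.leaf 0))) (.node 2 (.node 1 (.leaf 0) (.leaf 0)) (.node 1 (.leaf 0x20008b0d30454240161901a22c240600100a00088702010100880c204200213431211028020e200c420a1000028004d400124cd2a200c33108a2004918a6611cc4500420820121051291d905000430cc2b8242031d0100100f200224b1300cc0c012120080301304680403180080104012001800348400c48009848032102060604603950441810044444a28815201c40ca90000eb61288000002e9401d028600070800095205280100a2084504000122504000290802402440031e995142e2000b4208180091009040601c420801111504a22b0314026c180a20010170008)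 (.leaf 0)))))) (.node 14 (.node 7 (.node 3 (.node 1 (.leaf 0) (.node 1 (.leaf 0) (.leaf 0))) (.node 2 (.node 1 (.leaf 0) (.leaf 0)) (.node 1 (.leaf 0) (.leaf 0)))) (.node 3 (.node 1 (.leaf 0) (.node 1 (.leaf 0) (.leaf 0))) (.node 2 (.node 1 (.leaf 0) (.leaf 0)) (.node 1 (.leaf 0) (.leaf 0))))) (.node 7 (.node 3 (.node 1 (.leaf 0) (.node 1 (.leaf 0) (.leaf 0))) (.node 2 (.node 1 (.leaf 0) (.leaf 0)) (.node 1 (.leaf 0) (.leaf 0x14100040c0610a020081944520d0f202142042684060888020ca190340a084a608390020105001458004500015882104080290060d0a2109145488402424000128312ad4129026840402080010000d001170e0101cec0001106403010004124a402001da8420149404c60440c80238011000502020cc898e18d126a2910208382a2c804121002e08581100a20010a13149810132203ad0630258110094220420d2201285000058200100020c241002801c1ea1000844221840b0910446e00244480302208b9242000201018940002443820e01180400700130008816041260)))) (.node 3 (.node 1 (.leaf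 0) (.node 1 (.leaf 0) (.leaf 0))) (.node 2 (.node 1 (.leaf 0) (.leaf 0)) (.node 1 (.leaf 0) (.leaf 0)))))))) (.node 56 (.node 28 (.node 14 (.node 7 (.node 3 (.node 1 (.leaf 0) (.node 1 (.leaf 0) (.leaf 0))) (.node 2 (.node 1 (.leaf 0) (.leaf 0)) (.node 1 (.leaf 0) (.leaf 0)))) (.node 3 (.node 1 (.leaf 0) (.node 1 (.leaf 0) (.leaf 0))) (.node 2 (.node 1 (.leaf 0) (.leaf 0)) (.node 1 (.leaf 0) (.leaf 0))))) (.node 7 (.node 3 (.node 1 (.leaf 0) (.node 1 (.leaf 0) (.leaf 0))) (.node 2 (.node 1 (.leaf 0) (.leaf 0)) (.node 1 (.leaf 0) (.leaf 0)))) (.node 3 (.node 1 (.leaf 0) (.node 1 (.leaf 0) (.leaf 0))) (.node 2 (.node 1 (.leaf 0) (.leaf 0)) (.node 1 (.leaf 0) (.leaf 0)))))) (.node 14 (.node 7 (.node 3 (.node 1 (.leaf 0) (.node 1 (.leaf 0) (.leaf 0))) (.node 2 (.node 1 (.leaf 0) (.leaf 0)) (.node 1 (.leaf 0) (.leaf 0)))) (.node 3 (.node 1 (.leaf 0) (.node 1 (.leaf 0) (.leaf 0))) (.node 2 (.node 1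 (.leaf 0) (.leaf 0)) (.node 1 (.leaf 0) (.leaf 0))))) (.node 7 (.node 3 (.node 1 (.leaf 0) (.node 1 (.leaf 0) (.leaf 0))) (.node 2 (.node 1 (.leaf 0) (.leaf 0x88081050420c310400a1008494d019c180a900010941a9f9a8905060e2008086868a09100580048110000402100e960200108a6006800032c20488c050040008422261a3b000a0c132102c0200201340e30000053031184308221580d00062220180022810429513002002408034821189064582d020004898c05040045520000000a20c10c012028040298026a080002500888004680518a88bcc100270420c010201849970158408023454010e0202880000b13b30e0910085568028411020a4081c0032208442818a2c0041028461070062222624000481423000c80a0)) (.node 1 (.leaf 0) (.leaf 0)))) (.node 3 (.node 1 (.leaf 0) (.node 1 (.leaf 0) (.leaf 0))) (.node 2 (.node 1 (.leaf 0) (.leaf 0)) (.node 1 (.leaf 0) (.leaf 0))))))) (.node 28 (.node 14 (.node 7 (.node 3 (.node 1 (.leaf 0) (.node 1 (.leaf 0) (.leaf 0))) (.node 2 (.node 1 (.leaf 0) (.leaf 0)) (.node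 1 (.leaf 0) (.leaf 0)))) (.node 3 (.node 1 (.leaf 0) (.node 1 (.leaf 0) (.leaf 0))) (.node 2 (.node 1 (.leaf 0) (.leaf 0)) (.node 1 (.leaf 0) (.leaf 0))))) (.node 7 (.node 3 (.node 1 (.leaf 0) (.node 1 (.leaf 0) (.leaf 0))) (.node 2 (.node 1 (.leaf 0) (.leaf 0)) (.node 1 (.leaf 0) (.leaf 0)))) (.node 3 (.node 1 (.leaf 0) (.node 1 (.leaf 0) (.leaf 0))) (.node 2 (.node 1 (.leaf 0) (.leaf 0)) (.node 1 (.leaf 0) (.leaf 0x6070880478c1304e00030c400c52210390c820041826008a4200a0104848402421114181210001a01000082020a03120101a0440248e8a84520205183301452301a8001008015b409620e221280108181100112a0280c38484032370420058808100002069c893008100a8320d2070010c802402171484a480600080100240003a129c210cc0c355020b46c080b0280400260cc30282001100d9e4092900108008020041022020000862090002320e243160984948ac324000100a009601400080061c8710400740c05401382044560015ca0602810020820620020d03480)))))) (.node 14 (.node 7 (.node 3 (.node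 1 (.leaf 0) (.node 1 (.leaf 0) (.leaf 0))) (.node 2 (.node 1 (.leaf 0) (.leaf 0)) (.node 1 (.leaf 0) (.leaf 0)))) (.node 3 (.node 1 (.leaf 0) (.node 1 (.leaf 0) (.leaf 0))) (.node 2 (.node 1 (.leaf 0) (.leaf 0)) (.node 1 (.leaf 0) (.leaf 0))))) (.node 7 (.node 3 (.node 1 (.leaf 0) (.node 1 (.leaf 0) (.leaf 0))) (.node 2 (.node 1 (.leaf 0) (.leaf 0)) (.node 1 (.leaf 0) (.leaf 0)))) (.node 3 (.node 1 (.leaf 0) (.node 1 (.leaf 0) (.leaf 0))) (.node 2 (.node 1 (.leaf 0) (.leaf 0)) (.node 1 (.leaf 0) (.leaf 0))))))))) (.node 111 (.node 55 (.node 27 (.node 13 (.node 6 (.node 3 (.node 1 (.leaf 0) (.node 1 (.leaf 0) (.leaf 0))) (.node 1 (.leaf 0) (.node 1 (.leaf 0) (.leaf 0)))) (.node 3 (.node 1 (.leaf 0) (.node 1 (.leaf 0) (.leaf 0))) (.node 2 (.node 1 (.leaf 0) (.leaf 0)) (.node 1 (.leaf 0) (.leaf 0))))) (.node 7 (.node 3 (.node 1 (.leaf 0) (.node 1 (.leaf 0) (.leaf 0))) (.node 2 (.node 1 (.leaf 0)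 (.leaf 0x9698120a1230000d10985420cc222200090088041404862428003042c8800800a0210208101c00580072423400280602b8300141054a8210480281200888c4840502c020001010000a188cba0810101091432206d02002028c8100045d02891aa021000444001434ba0090100110a2501102804210a10142912a987b121088500468d50c0a80a804c042415100822011401400a80022100200106404184400d8041704d80f6424060804085520802a0300c4a7690428902009d8291243400c85280000f100040501a826002dc027220508a002840600848c101008821a0)) (.node 1 (.leaf 0) (.leaf 0)))) (.node 3 (.node 1 (.leaf 0) (.node 1 (.leaf 0) (.leaf 0))) (.node 2 (.node 1 (.leaf 0) (.leaf 0)) (.node 1 (.leaf 0) (.leaf 0)))))) (.node 14 (.node 7 (.node 3 (.node 1 (.leaf 0) (.node 1 (.leaf 0) (.leaf 0))) (.node 2 (.node 1 (.leaf 0) (.leaf 0)) (.node 1 (.leaf 0) (.leaf 0x392140a4480044818066800840200c102808291e1014a42080074bc20480c8b592120c023005210603040440842209041128c040042080c000c24101109d800880000a0844232151008c8008049430c3401008110002244000a0020120c011854841502c108b98d123040a830a018c030800a200104e2821880903e0400eb02412000a4c106a6402425000a03142a4128a4a0401a582118a01a41d120002500100684240271902a44050220209000884190442144b00cf042080003429202280452240a00805004083040184012212545540010804441cc00810210a22181))))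 (.node 3 (.node 1 (.leaf 0) (.node 1 (.leaf 0) (.leaf 0x2204401a41420c00012020220280111308040074e8018116022120023465109490500a9c212d0450462013028129810b084460108c06002d0020253800000402060503224ca00511408482580800331080188a08384a0861a70a1080014410857a4020812420000104920008430817008103064806a0048064006091e22234a4108007481f8003401090224e250d1288c400a810100a0004800480d03420b4a0005920000118586091044082c02000823808942523a2204d00210443040e82130b2101080223040004088220642110462442200202440220c42202091c2201))) (.node 2 (.node 1 (.leaf 0) (.leaf 0)) (.node 1 (.leaf 0) (.leaf 0))))) (.node 7 (.node 3 (.node 1 (.leaf 0) (.node 1 (.leaf 0) (.leaf 0))) (.node 2 (.node 1 (.leaf 0) (.leaf 0)) (.node 1 (.leaf 0x892904060c23448013805420193448100a0b0c6128180009308c420c84020446018e02280298a10188b0421261400018000000453400000003080009a4808140ac88889580012218052400656304078a32825962131880050218b540c84a80228c1016052042820a02402010588208010c4294202b500000ac083213200808a1200a450100822b0c401001824558c020a444064100020861c0b0010c42024900530160085200204902a044c88a110080088c40107c01000246361519820804690240410c3004a66128484000400800612032040001005a803010108080631)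 (.leaf 0)))) (.node 3 (.node 1 (.leaf 0) (.node 1 (.leaf 0) (.leaf 0))) (.node 2 (.node 1 (.leaf 0) (.leaf 0)) (.node 1 (.leaf 0) (.leaf 0))))))) (.node 28 (.node 14 (.node 7 (.node 3 (.node 1 (.leaf 0) (.node 1 (.leaf 0) (.leaf 0))) (.node 2 (.node 1 (.leaf 0) (.leaf 0)) (.node 1 (.leaf 0) (.leaf 0)))) (.node 3 (.node 1 (.leaf 0) (.node 1 (.leaf 0) (.leaf 0))) (.node 2 (.node 1 (.leaf 0) (.leaf 0)) (.node 1 (.leaf 0x2408008090194824994120293828c018210001214806224a100006026c0c2813020d58054900018d68004c23982040100088008009209c068800d00074018a7380010072003430048100104a498010c76040030002e1c14b00121121ccdc0569200040c464a0285940b80030020c324886042a00129360940018000041b0810088180002432100217801cc20242808008210480008942410002c10ad02a420e0910508a205880321b443109c5010801e220807032004028020186810344890241820104005804b000cc45c0108001001220c0940200c040805110040230031) (.leaf 0))))) (.node 7 (.node 3 (.node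 1 (.leaf 0) (.node 1 (.leaf 0) (.leaf 0))) (.node 2 (.node 1 (.leaf 0) (.leaf 0)) (.node 1 (.leaf 0) (.leaf 0)))) (.node 3 (.node 1 (.leaf 0) (.node 1 (.leaf 0) (.leaf 0))) (.node 2 (.node 1 (.leaf 0) (.leaf 0)) (.node 1 (.leaf 0) (.leaf 0)))))) (.node 14 (.node 7 (.node 3 (.node 1 (.leaf 0) (.node 1 (.leaf 0) (.leaf 0))) (.node 2 (.node 1 (.leaf 0) (.leaf 0)) (.node 1 (.leaf 0) (.leaf 0)))) (.node 3 (.node 1 (.leaf 0) (.node 1 (.leaf 0) (.leaf 0))) (.node 2 (.node 1 (.leaf 0) (.leaf 0)) (.node 1 (.leaf 0) (.leaf 0))))) (.node 7 (.node 3 (.node 1 (.leaf 0) (.node 1 (.leaf 0) (.leaf 0))) (.node 2 (.node 1 (.leaf 0) (.leaf 0)) (.node 1 (.leaf 0) (.leaf 0)))) (.node 3 (.node 1 (.leaf 0) (.node 1 (.leaf 0) (.leaf 0))) (.node 2 (.node 1 (.leaf 0) (.leaf 0)) (.node 1 (.leaf 0) (.leaf 0)))))))) (.node 56 (.node 28 (.node 14 (.node 7 (.node 3 (.node 1 (.leaf 0) (.node 1 (.leaf 0) (.leaf 0))) (.node 2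 (.node 1 (.leaf 0) (.leaf 0)) (.node 1 (.leaf 0) (.leaf 0)))) (.node 3 (.node 1 (.leaf 0) (.node 1 (.leaf 0) (.leaf 0))) (.node 2 (.node 1 (.leaf 0) (.leaf 0)) (.node 1 (.leaf 0) (.leaf 0))))) (.node 7 (.node 3 (.node 1 (.leaf 0) (.node 1 (.leaf 0) (.leaf 0))) (.node 2 (.node 1 (.leaf 0) (.leaf 0)) (.node 1 (.leaf 0) (.leaf 0)))) (.node 3 (.node 1 (.leaf 0) (.node 1 (.leaf 0) (.leaf 0))) (.node 2 (.node 1 (.leaf 0) (.leaf 0)) (.node 1 (.leaf 0) (.leaf 0)))))) (.node 14 (.node 7 (.node 3 (.node 1 (.leaf 0x26020941d8122c03062808036089030022803204014688006a2814c0004421818850a15030800440496098a808502d8fb0200488202040a0d65215964208241d0846100004040003c20100008086082c8044acc800411aa00c0000900080480c405d08a081482054e81282c8029a421480800220044183120b40490094c0019000e2000e5631a2a0404000400000c00e8085488a12303221774102050088004104400508014e0a09204e048268110202ba1482004c04100350ae1409a10004204140502c2484007120082000401801690032040003205a802010108080631)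 (.node 1 (.leaf 0) (.leaf 0))) (.node 2 (.node 1 (.leaf 0xa160104658001c9712d0044110c01000c103c84e0041489080c204d1c1618444f80110c000220400001520641602d83d30082248b0a40040460500000028c4461002284c640a40306e005403002100a0040028240834427044088800a50001108114268752010840310100133017b50a48012840aa0e000014f81e880029a02698500013078c2480a400804432e00c08008b0020404100844354205142a115400115042254000040020040008584021e0800002804c1214a0981190b545244000100100100401202533240a9d908090800130006280b00002888860009003) (.leaf 0)) (.node 1 (.leaf 0) (.leaf 0)))) (.node 3 (.node 1 (.leaf 0) (.node 1 (.leaf 0) (.leaf 0))) (.node 2 (.node 1 (.leaf 0) (.leaf 0)) (.node 1 (.leaf 0) (.leaf 0))))) (.node 7 (.node 3 (.node 1 (.leaf 0) (.node 1 (.leaf 0) (.leaf 0))) (.node 2 (.node 1 (.leaf 0) (.leaf 0)) (.node 1 (.leaf 0) (.leaf 0)))) (.node 3 (.node 1 (.leaf 0) (.node 1 (.leaf 0) (.leaf 0))) (.node 2 (.node 1 (.leaf 0)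 (.leaf 0)) (.node 1 (.leaf 0) (.leaf 0))))))) (.node 28 (.node 14 (.node 7 (.node 3 (.node 1 (.leaf 0) (.node 1 (.leaf 0) (.leaf 0))) (.node 2 (.node 1 (.leaf 0) (.leaf 0)) (.node 1 (.leaf 0) (.leaf 0)))) (.node 3 (.node 1 (.leaf 0) (.node 1 (.leaf 0) (.leaf 0))) (.node 2 (.node 1 (.leaf 0) (.leaf 0)) (.node 1 (.leaf 0) (.leaf 0))))) (.node 7 (.node 3 (.node 1 (.leaf 0) (.node 1 (.leaf 0) (.leaf 0))) (.node 2 (.node 1 (.leaf 0) (.leaf 0)) (.node 1 (.leaf 0) (.leaf 0)))) (.node 3 (.node 1 (.leaf 0) (.node 1 (.leaf 0) (.leaf 0))) (.node 2 (.node 1 (.leaf 0) (.leaf 0)) (.node 1 (.leaf 0) (.leaf 0)))))) (.node 14 (.node 7 (.node 3 (.node 1 (.leaf 0) (.node 1 (.leaf 0) (.leaf 0))) (.node 2 (.node 1 (.leaf 0) (.leaf 0)) (.node 1 (.leaf 0) (.leaf 0)))) (.node 3 (.node 1 (.leaf 0) (.node 1 (.leaf 0) (.leaf 0))) (.node 2 (.node 1 (.leaf 0) (.leaf 0)) (.node 1 (.leaf 0) (.leaf 0))))) (.node 7 (.node 3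 (.node 1 (.leaf 0) (.node 1 (.leaf 0) (.leaf 0))) (.node 2 (.node 1 (.leaf 0) (.leaf 0)) (.node 1 (.leaf 0) (.leaf 0)))) (.node 3 (.node 1 (.leaf 0) (.node 1 (.leaf 0) (.leaf 0))) (.node 2 (.node 1 (.leaf 0) (.leaf 0)) (.node 1 (.leaf 0) (.leaf 0))))))))))))

/-- A chain. -/
def chainU : List (Nat × Nat × Nat) :=
  [(155, 13, 13), (1, 13, 1), (72, 13, 1)]

/-- A chain. -/
def chainH : List (Nat × Nat × Nat) :=
  [(257, 2, 12), (0, 1, 4), (854, 6, 3), (282, 6, 1), (37, 6, 1), (21, 6, 1), (155, 6, 1)]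

end Cfsg.Lib.CosetEnum.SuzOut
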