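import Cfsg.Agent.Lib.CosetEnum.SuzG24.Data
import Cfsg.Agent.Lib.CosetEnum.SuzOut.Data
import Cfsg.Agent.Lib.CosetEnum.Groups.Suz

/-!
# Checks for the outer automorphisms of the Suzuki sporadic group

The group acts on the 1782 vertices of a rank three graph.  The centraliser of an element inside the
automorphisms of the graph is bounded along a short chain of fixed vertices, using the neighbour masks of
these vertices only.
-/

set_option autoImplicit false

namespace Cfsg.Lib.CosetEnum.SuzOut

/-- Read a word in the table. -/
noncomputable def swalk (w : List Nat) (p : Nat) : Nat := twalk SuzG24.tabP 7 w p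

/-- The base. -/
def basePts : List Nat := [0, 1, 2, 4, 8, 14]

/-- All letters are generators. -/
def letters (w : List Nat) : Bool := w.all fun g => Nat.blt g 7

/-- The two words give the same element. -/
noncomputable def sameW (u v : List Nat) : Bool :=
  basePts.all fun p => Nat.beq (swalk u p) (swalk v p)

/-- The images of the base under a word, packed. -/
noncomputable def keyOf (w : List Nat) : Nat :=
  basePts.foldl (fun acc p => acc * 4096 + swalk w p) 0

/-- A list of numbers without repetitions. -/
def nodupB : List Nat → Bool
  | [] => true
  | a :: l => (l.all fun b => !Nat.beq a b) && nodupB l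

/-- A word packed four bits a letter. -/
def unpackW : Nat → Nat → List Nat
  | 0, _ => []
  | n + 1, c => cond (Nat.beq c 0) [] ((c % 16 - 1) :: unpackW n (c / 16))

/-- A word moving a point to the first point. -/
noncomputable def repW (p : Nat) : List Nat := force (repTab.get p) fun c => unpackW 24 c

/-- Membership in the short suborbit. -/
noncomputable def inO (z : Nat) : Bool :=
  Nat.blt (SuzG24.pos0.getP z) 416 && Nat.beq (SuzG24.orb0.getP (SuzG24.pos0.getP z) / B / B) z

/-- Adjacency in the graph. -/
noncomputable def relB (x y : Nat) : Bool := inO (swalk (repW x) y)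

/-- The transversal words. -/
noncomputable def repsOK : Nat → Nat → Bool
  | 0, _ => true
  | n + 1, v => force v fun v => (letters (repW v) && Nat.beq (swalk (repW v) v) 0) && repsOK n (v + 1)

/-- The mask of the neighbours of a point. -/
noncomputable def rowCalc (w : List Nat) : Nat → Nat → Nat → Nat
  | 0, _, acc => acc
  | n + 1, j, acc => force (swalk w (SuzG24.orb0.getP j / B / B)) fun t =>
      force (Nat.lor acc (Nat.shiftLeft 1 t)) fun a => rowCalc w n (j + 1) a

/-- The mask of a listed point. -/
noncomputable def row (x : Nat) : Nat := rowTab.get x

/-- The listed masks are right. -/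
noncomputable def rowsOK (ps : List Nat) : Bool :=
  ps.all fun x => Nat.blt x 1782 && Nat.beq (rowCalc (repW x).reverse 416 0 0) (row x)

/-- All points. -/
def fullMask : Nat := 2 ^ 1782 - 1

/-- The points related to the fixed ones like `x`. -/
noncomputable def domOf : List Nat → Nat → Nat
  | [], _ => fullMask
  | a :: S, x => force (domOf S x) fun d => force (row a) fun r =>
      cond (Nat.beq (Nat.land (Nat.shiftRight r x) 1) 1) (Nat.land d r)
        (Nat.xor d (Nat.land d (Nat.lor r (Nat.shiftLeft 1 a))))

/-- The points of a mask. -/
noncomputable def bitsOf (d : Nat) : List Nat :=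
  (List.range 28).flatMap fun k => force (Nat.land (Nat.shiftRight d (64 * k)) 18446744073709551615) fun c =>
    cond (Nat.beq c 0) [] (((List.range 64).filter fun i => Nat.beq (Nat.land (Nat.shiftRight c i) 1) 1).map fun i => 64 * k + i)

/-- The orbits of two points under the permutation look alike. -/
noncomputable def sigEq (Z : Tab) (x p : Nat) : Nat → Nat → Nat → Bool
  | 0, _, _ => true
  | n + 1, a, b => force (Z.get a) fun a' => force (Z.get b) fun b' =>
      (relB x a' == relB p b') && (Nat.beq a' x == Nat.beq b' p) && sigEq Z x p n a' b'

/-- An orbit of the permutation. -/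
noncomputable def orbZ (Z : Tab) : Nat → Nat → List Nat
  | 0, _ => []
  | n + 1, a => a :: orbZ Z n (Z.get a)

/-- One step and the following ones: points, orbit lengths and bounds. -/
noncomputable def chainOK (Z : Tab) : List (Nat × Nat × Nat) → List Nat → Bool
  | [], S => (List.range 1782).all fun v => S.any (Nat.beq v) || Nat.beq (domOf S v) (Nat.shiftLeft 1 v)
  | (x, L, n) :: rest, S =>
      !S.any (Nat.beq x) && Nat.blt x 1782 && Nat.ble ((bitsOf (domOf S x)).filter fun p => sigEq Z x p L x p).length n &&
        (orbZ Z L x).all (fun a => rowPts.any (Nat.beq a)) && chainOK Z rest (orbZ Z L x ++ S)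

/-- The product of the bounds. -/
def chainSize : List (Nat × Nat × Nat) → Nat
  | [] => 1
  | (_, _, n) :: rest => n * chainSize rest

/-- A table agrees with a word. -/
noncomputable def tabOK (Z : Tab) (w : List Nat) : Nat → Nat → Bool
  | 0, _ => true
  | n + 1, v => force v fun v => Nat.beq (Z.get v) (swalk w v) && tabOK Z w n (v + 1)

/-- The facts on the graph automorphism at every point. -/
noncomputable def sigmaOK : Nat → Nat → Bool
  | 0, _ => true
  | n + 1, v => force v fun v => force (sigTab.get v) fun t =>
      (Nat.blt t 1782 && Nat.beq (sigTab.get t) v && Nat.beq (sigTab.get (tabH.get v)) (tabH.get t) &&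
        ((Nat.beq t v) == sigFix.any (Nat.beq v))) && sigmaOK n (v + 1)

/-- The conjugate of a generator by the graph automorphism. -/
noncomputable def sigConjOK (g : Nat) : Nat → Nat → Bool
  | 0, _ => true
  | n + 1, v => force v fun v =>
      Nat.beq (sigTab.get (swalk [g] (sigTab.get v))) (swalk (sigImages.getD g []) v) && sigConjOK g n (v + 1)

/-- The point stabiliser fixes only the first point. -/
noncomputable def movedOK : Nat → Nat → Bool
  | 0, _ => true
  | n + 1, v => force v fun v =>
      (Nat.beq v 0 || [0, 1, 2, 3, 4, 5].any fun g => !Nat.beq (swalk [g] v) v) && movedOK n (v + 1)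

/-- Substitute three words and two inverses for five letters. -/
def letW (U H Y : List Nat) : Nat → List Nat
  | 0 => U
  | 1 => H
  | 2 => Y
  | 3 => U.reverse
  | _ => H.reverse

/-- A word in the three elements. -/
def subW (U H Y w : List Nat) : List Nat := w.flatMap (letW U H Y)

/-- A power of a test word. -/
def testPow (U Y : List Nat) (j : Nat) : List Nat :=
  (List.replicate (testOrd.getD j 1) (subW U wordH Y (testWords.getD j []))).flatten

/-- Facts on the three elements. -/
noncomputable def elemsOK : Bool :=
  letters wordU && letters wordH && letters wordX &&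
  candWords.all letters && sigImages.all letters &&
  Nat.beq candWords.length 72 &&
  ((List.range 7).all fun g => sameW (subW wordU wordH wordX (genWords.getD g [])) [g]) &&
  sameW (List.replicate 13 wordU).flatten [] && !sameW wordU [] &&
  sameW (wordH.reverse ++ wordU ++ wordH) (wordU ++ wordU ++ wordU ++ wordU) &&
  sameW (wordX ++ wordH) (wordH ++ wordX) &&
  (List.range testWords.length).all fun j => sameW (testPow wordU wordX j) []

/-- The candidates commute and are distinct. -/
noncomputable def candOK : Bool :=
  (candWords.all fun c => sameW (c ++ wordH) (wordH ++ c)) && nodupB (candWords.map keyOf)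

/-- All candidates but one are excluded. -/
noncomputable def exclOK (U : List Nat) (code : List Nat) : Bool :=
  ((List.range 72).all fun i => force (code.getD i 0) fun c =>
    Nat.beq c 0 || (Nat.ble c testWords.length && !sameW (testPow U (candWords.getD i []) (c - 1)) [])) &&
    Nat.ble ((List.range 72).filter fun i => Nat.beq (code.getD i 0) 0).length 1

end Cfsg.Lib.CosetEnum.SuzOut
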